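import Groth.Agent.Misc8.PinchMod
import Groth.Agent.EtaleAlgebra.Milnor
import Groth.Agent.Flatmor4.FlatModAffine
import Groth.Agent.LocFree.Affine

/-! Flatness and finite projectivity over pinching squares. -/

set_option autoImplicit false

universe u

open CategoryTheory CategoryTheory.Limits AlgebraicGeometry Groth.QCohMod
open scoped TensorProduct

namespace Groth.Misc8.PinchMod

section Ring

variable {A : Type u} [CommRing A] (M : Type u) [AddCommGroup M] [Module A M]
  {A' B : Type u} [CommRing A'] [CommRing B] [Algebra A A'] [Algebra A B]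
  (hsurj : Function.Surjective (algebraMap A A'))
  (hinj : RingHom.ker (algebraMap A B) ⊓ RingHom.ker (algebraMap A A') = ⊥)
  (himg : ∀ b ∈ Ideal.map (algebraMap A B) (RingHom.ker (algebraMap A A')),
    ∃ i ∈ RingHom.ker (algebraMap A A'), algebraMap A B i = b)

include hsurj hinj himg in
theorem exists_fibreSquare : ∃ (C : Type u) (_ : CommRing C) (_ : Algebra A' C) (_ : Algebra B C) (_ : Algebra A C)
    (_ : IsScalarTower A A' C) (_ : IsScalarTower A B C), EtMil.IsFibreSquare A A' B C := by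
  let J : Ideal B := (RingHom.ker (algebraMap A A')).map (algebraMap A B)
  let qA : A →+* B ⧸ J := (Ideal.Quotient.mk J).comp (algebraMap A B)
  let ρ : A' →+* B ⧸ J := (algebraMap A A').liftOfSurjective hsurj ⟨qA, fun i hi => RingHom.mem_ker.mpr
    (Ideal.Quotient.eq_zero_iff_mem.mpr (Ideal.mem_map_of_mem _ hi))⟩
  have hρ : ∀ a, ρ (algebraMap A A' a) = qA a := fun a =>
    (algebraMap A A').liftOfRightInverse_comp_apply _ _ _ a
  let := ρ.toAlgebra
  refine ⟨B ⧸ J, inferInstance, ρ.toAlgebra, inferInstance, inferInstance,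
    IsScalarTower.of_algebraMap_eq fun a => (hρ a).symm, inferInstance, Ideal.Quotient.mk_surjective, ?_⟩
  intro b a' hba
  obtain ⟨x, rfl⟩ := hsurj b
  have hba' : Ideal.Quotient.mk J (algebraMap A B x) = Ideal.Quotient.mk J a' := (hρ x).symm.trans hba
  obtain ⟨i, hi, hie⟩ := himg _ (Ideal.Quotient.eq.mp hba'.symm)
  refine ⟨x + i, ⟨by rw [map_add, RingHom.mem_ker.mp hi, add_zero], by rw [map_add, hie]; ring⟩, fun y hy => ?_⟩
  have h1 : y - (x + i) ∈ RingHom.ker (algebraMap A B) ⊓ RingHom.ker (algebraMap A A') := by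
    constructor
    · show algebraMap A B (y - (x + i)) = 0
      rw [map_sub, hy.2, map_add, hie]; ring
    · show algebraMap A A' (y - (x + i)) = 0
      rw [map_sub, hy.1, map_add, RingHom.mem_ker.mp hi]; ring
  rw [hinj, Ideal.mem_bot, sub_eq_zero] at h1
  exact h1

include hsurj hinj himg in
theorem flat_of_pinching (h1 : Module.Flat A' (A' ⊗[A] M)) (h2 : Module.Flat B (B ⊗[A] M)) : Module.Flat A M := by
  obtain ⟨C, _, _, _, _, _, _, hsq⟩ := exists_fibreSquare hsurj hinj himg
  exact Groth.EtaleAlgebra.Milnor.flat_of_baseChange hsq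

include hsurj hinj himg in
theorem finite_projective_of_pinching (h1 : Module.Finite A' (A' ⊗[A] M)) (h1' : Module.Projective A' (A' ⊗[A] M))
    (h2 : Module.Finite B (B ⊗[A] M)) (h2' : Module.Projective B (B ⊗[A] M)) :
    Module.Finite A M ∧ Module.Projective A M := by
  obtain ⟨C, _, _, _, _, _, _, hsq⟩ := exists_fibreSquare hsurj hinj himg
  have := Module.finitePresentation_of_projective A' (A' ⊗[A] M)
  have := Module.finitePresentation_of_projective B (B ⊗[A] M)
  have := Groth.EtaleAlgebra.Milnor.flat_of_baseChange hsq (L' := M)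
  have := Groth.EtaleAlgebra.Milnor.finitePresentation_of_baseChange hsq (L' := M)
  exact ⟨inferInstance, Module.Flat.projective_of_finitePresentation⟩

end Ring

variable {X : Scheme.{u}} (M : X.Modules) [M.IsQuasicoherent]

omit [M.IsQuasicoherent] in
theorem flat_stalk_iff {U : X.Opens} (hU : IsAffineOpen U) (x : X) (hx : x ∈ U) :
    (letI := stalkModule M x hx; Module.Flat Γ(X, U) (M.presheaf.stalk x)) ↔ FlatMod.IsFlatAt M x := by
  let := stalkModule M x hx
  let := TopCat.Presheaf.algebra_section_stalk X.presheaf ⟨x, hx⟩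
  have : IsScalarTower Γ(X, U) (X.presheaf.stalk x) (M.presheaf.stalk x) := IsScalarTower.of_compHom _ _ _
  have := hU.isLocalization_stalk ⟨x, hx⟩
  exact (Module.flat_iff_of_isLocalization (X.presheaf.stalk x)
    (hU.primeIdealOf ⟨x, hx⟩).asIdeal.primeCompl (M.presheaf.stalk x)).symm

theorem flat_sections (h : FlatMod.IsFlat M) {U : X.Opens} (hU : IsAffineOpen U) :
    Module.Flat Γ(X, U) Γ(M, U) := by
  have hpt : ∀ P : Ideal Γ(X, U), P.IsMaximal →
      ∃ (x : X) (hx : x ∈ U), (hU.primeIdealOf ⟨x, hx⟩).asIdeal = P := by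
    intro P hP
    let q : PrimeSpectrum Γ(X, U) := ⟨P, hP.isPrime⟩
    have hqU : hU.fromSpec q ∈ U := by
      change hU.fromSpec q ∈ (U : Set X)
      rw [← hU.range_fromSpec]; exact ⟨q, rfl⟩
    exact ⟨_, hqU, congrArg PrimeSpectrum.asIdeal
      (hU.fromSpec.isOpenEmbedding.injective (hU.fromSpec_primeIdealOf ⟨_, hqU⟩))⟩
  choose pt hmem heq using hpt
  let Mp : ∀ (P : Ideal Γ(X, U)) [P.IsMaximal], Type u := fun P hP => M.presheaf.stalk (pt P hP)
  letI : ∀ (P : Ideal Γ(X, U)) [P.IsMaximal], AddCommGroup (Mp P) := fun P hP =>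
    inferInstanceAs (AddCommGroup (M.presheaf.stalk (pt P hP)))
  letI : ∀ (P : Ideal Γ(X, U)) [P.IsMaximal], Module Γ(X, U) (Mp P) := fun P hP =>
    stalkModule M _ (hmem P hP)
  let gm : ∀ (P : Ideal Γ(X, U)) [P.IsMaximal], Γ(M, U) →ₗ[Γ(X, U)] Mp P := fun P hP =>
    germₗ M _ (hmem P hP)
  haveI : ∀ (P : Ideal Γ(X, U)) [P.IsMaximal], IsLocalizedModule P.primeCompl (gm P) := fun P hP => by
    have h := isLocalizedModule_germ M hU _ (hmem P hP)
    convert! h using 1
    simp only [heq]
  refine Module.flat_of_isLocalized_maximal Γ(X, U) Γ(M, U) Mp gm fun P hP => ?_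
  exact (flat_stalk_iff M hU _ (hmem P hP)).mpr (h _)

theorem isFlat_of_affine_cover
    (h : ∀ x, ∃ U : X.Opens, IsAffineOpen U ∧ x ∈ U ∧ Module.Flat Γ(X, U) Γ(M, U)) : FlatMod.IsFlat M := by
  intro x
  obtain ⟨U, hU, hx, hflat⟩ := h x
  let := stalkModule M x hx
  have := isLocalizedModule_germ M hU x hx
  exact (flat_stalk_iff M hU x hx).mp
    (Groth.Flatmor4.flat_of_isLocalizedModule_tower (R := Γ(X, U)) (A := Γ(X, U))
      (hU.primeIdealOf ⟨x, hx⟩).asIdeal.primeCompl (germₗ M x hx))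

end Groth.Misc8.PinchMod
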