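import Groth.Prelude.Def_EtMil
import Mathlib.RingTheory.Flat.Equalizer
import Mathlib.RingTheory.Flat.Stability
import Mathlib.RingTheory.Flat.Basic
import Mathlib.LinearAlgebra.TensorProduct.Prod

/-! Fibre squares with flat corners. -/

namespace Groth.Misc8.FibreSquare

open TensorProduct

universe u v

theorem flat_of_shortExact {R : Type u} [CommRing R] {M N P : Type u} [AddCommGroup M] [AddCommGroup N]
    [AddCommGroup P] [Module R M] [Module R N] [Module R P] [Module.Flat R N] [Module.Flat R P]
    (g : M →ₗ[R] N) (f : N →ₗ[R] P) (hg : Function.Injective g) (hf : Function.Surjective f)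
    (H : Function.Exact g f) : Module.Flat R M := by
  rw [Module.Flat.iff_rTensor_preserves_injective_linearMap]
  intro N₁ N₂ _ _ _ _ i hi
  have h1 : Function.Injective ((g.lTensor N₂).comp (i.rTensor M)) := by
    rw [LinearMap.lTensor_comp_rTensor, ← LinearMap.rTensor_comp_lTensor, LinearMap.coe_comp]
    exact (Module.Flat.rTensor_preserves_injective_linearMap i hi).comp
      (LinearMap.lTensor_injective_of_exact_of_flat f hf g hg H N₁)
  rw [LinearMap.coe_comp] at h1
  exact h1.of_comp

theorem flat_prod {R : Type u} [CommRing R] {N P : Type u} [AddCommGroup N] [AddCommGroup P]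
    [Module R N] [Module R P] [Module.Flat R N] [Module.Flat R P] : Module.Flat R (N × P) := by
  rw [Module.Flat.iff_lTensor_preserves_injective_linearMap]
  intro N₁ N₂ _ _ _ _ i hi x y hxy
  apply (TensorProduct.prodLeft R R N P N₁).injective
  have h : ∀ z, TensorProduct.prodLeft R R N P N₂ (i.lTensor (N × P) z) =
      Prod.map (i.lTensor N) (i.lTensor P) (TensorProduct.prodLeft R R N P N₁ z) := by
    intro z
    induction z with
    | zero => simp only [map_zero]; exact (Prod.ext (map_zero _) (map_zero _)).symm
    | tmul a b => obtain ⟨a₁, a₂⟩ := a; simp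
    | add a b ha hb => simp only [map_add, ha, hb, Prod.map, Prod.fst_add, Prod.snd_add]; rfl
  have := congrArg (TensorProduct.prodLeft R R N P N₂) hxy
  rw [h, h] at this
  exact ((Module.Flat.lTensor_preserves_injective_linearMap i hi).prodMap
    (Module.Flat.lTensor_preserves_injective_linearMap i hi)) this

variable {R B' B A' A : Type u} [CommRing R] [CommRing B'] [CommRing B] [CommRing A'] [CommRing A]
    [Algebra B' B] [Algebra B' A'] [Algebra B A] [Algebra A' A] [Algebra B' A]
    [IsScalarTower B' B A] [IsScalarTower B' A' A]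
    [Algebra R B'] [Algebra R B] [Algebra R A'] [Algebra R A]
    [IsScalarTower R B' B] [IsScalarTower R B' A'] [IsScalarTower R B' A] [IsScalarTower R B A]
    [IsScalarTower R A' A]

variable (R B' B A') in
noncomputable def incl : B' →ₗ[R] B × A' :=
  (IsScalarTower.toAlgHom R B' B).toLinearMap.prod (IsScalarTower.toAlgHom R B' A').toLinearMap

variable (R B A' A) in
noncomputable def diff : B × A' →ₗ[R] A :=
  (IsScalarTower.toAlgHom R B A).toLinearMap ∘ₗ LinearMap.fst R B A' -
    (IsScalarTower.toAlgHom R A' A).toLinearMap ∘ₗ LinearMap.snd R B A'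

theorem incl_injective (hsq : EtMil.IsFibreSquare B' B A' A) : Function.Injective (incl R B' B A') := by
  intro x y h
  simp [incl] at h
  obtain ⟨z, -, hz⟩ := hsq.2 (algebraMap B' B x) (algebraMap B' A' x)
    (by rw [← IsScalarTower.algebraMap_apply, ← IsScalarTower.algebraMap_apply])
  exact (hz x ⟨rfl, rfl⟩).trans (hz y ⟨h.1.symm, h.2.symm⟩).symm

theorem diff_surjective (hsq : EtMil.IsFibreSquare B' B A' A) : Function.Surjective (diff R B A' A) := by
  intro a
  obtain ⟨x, rfl⟩ := hsq.1 (-a) |>.imp fun x (h : algebraMap A' A x = -a) => (neg_eq_iff_eq_neg.mpr h : -algebraMap A' A x = a)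
  exact ⟨(0, x), by simp [diff]⟩

theorem exact (hsq : EtMil.IsFibreSquare B' B A' A) : Function.Exact (incl R B' B A') (diff R B A' A) := by
  intro x
  simp only [diff, incl, LinearMap.sub_apply, LinearMap.comp_apply, LinearMap.fst_apply, LinearMap.snd_apply,
    sub_eq_zero, Set.mem_range, LinearMap.prod_apply, Prod.ext_iff, AlgHom.toLinearMap_apply,
    IsScalarTower.coe_toAlgHom']
  constructor
  · intro h
    obtain ⟨z, hz, -⟩ := hsq.2 _ _ h
    exact ⟨z, hz⟩
  · rintro ⟨z, h1, h2⟩
    rw [← h1, ← h2]
    exact (IsScalarTower.algebraMap_apply B' B A z).symm.trans (IsScalarTower.algebraMap_apply B' A' A z)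

theorem flat_corner (hsq : EtMil.IsFibreSquare B' B A' A)
    [Module.Flat R B] [Module.Flat R A'] [Module.Flat R A] : Module.Flat R B' :=
  have : Module.Flat R (B × A') := flat_prod
  flat_of_shortExact (incl R B' B A') (diff R B A' A) (incl_injective hsq) (diff_surjective hsq) (exact hsq)

theorem baseChange (hsq : EtMil.IsFibreSquare B' B A' A)
    [Module.Flat R B] [Module.Flat R A'] [Module.Flat R A]
    (R' : Type u) [CommRing R'] [Algebra R R'] :
    Function.Surjective (Algebra.TensorProduct.map (AlgHom.id R R') (IsScalarTower.toAlgHom R A' A)) ∧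
    ∀ (x : R' ⊗[R] B) (y : R' ⊗[R] A'),
      Algebra.TensorProduct.map (AlgHom.id R R') (IsScalarTower.toAlgHom R B A) x =
        Algebra.TensorProduct.map (AlgHom.id R R') (IsScalarTower.toAlgHom R A' A) y →
      ∃! z : R' ⊗[R] B',
        Algebra.TensorProduct.map (AlgHom.id R R') (IsScalarTower.toAlgHom R B' B) z = x ∧
        Algebra.TensorProduct.map (AlgHom.id R R') (IsScalarTower.toAlgHom R B' A') z = y := by
  have hl : ∀ (M N : Type u) [CommRing M] [CommRing N] [Algebra R M] [Algebra R N] (f : M →ₐ[R] N) (t : R' ⊗[R] M),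
      Algebra.TensorProduct.map (AlgHom.id R R') f t = f.toLinearMap.lTensor R' t := fun _ _ _ _ _ _ f t => rfl
  refine ⟨?_, ?_⟩
  · intro t
    obtain ⟨s, hs⟩ := LinearMap.lTensor_surjective R' (g := (IsScalarTower.toAlgHom R A' A).toLinearMap) hsq.1 t
    exact ⟨s, by rw [hl]; exact hs⟩
  intro x y h
  simp only [hl] at h ⊢
  let e := TensorProduct.prodRight R R R' B A'
  have h1 : ∀ z, e ((incl R B' B A').lTensor R' z) =
      ((IsScalarTower.toAlgHom R B' B).toLinearMap.lTensor R' z,
        (IsScalarTower.toAlgHom R B' A').toLinearMap.lTensor R' z) := by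
    intro z
    induction z with
    | zero => simp only [map_zero]; rfl
    | tmul a b => simp [e, incl]
    | add a b ha hb => simp only [map_add, ha, hb, Prod.mk_add_mk]
  have h2 : ∀ w, (diff R B A' A).lTensor R' w = (IsScalarTower.toAlgHom R B A).toLinearMap.lTensor R' (e w).1 -
      (IsScalarTower.toAlgHom R A' A).toLinearMap.lTensor R' (e w).2 := by
    intro w
    induction w with
    | zero => simp
    | tmul a b => simp [e, diff, TensorProduct.tmul_sub]
    | add a b ha hb => simp only [map_add, Prod.fst_add, Prod.snd_add, ha, hb]; abel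
  have h0 : (diff R B A' A).lTensor R' (e.symm (x, y)) = 0 := by
    rw [h2, LinearEquiv.apply_symm_apply, h, sub_self]
  obtain ⟨z, hz⟩ := (lTensor_exact R' (exact hsq) (diff_surjective hsq) _).mp h0
  have hz' := congrArg e hz
  rw [h1, LinearEquiv.apply_symm_apply, Prod.mk.injEq] at hz'
  refine ⟨z, hz', fun w hw => ?_⟩
  apply LinearMap.lTensor_injective_of_exact_of_flat _ (diff_surjective hsq) _ (incl_injective hsq) (exact hsq) R'
  apply e.injective
  rw [h1, h1, hw.1, hw.2, hz'.1, hz'.2]

end Groth.Misc8.FibreSquare
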