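import Groth.Prelude.Def_GLin
import Groth.Agent.GitQuot.AffGpd.BaseChange
import Mathlib.RingTheory.HopfAlgebra.Convolution
import Mathlib.Algebra.Category.Ring.Constructions

/-! The affine groupoid of a coaction of a finite projective Hopf algebra. -/

set_option autoImplicit false

universe u

open CategoryTheory TensorProduct WithConv

noncomputable section

namespace Groth.Misc8.Coact

variable (R A B : Type u) [CommRing R] [CommRing A] [HopfAlgebra R A] [CommRing B] [Algebra R B]

/-- `f ⊗ id` squares are pushouts. -/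
theorem isPushout_map {B' : Type u} [CommRing B'] [Algebra R B'] (f : B →ₐ[R] B') :
    IsPushout (CommRingCat.ofHom f.toRingHom)
      (CommRingCat.ofHom (Algebra.TensorProduct.includeLeftRingHom : B →+* B ⊗[R] A))
      (CommRingCat.ofHom (Algebra.TensorProduct.includeLeftRingHom : B' →+* B' ⊗[R] A))
      (CommRingCat.ofHom (Algebra.TensorProduct.map f (AlgHom.id R A)).toRingHom) := by
  refine IsPushout.of_left ?_ ?_ (CommRingCat.isPushout_tensorProduct R B A)
  · convert CommRingCat.isPushout_tensorProduct R B' A using 1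
    · ext r; exact f.commutes r
    · ext a
      show Algebra.TensorProduct.map f (AlgHom.id R A) ((1 : B) ⊗ₜ[R] a) = (1 : B') ⊗ₜ[R] a
      rw [Algebra.TensorProduct.map_tmul, map_one]; rfl
  · ext b
    show f b ⊗ₜ[R] (1 : A) = Algebra.TensorProduct.map f (AlgHom.id R A) (b ⊗ₜ[R] (1 : A))
    rw [Algebra.TensorProduct.map_tmul]; rfl

instance convGrp {C : Type u} [CommRing C] [Algebra R C] : Group (WithConv (A →ₐ[R] C)) where
  inv f := toConv (f.ofConv.comp (HopfAlgebra.antipodeAlgHom R A))
  inv_mul_cancel f := by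
    apply WithConv.ofConv_injective
    have h := AlgHom.comp_convMul_distrib f.ofConv (toConv (HopfAlgebra.antipodeAlgHom R A))
      (toConv (AlgHom.id R A))
    rw [AlgHom.antipode_id_cancel, ofConv_toConv, ofConv_toConv, AlgHom.comp_id, toConv_ofConv] at h
    rw [← h]
    apply AlgHom.ext; intro a
    exact f.ofConv.commutes _

/-- first group coordinate -/
def i1 : A →ₐ[R] (B ⊗[R] A) ⊗[R] A :=
  (Algebra.TensorProduct.includeLeft : B ⊗[R] A →ₐ[R] (B ⊗[R] A) ⊗[R] A).comp Algebra.TensorProduct.includeRight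

/-- second group coordinate -/
def i2 : A →ₐ[R] (B ⊗[R] A) ⊗[R] A := Algebra.TensorProduct.includeRight

/-- `(x, g, h) ↦ (x, g, g h)` on functions -/
def shear : (B ⊗[R] A) ⊗[R] A →ₐ[R] (B ⊗[R] A) ⊗[R] A :=
  Algebra.TensorProduct.lift Algebra.TensorProduct.includeLeft (toConv (i1 R A B) * toConv (i2 R A B)).ofConv
    fun _ _ => .all _ _

/-- its inverse -/
def shearInv : (B ⊗[R] A) ⊗[R] A →ₐ[R] (B ⊗[R] A) ⊗[R] A :=
  Algebra.TensorProduct.lift Algebra.TensorProduct.includeLeft ((toConv (i1 R A B))⁻¹ * toConv (i2 R A B)).ofConv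
    fun _ _ => .all _ _

theorem shear_includeLeft (f : A →ₐ[R] (B ⊗[R] A) ⊗[R] A) :
    (Algebra.TensorProduct.lift (Algebra.TensorProduct.includeLeft : B ⊗[R] A →ₐ[R] (B ⊗[R] A) ⊗[R] A) f
      fun _ _ => .all _ _).comp (Algebra.TensorProduct.includeLeft : B ⊗[R] A →ₐ[R] (B ⊗[R] A) ⊗[R] A) =
      Algebra.TensorProduct.includeLeft :=
  Algebra.TensorProduct.lift_comp_includeLeft _ _ _

theorem shear_comp_shearInv : (shear R A B).comp (shearInv R A B) = AlgHom.id R _ := by
  apply Algebra.TensorProduct.ext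
  · rw [AlgHom.comp_assoc]
    unfold shearInv shear
    rw [Algebra.TensorProduct.lift_comp_includeLeft, Algebra.TensorProduct.lift_comp_includeLeft]
    rfl
  · have h1 : (shear R A B).comp (i1 R A B) = i1 R A B := by
      rw [i1, ← AlgHom.comp_assoc, shear, Algebra.TensorProduct.lift_comp_includeLeft]
    have h2 : (shear R A B).comp (i2 R A B) = (toConv (i1 R A B) * toConv (i2 R A B)).ofConv := by
      apply AlgHom.ext; intro a
      simp [shear, i2]
    have h3 : (shear R A B).comp ((toConv (i1 R A B))⁻¹).ofConv = ((toConv (i1 R A B))⁻¹).ofConv := by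
      show (shear R A B).comp ((i1 R A B).comp (HopfAlgebra.antipodeAlgHom R A)) =
        (i1 R A B).comp (HopfAlgebra.antipodeAlgHom R A)
      rw [← AlgHom.comp_assoc, h1]
    apply AlgHom.ext; intro a
    show shear R A B (shearInv R A B ((1 : B ⊗[R] A) ⊗ₜ[R] a)) = (1 : B ⊗[R] A) ⊗ₜ[R] a
    rw [shearInv, Algebra.TensorProduct.lift_tmul, map_one, one_mul, ← AlgHom.comp_apply,
      AlgHom.comp_convMul_distrib, h2, h3]
    simp only [toConv_ofConv, inv_mul_cancel_left]
    rfl

theorem shearInv_comp_shear : (shearInv R A B).comp (shear R A B) = AlgHom.id R _ := by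
  apply Algebra.TensorProduct.ext
  · rw [AlgHom.comp_assoc]
    unfold shearInv shear
    rw [Algebra.TensorProduct.lift_comp_includeLeft, Algebra.TensorProduct.lift_comp_includeLeft]
    rfl
  · have h1 : (shearInv R A B).comp (i1 R A B) = i1 R A B := by
      rw [i1, ← AlgHom.comp_assoc, shearInv, Algebra.TensorProduct.lift_comp_includeLeft]
    have h2 : (shearInv R A B).comp (i2 R A B) = ((toConv (i1 R A B))⁻¹ * toConv (i2 R A B)).ofConv := by
      apply AlgHom.ext; intro a
      simp [shearInv, i2]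
    apply AlgHom.ext; intro a
    show shearInv R A B (shear R A B ((1 : B ⊗[R] A) ⊗ₜ[R] a)) = (1 : B ⊗[R] A) ⊗ₜ[R] a
    rw [shear, Algebra.TensorProduct.lift_tmul, map_one, one_mul, ← AlgHom.comp_apply,
      AlgHom.comp_convMul_distrib]
    simp only [ofConv_toConv, h1, h2, toConv_ofConv, mul_inv_cancel_left]
    rfl

/-- the shear as an isomorphism -/
def shearEquiv : (B ⊗[R] A) ⊗[R] A ≃ₐ[R] (B ⊗[R] A) ⊗[R] A :=
  AlgEquiv.ofAlgHom (shear R A B) (shearInv R A B) (shear_comp_shearInv R A B) (shearInv_comp_shear R A B)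

/-- composition of arrows on functions -/
def gamma : B ⊗[R] A →ₐ[R] (B ⊗[R] A) ⊗[R] A :=
  (shear R A B).comp (Algebra.TensorProduct.map Algebra.TensorProduct.includeLeft (AlgHom.id R A))

theorem gamma_eq : gamma R A B = (Algebra.TensorProduct.assoc R R R B A A).symm.toAlgHom.comp
    (Algebra.TensorProduct.map (AlgHom.id R B) (Bialgebra.comulAlgHom R A)) := by
  apply Algebra.TensorProduct.ext
  · apply AlgHom.ext; intro b
    simp [gamma, shear, Algebra.TensorProduct.one_def, Bialgebra.comul_one]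
  · apply AlgHom.ext; intro a
    have e : Algebra.TensorProduct.lift (i1 R A B) (i2 R A B) (fun _ _ => .all _ _) =
        (Algebra.TensorProduct.assoc R R R B A A).symm.toAlgHom.comp Algebra.TensorProduct.includeRight := by
      apply Algebra.TensorProduct.ext'
      intro x y
      simp [i1, i2]
    show shear R A B (Algebra.TensorProduct.map Algebra.TensorProduct.includeLeft (AlgHom.id R A)
      ((1 : B) ⊗ₜ[R] a)) = (Algebra.TensorProduct.assoc R R R B A A).symm
        (Algebra.TensorProduct.map (AlgHom.id R B) (Bialgebra.comulAlgHom R A) ((1 : B) ⊗ₜ[R] a))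
    rw [Algebra.TensorProduct.map_tmul, Algebra.TensorProduct.map_tmul, map_one, AlgHom.id_apply, shear,
      Algebra.TensorProduct.lift_tmul, map_one, one_mul]
    show (toConv (i1 R A B) * toConv (i2 R A B)) a = _
    rw [AlgHom.convMul_apply]
    simp only [ofConv_toConv, e]
    rfl

variable [HopfRep.Comod R A B] [GLin.IsCoactAlg R A B] [Module.Finite R A] [Module.Projective R A]

omit [HopfRep.Comod R A B] [GLin.IsCoactAlg R A B] in
theorem exists_dualSys : ∃ n, Nonempty (Groth.AffGpd.DualSys
    (CommRingCat.ofHom (Algebra.TensorProduct.includeLeftRingHom : B →+* B ⊗[R] A)) n) := by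
  have hfin : RingHom.Finite (algebraMap B (B ⊗[R] A)) := RingHom.finite_algebraMap.mpr (inferInstanceAs (Module.Finite B (B ⊗[R] A)))
  refine Groth.AffGpd.DualSys.exists_of_projective
    (f := CommRingCat.ofHom (Algebra.TensorProduct.includeLeftRingHom : B →+* B ⊗[R] A)) hfin ?_
  have hproj : Module.Projective B (B ⊗[R] A) := inferInstance
  have e : (Algebra.TensorProduct.includeLeftRingHom : B →+* B ⊗[R] A).toAlgebra =
      (inferInstance : Algebra B (B ⊗[R] A)) := Algebra.algebra_ext _ _ fun _ => rfl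
  show @Module.Projective B _ (B ⊗[R] A) _
    (Algebra.TensorProduct.includeLeftRingHom : B →+* B ⊗[R] A).toAlgebra.toModule
  rw [e]
  exact hproj

/-- The groupoid of a coaction: arrows `(x, g)` from `x` to `x · g`. -/
def gpd : Groth.AffGpd.{u} where
  A := CommRingCat.of B
  B := CommRingCat.of (B ⊗[R] A)
  P := CommRingCat.of ((B ⊗[R] A) ⊗[R] A)
  σ := CommRingCat.ofHom Algebra.TensorProduct.includeLeftRingHom
  τ := CommRingCat.ofHom (GLin.coactAlgHom R A B).toRingHom
  ε := CommRingCat.ofHom ((Algebra.TensorProduct.rid R R B).toAlgHom.comp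
    (Algebra.TensorProduct.map (AlgHom.id R B) (Bialgebra.counitAlgHom R A))).toRingHom
  p₁ := CommRingCat.ofHom (Algebra.TensorProduct.map (GLin.coactAlgHom R A B) (AlgHom.id R A)).toRingHom
  p₂ := CommRingCat.ofHom Algebra.TensorProduct.includeLeftRingHom
  γ := CommRingCat.ofHom (gamma R A B).toRingHom
  σ_ε := by
    ext b
    show Algebra.TensorProduct.rid R R B
      (Algebra.TensorProduct.map (AlgHom.id R B) (Bialgebra.counitAlgHom R A) (b ⊗ₜ[R] (1 : A))) = b
    simp
  τ_ε := by
    ext b
    have h := LinearMap.congr_fun (HopfRep.Comod.counit_comp (k := R) (A := A) (V := B)) b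
    show Algebra.TensorProduct.rid R R B
      (Algebra.TensorProduct.map (AlgHom.id R B) (Bialgebra.counitAlgHom R A)
        (HopfRep.Comod.coact (k := R) (A := A) b)) = b
    have e : ∀ z : B ⊗[R] A, Algebra.TensorProduct.map (AlgHom.id R B) (Bialgebra.counitAlgHom R A) z =
        (Coalgebra.counit : A →ₗ[R] R).lTensor B z := fun z => rfl
    rw [e]
    simp only [LinearMap.coe_comp, Function.comp_apply] at h
    rw [h]
    simp
  γ_τ := by
    ext b
    have h := LinearMap.congr_fun (HopfRep.Comod.coassoc (k := R) (A := A) (V := B)) b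
    simp only [LinearMap.coe_comp, Function.comp_apply, LinearEquiv.coe_coe] at h
    show gamma R A B (HopfRep.Comod.coact (k := R) (A := A) b) =
      Algebra.TensorProduct.map (GLin.coactAlgHom R A B) (AlgHom.id R A) (HopfRep.Comod.coact (k := R) (A := A) b)
    rw [gamma_eq]
    show (Algebra.TensorProduct.assoc R R R B A A).symm
      (Algebra.TensorProduct.map (AlgHom.id R B) (Bialgebra.comulAlgHom R A) (HopfRep.Comod.coact (k := R) (A := A) b)) = _
    rw [AlgEquiv.symm_apply_eq]
    exact h.symm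
  γ_σ := by
    ext b
    show gamma R A B (b ⊗ₜ[R] (1 : A)) = (b ⊗ₜ[R] (1 : A)) ⊗ₜ[R] (1 : A)
    simp [gamma_eq, Algebra.TensorProduct.one_def, Bialgebra.comul_one]
  sq := (isPushout_map R A B (GLin.coactAlgHom R A B)).flip
  sqS := by
    refine (isPushout_map R A B (Algebra.TensorProduct.includeLeft : B →ₐ[R] B ⊗[R] A)).flip.of_iso
      (Iso.refl _) (Iso.refl _) (Iso.refl _) (shearEquiv R A B).toRingEquiv.toCommRingCatIso ?_ ?_ ?_ ?_
    · simp
    · simp; rfl
    · refine CommRingCat.hom_ext (RingHom.ext fun z => ?_); rfl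
    · refine CommRingCat.hom_ext (RingHom.ext fun z => ?_)
      exact DFunLike.congr_fun (shear_includeLeft R A B (toConv (i1 R A B) * toConv (i2 R A B)).ofConv) z
  n := (exists_dualSys R A B).choose
  D := (exists_dualSys R A B).choose_spec.some

theorem mem_inv_iff (b : B) : b ∈ (gpd R A B).inv ↔ b ∈ GLin.invariants R A B :=
  ⟨fun h => Eq.symm (h : b ⊗ₜ[R] (1 : A) = HopfRep.Comod.coact (k := R) (A := A) b),
    fun h => (Eq.symm (h : HopfRep.Comod.coact (k := R) (A := A) b = b ⊗ₜ[R] (1 : A)))⟩

variable {R A B}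

/-- Transitivity of the group on geometric points with the same image in the quotient. -/
theorem exists_moving' {K : Type u} [Field K] [IsAlgClosed K] [Algebra R K] (x₁ x₂ : B →ₐ[R] K)
    (h : ∀ b ∈ GLin.invariants R A B, x₂ b = x₁ b) :
    ∃ g : A →ₐ[R] K,
      (Algebra.TensorProduct.lift x₁ g fun _ _ => .all _ _).comp (GLin.coactAlgHom R A B) = x₂ := by
  obtain ⟨ρ, hτ, hσ⟩ := (gpd R A B).exists_arrow_field (k := K) x₂.toRingHom x₁.toRingHom fun b hb =>
    h b ((mem_inv_iff R A B b).mp hb)
  have hσ' : ∀ b : B, ρ (b ⊗ₜ[R] (1 : A)) = x₁ b := fun b => RingHom.congr_fun hσ b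
  let ρA : B ⊗[R] A →ₐ[R] K :=
    { (ρ : B ⊗[R] A →+* K) with
      commutes' := fun r => by
        show ρ ((algebraMap R B r) ⊗ₜ[R] (1 : A)) = algebraMap R K r
        rw [hσ', x₁.commutes] }
  refine ⟨ρA.comp Algebra.TensorProduct.includeRight, ?_⟩
  have e : Algebra.TensorProduct.lift x₁ (ρA.comp Algebra.TensorProduct.includeRight) (fun _ _ => .all _ _) = ρA := by
    apply Algebra.TensorProduct.ext'
    intro b a
    show x₁ b * ρA ((1 : B) ⊗ₜ[R] a) = ρA (b ⊗ₜ[R] a)
    rw [← hσ' b, show ρ (b ⊗ₜ[R] (1 : A)) = ρA (b ⊗ₜ[R] (1 : A)) from rfl, ← map_mul,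
      Algebra.TensorProduct.tmul_mul_tmul, mul_one, one_mul]
  rw [e]
  exact AlgHom.ext fun b => RingHom.congr_fun hτ b

/-- Transitivity of the group on geometric fibres over the invariants. -/
theorem exists_moving (hC : Function.Bijective (algebraMap R (GLin.invariants R A B)))
    {K : Type u} [Field K] [IsAlgClosed K] [Algebra R K] (x₁ x₂ : B →ₐ[R] K) :
    ∃ g : A →ₐ[R] K,
      (Algebra.TensorProduct.lift x₁ g fun _ _ => .all _ _).comp (GLin.coactAlgHom R A B) = x₂ :=
  exists_moving' x₁ x₂ fun b hb => by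
    obtain ⟨r, hr⟩ := hC.2 ⟨b, hb⟩
    rw [show b = algebraMap R B r from congrArg Subtype.val hr.symm, x₂.commutes, x₁.commutes]

/-- `B` is integral over `R`. -/
theorem isIntegral (hC : Function.Bijective (algebraMap R (GLin.invariants R A B))) :
    Algebra.IsIntegral R B := by
  have h := (gpd R A B).isIntegral
  let e : R →+* (gpd R A B).inv := (algebraMap R B).codRestrict _ fun r =>
    (mem_inv_iff R A B _).mpr (Subalgebra.algebraMap_mem _ r)
  have he : Function.Surjective e := fun z => by
    obtain ⟨r, hr⟩ := hC.2 ⟨z.1, (mem_inv_iff R A B _).mp z.2⟩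
    exact ⟨r, Subtype.ext ((congrArg Subtype.val hr :) : algebraMap R B r = z.1)⟩
  have h2 : ((gpd R A B).inv.subtype).IsIntegral := fun b => h.isIntegral b
  exact ⟨fun b => RingHom.IsIntegral.trans e (gpd R A B).inv.subtype (RingHom.isIntegral_of_surjective e he) h2 b⟩

/-- `B` is integral over its invariants. -/
theorem isIntegral_val : (GLin.invariants R A B).val.toRingHom.IsIntegral := fun b => by
  let e : (gpd R A B).inv →+* GLin.invariants R A B :=
    { toFun := fun z => ⟨z.1, (mem_inv_iff R A B _).mp z.2⟩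
      map_one' := rfl
      map_mul' := fun _ _ => rfl
      map_zero' := rfl
      map_add' := fun _ _ => rfl }
  obtain ⟨q, hq, hq0⟩ := (gpd R A B).isIntegral.isIntegral b
  exact ⟨q.map e, hq.map e, by rw [Polynomial.eval₂_map]; exact hq0⟩

end Groth.Misc8.Coact
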