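import Groth.Prelude.Def_CoactBr
import Groth.Agent.Misc8.CoactGroupoid
import Mathlib.AlgebraicGeometry.Morphisms.Flat
import Mathlib.RingTheory.Nakayama
import Mathlib.RingTheory.LocalRing.ResidueField.Ideal
import Mathlib.FieldTheory.IsAlgClosed.AlgebraicClosure

/-! Inertia group schemes of an affine action: conjugation, descent, and freeness over a local base. -/

set_option autoImplicit false
set_option linter.style.haveILetI false

universe u

open CategoryTheory MonoidalCategory CartesianMonoidalCategory MonObj AlgebraicGeometry TensorProduct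

noncomputable section

namespace Groth.Misc8.CoactInertia

open CoactBr

section Points

variable {R : Type u} [CommRing R]

theorem pt_surjective {B C : Type u} [CommRing B] [CommRing C] [Algebra R B] [Algebra R C]
    (t : sp R C ⟶ sp R B) : ∃ φ : B →ₐ[R] C, pt φ = t := by
  obtain ⟨f, hf⟩ := Spec.map_surjective (R := CommRingCat.of B) (S := CommRingCat.of C) t.left
  have hw : Spec.map f ≫ Spec.map (CommRingCat.ofHom (algebraMap R B)) =
      Spec.map (CommRingCat.ofHom (algebraMap R C)) :=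
    (congrArg (· ≫ Spec.map (CommRingCat.ofHom (algebraMap R B))) hf).trans (Over.w t)
  have h := Spec.map_injective ((Spec.map_comp _ _).trans hw)
  refine ⟨{ f.hom with commutes' := fun r => RingHom.congr_fun (congrArg CommRingCat.Hom.hom h) r },
    Over.OverMorphism.ext ?_⟩
  rw [pt_left, ← hf]
  rfl

/-- Morphisms over `Spec R` agree as soon as they agree on all `C`-valued points. -/
theorem hom_ext_points {T Y : Over (Spec (CommRingCat.of R))} (f g : T ⟶ Y)
    (H : ∀ (C : Type u) [CommRing C] [Algebra R C] (t : sp R C ⟶ T), t ≫ f = t ≫ g) : f = g := by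
  apply Over.OverMorphism.ext
  refine Scheme.Cover.hom_ext T.left.affineCover _ _ fun i => ?_
  let X := T.left.affineCover.X i
  let e := X.isoSpec
  let C : Type u := Γ(X, ⊤)
  let φ : CommRingCat.of R ⟶ Γ(X, ⊤) := Spec.preimage (e.inv ≫ T.left.affineCover.f i ≫ T.hom)
  letI : Algebra R C := φ.hom.toAlgebra
  let t : sp R C ⟶ T := Over.homMk (e.inv ≫ T.left.affineCover.f i) (by
    rw [Category.assoc]
    exact (Spec.map_preimage (e.inv ≫ T.left.affineCover.f i ≫ T.hom)).symm)
  have h : (e.inv ≫ T.left.affineCover.f i) ≫ f.left = (e.inv ≫ T.left.affineCover.f i) ≫ g.left :=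
    congrArg CommaMorphism.left (H C t)
  rw [Category.assoc, Category.assoc, cancel_epi] at h
  exact h

end Points

section Action

variable {R A B : Type u} [CommRing R] [CommRing A] [HopfAlgebra R A] [CommRing B] [Algebra R B]
  [HopfRep.Comod R A B] [GLin.IsCoactAlg R A B]

theorem fix_iff {T : Over (Spec (CommRingCat.of R))} (g : T ⟶ sp R A) (x : T ⟶ sp R B) :
    lift g x ≫ (action R A B).act = x ↔ lift x g ≫ ract R A B = x := by
  rw [lift_action_act]
  constructor <;> intro h
  · conv_lhs => rw [← h, lift_ract_ract, inv_mul_cancel, lift_one_ract]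
  · conv_lhs => rw [← h, lift_ract_ract, mul_inv_cancel, lift_one_ract]

variable (A) in
/-- The inertia group scheme at `φ` is trivial. -/
def Triv {K : Type u} [CommRing K] [Algebra R K] (φ : B →ₐ[R] K) : Prop :=
  ∀ (T : Over (Spec (CommRingCat.of R))) (h : T ⟶ sp R K) (g : T ⟶ sp R A),
    lift g (h ≫ pt φ) ≫ (action R A B).act = h ≫ pt φ → g = 1

variable {K L : Type u} [CommRing K] [Algebra R K] [CommRing L] [Algebra R L]

theorem Triv.comp {φ : B →ₐ[R] K} (hφ : Triv A φ) (ψ : K →ₐ[R] L) : Triv A (ψ.comp φ) := by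
  intro T h g hg
  rw [pt_comp, ← Category.assoc] at hg
  exact hφ T _ g hg

/-- Conjugation of inertia. -/
theorem conj_iff {x₁ x₂ : B →ₐ[R] K} {g : sp R K ⟶ sp R A} (hg : lift (pt x₁) g ≫ ract R A B = pt x₂)
    (T : Over (Spec (CommRingCat.of R))) (h : T ⟶ sp R K) (k : T ⟶ sp R A) :
    lift k (h ≫ pt x₁) ≫ (action R A B).act = h ≫ pt x₁ ↔
      lift ((h ≫ g)⁻¹ * k * (h ≫ g)) (h ≫ pt x₂) ≫ (action R A B).act = h ≫ pt x₂ := by
  rw [fix_iff, fix_iff]
  have h2 : lift (h ≫ pt x₁) (h ≫ g) ≫ ract R A B = h ≫ pt x₂ := by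
    rw [← comp_lift_assoc, hg]
  rw [← h2, lift_ract_ract, show h ≫ g * ((h ≫ g)⁻¹ * k * (h ≫ g)) = k * (h ≫ g) by group,
    ← lift_ract_ract]
  refine ⟨fun e => by rw [e], fun e => ?_⟩
  have e' := congrArg (fun z => lift z (h ≫ g)⁻¹ ≫ ract R A B) e
  simp only [lift_ract_ract] at e'
  rwa [mul_inv_cancel_right, mul_inv_cancel, lift_one_ract] at e'

theorem Triv.move {x₁ x₂ : B →ₐ[R] K} (h₁ : Triv A x₁) {g : sp R K ⟶ sp R A}
    (hg : lift (pt x₁) g ≫ ract R A B = pt x₂) : Triv A x₂ := by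
  intro T h k hk
  have e : (h ≫ g)⁻¹ * ((h ≫ g) * k * (h ≫ g)⁻¹) * (h ≫ g) = k := by group
  rw [← e] at hk
  have := h₁ T h _ ((conj_iff hg T h _).mpr hk)
  rwa [mul_inv_eq_one, mul_eq_left] at this

end Action

section Descent

variable {R A B : Type u} [CommRing R] [CommRing A] [HopfAlgebra R A] [CommRing B] [Algebra R B]
  [HopfRep.Comod R A B] [GLin.IsCoactAlg R A B]

/-- Triviality of inertia descends along extensions of fields. -/
theorem Triv.descend {K L : Type u} [Field K] [Algebra R K] [Field L] [Algebra R L] {φ : B →ₐ[R] K}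
    (ψ : K →ₐ[R] L) (hψ : Triv A (ψ.comp φ)) : Triv A φ := by
  intro T h g hg
  let p : Spec (CommRingCat.of L) ⟶ Spec (CommRingCat.of K) := Spec.map (CommRingCat.ofHom ψ.toRingHom)
  haveI : Flat p := by
    rw [HasRingHomProperty.Spec_iff (P := @Flat)]
    algebraize [ψ.toRingHom]
    exact inferInstanceAs (Module.Flat K L)
  haveI : Surjective p := ⟨fun y => ⟨Nonempty.some inferInstance, Subsingleton.elim _ _⟩⟩
  let T' : Over (Spec (CommRingCat.of R)) := Over.mk (Limits.pullback.fst h.left p ≫ T.hom)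
  let π : T' ⟶ T := Over.homMk (Limits.pullback.fst h.left p) rfl
  let h' : T' ⟶ sp R L := Over.homMk (Limits.pullback.snd h.left p) (by
    show Limits.pullback.snd h.left p ≫ (sp R L).hom = Limits.pullback.fst h.left p ≫ T.hom
    rw [← Over.w (pt ψ), ← Over.w h, Limits.pullback.condition_assoc]
    rfl)
  have hc : π ≫ h = h' ≫ pt ψ := Over.OverMorphism.ext Limits.pullback.condition
  haveI : Flat (Limits.pullback.fst h.left p) := MorphismProperty.pullback_fst (P := @Flat) h.left p ‹_›
  haveI : Surjective (Limits.pullback.fst h.left p) := MorphismProperty.pullback_fst (P := @Surjective) h.left p ‹_›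
  haveI : Epi π.left := Flat.epi_of_flat_of_surjective (Limits.pullback.fst h.left p)
  haveI : Epi π := Over.epi_of_epi_left π
  have key : π ≫ g = 1 := by
    refine hψ T' h' _ ?_
    have := congrArg (π ≫ ·) hg
    simp only [comp_lift_assoc] at this
    rwa [pt_comp, ← Category.assoc, ← hc, Category.assoc]
  rw [← cancel_epi π, key, MonObj.comp_one]

end Descent

section Local

open Groth.Misc8

variable {R A B : Type u} [CommRing R] [CommRing A] [HopfAlgebra R A] [CommRing B] [Algebra R B]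
  [HopfRep.Comod R A B] [GLin.IsCoactAlg R A B] [Module.Finite R A] [Module.Projective R A]

theorem exists_move (hC : Function.Bijective (algebraMap R (GLin.invariants R A B)))
    {K : Type u} [Field K] [IsAlgClosed K] [Algebra R K] (x₁ x₂ : B →ₐ[R] K) :
    ∃ g : sp R K ⟶ sp R A, lift (pt x₁) g ≫ ract R A B = pt x₂ := by
  obtain ⟨g, hg⟩ := Coact.exists_moving hC x₁ x₂
  exact ⟨pt g, by rw [lift_pt_ract, hg]⟩

theorem exists_common_field {K₁ K₂ : Type u} [Field K₁] [Algebra R K₁] [Field K₂] [Algebra R K₂]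
    (hq : RingHom.ker (algebraMap R K₁) = RingHom.ker (algebraMap R K₂)) :
    ∃ (Ω : Type u) (_ : Field Ω) (_ : IsAlgClosed Ω) (_ : Algebra R Ω),
      Nonempty (K₁ →ₐ[R] Ω) ∧ Nonempty (K₂ →ₐ[R] Ω) := by
  let q := RingHom.ker (algebraMap R K₁)
  haveI : q.IsPrime := RingHom.ker_isPrime _
  let a₁ : q.ResidueField →+* K₁ := Ideal.ResidueField.lift q (algebraMap R K₁) le_rfl
    (fun r hr => (isUnit_iff_ne_zero.mpr fun h => hr h))
  let a₂ : q.ResidueField →+* K₂ := Ideal.ResidueField.lift q (algebraMap R K₂) hq.le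
    (fun r hr => (isUnit_iff_ne_zero.mpr fun h => hr (hq.ge (RingHom.mem_ker.mpr h))))
  letI := a₁.toAlgebra
  letI := a₂.toAlgebra
  obtain ⟨m, hm⟩ := Ideal.exists_maximal (K₁ ⊗[q.ResidueField] K₂)
  letI := Ideal.Quotient.field m
  let Ω := AlgebraicClosure ((K₁ ⊗[q.ResidueField] K₂) ⧸ m)
  let f₁ : K₁ →+* Ω := (algebraMap ((K₁ ⊗[q.ResidueField] K₂) ⧸ m) Ω).comp
    ((Ideal.Quotient.mk m).comp Algebra.TensorProduct.includeLeftRingHom)
  let f₂ : K₂ →+* Ω := (algebraMap ((K₁ ⊗[q.ResidueField] K₂) ⧸ m) Ω).comp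
    ((Ideal.Quotient.mk m).comp
      (Algebra.TensorProduct.includeRight : K₂ →ₐ[q.ResidueField] K₁ ⊗[q.ResidueField] K₂).toRingHom)
  letI iΩ : Algebra R Ω := (f₁.comp (algebraMap R K₁)).toAlgebra
  refine ⟨Ω, inferInstance, inferInstance, iΩ, ⟨{ f₁ with commutes' := fun r => rfl }⟩,
    ⟨{ f₂ with commutes' := fun r => ?_ }⟩⟩
  show f₂ (algebraMap R K₂ r) = f₁ (algebraMap R K₁ r)
  have e₁ : algebraMap R K₁ r = algebraMap q.ResidueField K₁ (algebraMap R q.ResidueField r) :=
    (Ideal.ResidueField.lift_algebraMap _ _ _ _ _).symm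
  have e₂ : algebraMap R K₂ r = algebraMap q.ResidueField K₂ (algebraMap R q.ResidueField r) :=
    (Ideal.ResidueField.lift_algebraMap _ _ _ _ _).symm
  rw [e₁, e₂]
  simp only [f₁, f₂, RingHom.comp_apply]
  congr 2
  exact ((Algebra.TensorProduct.includeRight : K₂ →ₐ[q.ResidueField] K₁ ⊗[q.ResidueField] K₂).commutes _).trans
    (Algebra.TensorProduct.algebraMap_apply _)

theorem Triv.transfer (hC : Function.Bijective (algebraMap R (GLin.invariants R A B)))
    {K₁ K₂ : Type u} [Field K₁] [Algebra R K₁] [Field K₂] [Algebra R K₂]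
    (hq : RingHom.ker (algebraMap R K₁) = RingHom.ker (algebraMap R K₂))
    {x₁ : B →ₐ[R] K₁} (h₁ : Triv A x₁) (x₂ : B →ₐ[R] K₂) : Triv A x₂ := by
  obtain ⟨Ω, _, _, _, ⟨ψ₁⟩, ⟨ψ₂⟩⟩ := exists_common_field hq
  obtain ⟨g, hg⟩ := exists_move hC (ψ₁.comp x₁) (ψ₂.comp x₂)
  exact Triv.descend ψ₂ ((h₁.comp ψ₁).move hg)

omit [Module.Finite R A] [Module.Projective R A] in
/-- An affine point of `G` fixing a point with trivial inertia is the unit. -/
theorem Triv.eq_counit {K C : Type u} [CommRing K] [Algebra R K] [CommRing C] [Algebra R C]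
    {x : B →ₐ[R] K} (hx : Triv A x) (ψ : K →ₐ[R] C) (g : A →ₐ[R] C)
    (hg : (Algebra.TensorProduct.lift (ψ.comp x) g fun _ _ => .all _ _).comp (GLin.coactAlgHom R A B) = ψ.comp x) :
    g = (Algebra.ofId R C).comp (Bialgebra.counitAlgHom R A) := by
  apply pt_injective
  rw [← one_eq_pt]
  exact hx.comp ψ (sp R C) (𝟙 _) (pt g) (by rw [Category.id_comp, fix_iff, lift_pt_ract, hg])

variable (R A B)

/-- The ideal of the universal fixed pair. -/
def fixIdeal : Ideal (B ⊗[R] A) :=
  Ideal.span (Set.range fun b : B => GLin.coactAlgHom R A B b - b ⊗ₜ[R] (1 : A))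

variable {R A B}

omit [Module.Finite R A] [Module.Projective R A] in
theorem fixIdeal_le_ker {C : Type u} [CommRing C] [Algebra R C] {y : B →ₐ[R] C} {g : A →ₐ[R] C}
    (hg : (Algebra.TensorProduct.lift y g fun _ _ => .all _ _).comp (GLin.coactAlgHom R A B) = y) :
    fixIdeal R A B ≤ RingHom.ker (Algebra.TensorProduct.lift y g fun _ _ => .all _ _) := by
  rw [fixIdeal, Ideal.span_le]
  rintro _ ⟨b, rfl⟩
  have := DFunLike.congr_fun hg b
  simp only [AlgHom.comp_apply] at this
  show Algebra.TensorProduct.lift y g _ (GLin.coactAlgHom R A B b - b ⊗ₜ[R] (1 : A)) = 0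
  rw [map_sub, this, Algebra.TensorProduct.lift_tmul, map_one, _root_.mul_one, sub_self]

/-- Over a local base, triviality of one inertia group over the closed point gives freeness on affine points. -/
theorem eq_counit_of_triv [IsLocalRing R] (hC : Function.Bijective (algebraMap R (GLin.invariants R A B)))
    {K : Type u} [Field K] [Algebra R K] (hK : RingHom.ker (algebraMap R K) = IsLocalRing.maximalIdeal R)
    {x : B →ₐ[R] K} (hx : Triv A x) {C : Type u} [CommRing C] [Algebra R C] (y : B →ₐ[R] C) (g : A →ₐ[R] C)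
    (hg : (Algebra.TensorProduct.lift y g fun _ _ => .all _ _).comp (GLin.coactAlgHom R A B) = y) :
    g = (Algebra.ofId R C).comp (Bialgebra.counitAlgHom R A) := by
  haveI := Coact.isIntegral hC
  let I := fixIdeal R A B
  let N : Submodule B (B ⊗[R] A) := LinearMap.range (Algebra.linearMap B (B ⊗[R] A)) ⊔ I.restrictScalars B
  have hN : ∀ n : Ideal B, n.IsMaximal → n • (⊤ : Submodule B (B ⊗[R] A)) ⊔ N = ⊤ := fun n hn => by
    letI := Ideal.Quotient.field n
    let J : Ideal (B ⊗[R] A) := I ⊔ n.map (algebraMap B (B ⊗[R] A))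
    let mkJ : B ⊗[R] A →ₐ[R] (B ⊗[R] A) ⧸ J := Ideal.Quotient.mkₐ R J
    let y₀ : B →ₐ[R] (B ⊗[R] A) ⧸ J := mkJ.comp Algebra.TensorProduct.includeLeft
    let ψ : B ⧸ n →ₐ[R] (B ⊗[R] A) ⧸ J := Ideal.Quotient.liftₐ n y₀ fun b hb =>
      Ideal.Quotient.eq_zero_iff_mem.mpr (Ideal.mem_sup_right (Ideal.mem_map_of_mem _ hb))
    have hm : RingHom.ker (algebraMap R (B ⧸ n)) = IsLocalRing.maximalIdeal R := by
      have : (n.comap (algebraMap R B)).IsMaximal := Ideal.isMaximal_comap_of_isIntegral_of_isMaximal n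
      rw [← IsLocalRing.eq_maximalIdeal this, IsScalarTower.algebraMap_eq R B (B ⧸ n), ← RingHom.comap_ker,
        Ideal.Quotient.algebraMap_eq, Ideal.mk_ker]
    have hxn : Triv A (Ideal.Quotient.mkₐ R n) := Triv.transfer hC (hK.trans hm.symm) hx _
    have hy : ψ.comp (Ideal.Quotient.mkₐ R n) = y₀ := AlgHom.ext fun b => rfl
    have hl : Algebra.TensorProduct.lift y₀ (mkJ.comp Algebra.TensorProduct.includeRight) (fun _ _ => .all _ _) = mkJ := by
      apply Algebra.TensorProduct.ext'
      intro b a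
      simp only [y₀, Algebra.TensorProduct.lift_tmul, AlgHom.comp_apply, ← map_mul]
      simp
    have he := hxn.eq_counit ψ (mkJ.comp Algebra.TensorProduct.includeRight) (by
      rw [hy, hl]
      refine AlgHom.ext fun b => Ideal.Quotient.eq.mpr (Ideal.mem_sup_left (Ideal.subset_span ⟨b, rfl⟩)))
    rw [eq_top_iff]
    intro z _
    induction z using TensorProduct.induction_on with
    | zero => exact Submodule.zero_mem _
    | add u v hu hv => exact Submodule.add_mem _ (hu trivial) (hv trivial)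
    | tmul b a =>
      have h1 : (1 : B) ⊗ₜ[R] a - algebraMap B (B ⊗[R] A) (algebraMap R B (Coalgebra.counit a)) ∈ J := by
        refine Ideal.Quotient.eq.mp (Eq.trans (DFunLike.congr_fun he a) ?_)
        exact ((mkJ.comp Algebra.TensorProduct.includeLeft).commutes _).symm
      have h2 : (J.restrictScalars B : Submodule B (B ⊗[R] A)) ≤
          n • (⊤ : Submodule B (B ⊗[R] A)) ⊔ N := by
        rw [Submodule.restrictScalars_sup, Ideal.smul_top_eq_map]
        exact sup_le (le_trans le_sup_right le_sup_right) le_sup_left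
      have h3 : algebraMap B (B ⊗[R] A) (algebraMap R B (Coalgebra.counit a)) ∈ n • (⊤ : Submodule B (B ⊗[R] A)) ⊔ N :=
        Submodule.mem_sup_right (Submodule.mem_sup_left ⟨_, rfl⟩)
      have h4 : (1 : B) ⊗ₜ[R] a ∈ n • (⊤ : Submodule B (B ⊗[R] A)) ⊔ N := by
        have := Submodule.add_mem _ (h2 h1) h3
        rwa [sub_add_cancel] at this
      have := Submodule.smul_mem _ b h4
      rwa [smul_tmul', smul_eq_mul, _root_.mul_one] at this
  have hNtop : N = ⊤ := by
    have hann : (Submodule.annihilator (⊤ : Submodule B ((B ⊗[R] A) ⧸ N))) = ⊤ := by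
      by_contra hne
      obtain ⟨n, hn, hle⟩ := Ideal.exists_le_maximal _ hne
      have hsm : (⊤ : Submodule B ((B ⊗[R] A) ⧸ N)) ≤ n • ⊤ := by
        rw [show (⊤ : Submodule B ((B ⊗[R] A) ⧸ N)) = (⊤ : Submodule B (B ⊗[R] A)).map N.mkQ by
          rw [Submodule.map_top, Submodule.range_mkQ], ← Submodule.map_smul'']
        conv_lhs => rw [← hN n hn, Submodule.map_sup]
        simp
      obtain ⟨r, hr, hr0⟩ := Submodule.exists_sub_one_mem_and_smul_eq_zero_of_fg_of_le_smul n ⊤
        Module.Finite.fg_top hsm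
      refine hn.ne_top (n.eq_top_iff_one.mpr ?_)
      have : r ∈ n := hle (Submodule.mem_annihilator.mpr fun z hz => hr0 z hz)
      simpa using n.sub_mem this hr
    rw [← Submodule.ker_mkQ N, LinearMap.ker_eq_top]
    refine LinearMap.ext fun z => ?_
    simpa using Submodule.mem_annihilator.mp ((Submodule.eq_top_iff'.mp hann) 1) (N.mkQ z) trivial
  apply AlgHom.ext
  intro a
  obtain ⟨_, ⟨c, rfl⟩, w, hw, hcw⟩ := Submodule.mem_sup.mp ((Submodule.eq_top_iff'.mp hNtop) ((1 : B) ⊗ₜ[R] a))
  let π : B ⊗[R] A →ₐ[R] B := Algebra.TensorProduct.lift (AlgHom.id R B)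
    ((Algebra.ofId R B).comp (Bialgebra.counitAlgHom R A)) fun _ _ => .all _ _
  have hπ : fixIdeal R A B ≤ RingHom.ker π := by
    refine fixIdeal_le_ker (C := B) (y := AlgHom.id R B) ?_
    apply pt_injective
    rw [← lift_pt_ract, ← one_eq_pt, lift_one_ract]
  have hπw : π w = 0 := RingHom.mem_ker.mp (hπ hw)
  have hlw : Algebra.TensorProduct.lift y g (fun _ _ => .all _ _) w = 0 := RingHom.mem_ker.mp (fixIdeal_le_ker hg hw)
  have e1 := congrArg π hcw
  have e2 := congrArg (Algebra.TensorProduct.lift y g (fun _ _ => .all _ _)) hcw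
  rw [map_add, hπw, add_zero] at e1
  rw [map_add, hlw, add_zero] at e2
  simp [π, Algebra.TensorProduct.algebraMap_apply] at e1 e2 ⊢
  rw [← e2, e1]
  exact y.commutes _

/-- Freeness of the action over a local base. -/
theorem free_of_triv [IsLocalRing R] (hC : Function.Bijective (algebraMap R (GLin.invariants R A B)))
    {K : Type u} [Field K] [Algebra R K] (hK : RingHom.ker (algebraMap R K) = IsLocalRing.maximalIdeal R)
    {x : B →ₐ[R] K} (hx : Triv A x) (T : Over (Spec (CommRingCat.of R))) (ζ : T ⟶ sp R B) (g : T ⟶ sp R A)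
    (hg : lift g ζ ≫ (action R A B).act = ζ) : g = 1 := by
  refine hom_ext_points g 1 fun C _ _ t => ?_
  obtain ⟨y, hy⟩ := pt_surjective (t ≫ ζ)
  obtain ⟨k, hk⟩ := pt_surjective (t ≫ g)
  have := congrArg (t ≫ ·) ((fix_iff g ζ).mp hg)
  simp only [comp_lift_assoc] at this
  rw [← hy, ← hk, lift_pt_ract] at this
  rw [← hk, eq_counit_of_triv hC hK hx y k (pt_injective this), MonObj.comp_one, one_eq_pt]

end Local

end Groth.Misc8.CoactInertia
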