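import Groth.Agent.Misc8.QuietComp
import Mathlib.RingTheory.RingHom.StandardSmooth
import Mathlib.RingTheory.RingHom.Smooth
import Mathlib.RingTheory.RingHom.FaithfullyFlat
import Mathlib.RingTheory.PolynomialAlgebra
import Mathlib.Algebra.Polynomial.Expand
import Mathlib.FieldTheory.Perfect

/-! The Frobenius of a smooth algebra over a perfect field is an extraction of `p`-th roots. -/

set_option autoImplicit false
set_option linter.style.haveILetI false

open CategoryTheory CategoryTheory.Limits AlgebraicGeometry Polynomial FrobSch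

namespace Groth.Misc8.FrobRoot

open RootTower QuietComp

universe u

variable {p : ℕ} [Fact p.Prime]

theorem tower_powHom_of_equiv {n : ℕ} {A B : Type u} [CommRing A] [CommRing B] (e : A ≃+* B) (hA : (p : A) = 0)
    (hB : (p : B) = 0) (h : Tower p n (powHom p A hA)) : Tower p n (powHom p B hB) := by
  refine tower_baseChange n (φ := CommRingCat.ofHom (powHom p A hA)) (g := e.toCommRingCatIso.hom)
    (h := e.toCommRingCatIso.hom) (φ' := CommRingCat.ofHom (powHom p B hB))
    (IsPushout.of_vert_isIso ⟨CommRingCat.hom_ext (RingHom.ext fun a => ?_)⟩) h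
  exact map_pow e a p

theorem tower_map {n : ℕ} {A B : Type u} [CommRing A] [CommRing B] (φ : A →+* B) (h : Tower p n φ) :
    Tower p n (mapRingHom φ) := by
  letI := φ.toAlgebra
  letI := Polynomial.algebra A B
  refine tower_baseChange n (CommRingCat.isPushout_of_isPushout A B A[X] B[X]) ?_
  exact h

theorem tower_expand (R : Type u) [CommRing R] : Tower p 1 ((expand R p : R[X] →ₐ[R] R[X]) : R[X] →+* R[X]) := by
  let e : Quiet.RootRing p R[X] X →+* R[X] := AdjoinRoot.lift (expand R p : R[X] →ₐ[R] R[X]).toRingHom X (by simp)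
  let i : R[X] →+* Quiet.RootRing p R[X] X :=
    eval₂RingHom ((AdjoinRoot.of _).comp C) (AdjoinRoot.root _)
  have h1 : i.comp e = RingHom.id _ := by
    refine AdjoinRoot.ringHom_ext (Polynomial.ringHom_ext (fun r => by simp [e, i]) ?_) (by simp [e, i])
    have h0 := AdjoinRoot.eval₂_root (X ^ p - C X : R[X][X])
    simp only [eval₂_sub, eval₂_X_pow, eval₂_C, sub_eq_zero] at h0
    simp [e, i, h0]
  have h2 : e.comp i = RingHom.id _ := Polynomial.ringHom_ext (fun r => by simp [e, i]) (by simp [e, i])
  refine (tower_succ 0 _).mpr ⟨X, e, ?_, (tower_zero e).mpr ⟨?_, ?_⟩⟩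
  · exact AdjoinRoot.lift_comp_of _
  · exact Function.LeftInverse.injective (g := i) fun z => RingHom.congr_fun h1 z
  · exact Function.RightInverse.surjective (g := i) fun z => RingHom.congr_fun h2 z

theorem tower_powHom_polynomial {n : ℕ} {R : Type u} [CommRing R] (hR : (p : R) = 0) (hX : (p : R[X]) = 0)
    (h : Tower p n (powHom p R hR)) : Tower p (1 + n) (powHom p R[X] hX) := by
  have e : powHom p R[X] hX =
      (mapRingHom (powHom p R hR)).comp ((expand R p : R[X] →ₐ[R] R[X]) : R[X] →+* R[X]) :=
    Polynomial.ringHom_ext (fun r => by simp) (by simp)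
  rw [e]
  exact tower_comp 1 _ _ n (tower_expand R) (tower_map _ h)

theorem tower_powHom_mvPolynomial (k : Type u) [CommRing k] [CharP k p] [PerfectRing k p] (n : ℕ)
    (h : (p : MvPolynomial (Fin n) k) = 0) : Tower p n (powHom p (MvPolynomial (Fin n) k) h) := by
  induction n with
  | zero =>
    refine tower_powHom_of_equiv (MvPolynomial.isEmptyRingEquiv k (Fin 0)).symm (CharP.cast_eq_zero k p) h ?_
    exact (tower_zero _).mpr (PerfectRing.bijective_frobenius (R := k) (p := p))
  | succ n ih =>
    have h' : (p : MvPolynomial (Fin n) k) = 0 := by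
      rw [← map_natCast (MvPolynomial.C (R := k)), CharP.cast_eq_zero k p, map_zero]
    have hX : (p : (MvPolynomial (Fin n) k)[X]) = 0 := by rw [← map_natCast Polynomial.C, h', map_zero]
    refine tower_powHom_of_equiv (MvPolynomial.finSuccEquiv k n).toRingEquiv.symm hX h ?_
    rw [Nat.add_comm]
    exact tower_powHom_polynomial h' hX (ih h')

theorem tower_powHom_of_etale {n : ℕ} {P C : CommRingCat.{u}} (g : P ⟶ C) (hg : g.hom.Etale) (hP : (p : P) = 0)
    (hC : (p : C) = 0) (h : Tower p n (powHom p P hP)) : Tower p n (powHom p C hC) := by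
  haveI : IsCharP (Spec P) p := ⟨by rw [← map_natCast (Scheme.ΓSpecIso P).inv.hom, hP, map_zero]⟩
  haveI : IsCharP (Spec C) p := ⟨by rw [← map_natCast (Scheme.ΓSpecIso C).inv.hom, hC, map_zero]⟩
  haveI : Etale (Spec.map g) := (HasRingHomProperty.Spec_iff (P := @Etale)).mpr hg
  have H := isPullback_frob_of_etale (p := p) (Spec.map g)
  rw [← specMap_powHom P hP, ← specMap_powHom C hC] at H
  have H' : IsPullback (CommRingCat.ofHom (powHom p C hC)).op g.op g.op (CommRingCat.ofHom (powHom p P hP)).op :=
    IsPullback.of_map Scheme.Spec (Quiver.Hom.unop_inj (CommRingCat.hom_ext (RingHom.ext fun x => map_pow g.hom x p)).symm) H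
  exact tower_baseChange n H'.unop h

theorem flat_of_tower (n : ℕ) : ∀ {A B : Type u} [CommRing A] [CommRing B] (φ : A →+* B), Tower p n φ → φ.Flat := by
  induction n with
  | zero =>
    intro A B _ _ φ hφ
    exact RingHom.Flat.of_bijective ((tower_zero φ).mp hφ)
  | succ n ih =>
    intro A B _ _ φ hφ
    obtain ⟨a, ψ, hψ, hT⟩ := (tower_succ n φ).mp hφ
    rw [← hψ]
    refine RingHom.Flat.comp ?_ (ih ψ hT)
    rw [← AdjoinRoot.algebraMap_eq, RingHom.flat_algebraMap_iff]
    haveI := (monic_X_pow_sub_C a (Fact.out : p.Prime).ne_zero).free_adjoinRoot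
    infer_instance

theorem flat_of_isPthRoot {X Y : Scheme.{u}} (f : Y ⟶ X) (hf : Quiet.IsPthRoot p f) : Flat f := by
  choose U hxU hUY n hn using (isPthRoot_iff f).mp hf
  refine (HasRingHomProperty.iff_exists_appLE (P := @Flat) (RingHom.Flat.stableUnderComposition.stableUnderCompositionWithLocalizationAway RingHom.Flat.holdsForLocalizationAway).left).mpr fun y => ?_
  refine ⟨U (f y), ⟨f ⁻¹ᵁ (U (f y)).1, hUY (f y)⟩, hxU (f y), le_rfl, ?_⟩
  rw [Scheme.Hom.appLE_eq_app]
  exact flat_of_tower _ _ (hn (f y))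

theorem frobenius_smooth (k : Type u) [Field k] [CharP k p] [PerfectRing k p] (A : Type u) [CommRing A]
    [Algebra k A] [CharP A p] [Algebra.Smooth k A] :
    (frobenius A p).FaithfullyFlat ∧ Quiet.IsPthRoot p (Spec.map (CommRingCat.ofHom (frobenius A p))) := by
  have hA : (p : A) = 0 := CharP.cast_eq_zero A p
  have he : Spec.map (CommRingCat.ofHom (frobenius A p)) = frob (Spec (CommRingCat.of A)) p := by
    rw [← specMap_powHom (CommRingCat.of A) hA]
    rfl
  have hroot : Quiet.IsPthRoot p (frob (Spec (CommRingCat.of A)) p) := by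
    obtain ⟨s, hs, hs'⟩ := RingHom.smooth_iff_locally_isStandardSmooth.mp
      (RingHom.smooth_algebraMap.mpr (inferInstance : Algebra.Smooth k A))
    rw [isPthRoot_iff]
    intro x
    obtain ⟨f, hfs, hfx⟩ : ∃ f ∈ s, f ∉ x.asIdeal := by
      by_contra hne
      exact x.isPrime.ne_top (top_le_iff.mp (hs ▸ Ideal.span_le.mpr fun f hf => by
        by_contra h; exact hne ⟨f, hf, h⟩))
    obtain ⟨m, g, -, hg⟩ := (hs' f hfs).exists_etale_mvPolynomial
    have hP : (p : MvPolynomial (Fin m) k) = 0 := by
      rw [← map_natCast (MvPolynomial.C (R := k)), CharP.cast_eq_zero k p, map_zero]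
    have hC : (p : Localization.Away f) = 0 := by rw [← map_natCast (algebraMap A _), hA, map_zero]
    have hT := tower_powHom_of_etale (P := CommRingCat.of (MvPolynomial (Fin m) k))
      (C := CommRingCat.of (Localization.Away f)) (CommRingCat.ofHom g) hg hP hC (tower_powHom_mvPolynomial k m hP)
    let e : A ≃+* Γ(Spec (CommRingCat.of A), ⊤) := (Scheme.ΓSpecIso (CommRingCat.of A)).commRingCatIsoToRingEquiv.symm
    let U : (Spec (CommRingCat.of A)).Opens := (Spec (CommRingCat.of A)).basicOpen (e f)
    haveI : IsLocalization.Away (e f) Γ(Spec (CommRingCat.of A), U) := (isAffineOpen_top _).isLocalization_basicOpen (e f)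
    have hxU : x ∈ U := by
      rw [show U = PrimeSpectrum.basicOpen f from (basicOpen_eq_of_affine (R := CommRingCat.of A) f :)]
      exact hfx
    refine ⟨⟨U, (isAffineOpen_top _).basicOpen _⟩, hxU, (isAffineOpen_top _).basicOpen _, m, ?_⟩
    exact tower_powHom_of_equiv (IsLocalization.ringEquivOfRingEquiv (M := Submonoid.powers f)
      (Localization.Away f) Γ(Spec (CommRingCat.of A), U) (T := Submonoid.powers (e f)) e (Submonoid.map_powers _ _)) hC (natCast_eq_zero_app _ p U) hT
  rw [he]
  refine ⟨?_, hroot⟩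
  have h := flat_of_isPthRoot _ hroot
  rw [← he, HasRingHomProperty.Spec_iff (P := @Flat)] at h
  refine RingHom.FaithfullyFlat.iff_flat_and_comap_surjective.mpr ⟨h, ?_⟩
  intro x
  refine ⟨x, ?_⟩
  ext r
  exact x.isPrime.pow_mem_iff_mem p (Fact.out : p.Prime).pos

end Groth.Misc8.FrobRoot
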