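import Groth.Agent.Misc8.SatFG
import Groth.Agent.Calg1.InjModMaximalEssFP
import Mathlib.RingTheory.EssentialFiniteness
import Mathlib.RingTheory.Valuation.ValuationRing

/-!
Over a valuation ring: torsion-free finite modules over local algebras essentially of finite type are
finitely presented, and maps injective modulo the maximal ideal have flat cokernels.
-/

set_option autoImplicit false
set_option linter.style.haveILetI false

open TensorProduct IsLocalRing

namespace Groth.Misc8.ValFP

universe u

variable {A : Type u} [CommRing A] [IsDomain A] [ValuationRing A]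

theorem localization_valuationRing (p : Ideal A) [p.IsPrime] : ValuationRing (Localization.AtPrime p) := by
  haveI := IsLocalization.isDomain_localization (R := A) (M := p.primeCompl) (Ideal.primeCompl_le_nonZeroDivisors p)
  rw [ValuationRing.iff_dvd_total]
  refine ⟨fun x y => ?_⟩
  obtain ⟨a, s, rfl⟩ := IsLocalization.exists_mk'_eq p.primeCompl x
  obtain ⟨b, t, rfl⟩ := IsLocalization.exists_mk'_eq p.primeCompl y
  rcases ValuationRing.dvd_total a b with ⟨c, rfl⟩ | ⟨c, rfl⟩
  · refine Or.inl ⟨algebraMap A _ s * IsLocalization.mk' _ c t, ?_⟩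
    rw [← mul_assoc, IsLocalization.mk'_spec, IsLocalization.mul_mk'_eq_mk'_of_mul]
  · refine Or.inr ⟨algebraMap A _ t * IsLocalization.mk' _ c s, ?_⟩
    rw [← mul_assoc, IsLocalization.mk'_spec, IsLocalization.mul_mk'_eq_mk'_of_mul]

instance : Finite (MaximalSpectrum A) :=
  Finite.of_injective (fun _ => ()) fun a b _ => MaximalSpectrum.ext
    ((IsLocalRing.eq_maximalIdeal a.isMaximal).trans (IsLocalRing.eq_maximalIdeal b.isMaximal).symm)

/-- A local algebra essentially of finite type is a quotient of a localisation of a polynomial ring. -/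
theorem exists_cover {A : Type u} [CommRing A] (B : Type u) [CommRing B] [IsLocalRing B] [Algebra A B]
    [Algebra.EssFiniteType A B] :
    ∃ (n : ℕ) (φ : MvPolynomial (Fin n) A →ₐ[A] B),
      ∀ b : B, ∃ x t, IsUnit (φ t) ∧ b * φ t = φ x := by
  obtain ⟨n, π, hπ⟩ := Algebra.FiniteType.iff_quotient_mvPolynomial''.mp
    (inferInstance : Algebra.FiniteType A (Algebra.EssFiniteType.subalgebra A B))
  refine ⟨n, (Algebra.EssFiniteType.subalgebra A B).val.comp π, fun b => ?_⟩
  obtain ⟨⟨x, t⟩, h⟩ := IsLocalization.surj (Algebra.EssFiniteType.submonoid A B) b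
  obtain ⟨x', rfl⟩ := hπ x
  obtain ⟨t', ht'⟩ := hπ t.1
  refine ⟨x', t', ?_, ?_⟩
  · show IsUnit ((π t' : Algebra.EssFiniteType.subalgebra A B) : B)
    rw [ht']
    exact t.2
  · show b * ((π t' : Algebra.EssFiniteType.subalgebra A B) : B) = _
    rw [ht']
    exact h

variable {P : Type u} [CommRing P] [Algebra A P] [Algebra.FiniteType A P] (q : Ideal P) [q.IsPrime]
  {S : Type u} [CommRing S] [Algebra A S] [Algebra P S] [IsScalarTower A P S] [IsLocalization.AtPrime S q]

include q in
/-- Torsion-free finite modules over a localisation of a finite type algebra are finitely presented. -/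
theorem finitePresentation_of_torsionFree (M : Type u) [AddCommGroup M] [Module S M] [Module A M]
    [IsScalarTower A S M] [Module.Finite S M] (htf : ∀ (a : A) (x : M), a ≠ 0 → a • x = 0 → x = 0) :
    Module.FinitePresentation S M := by
  classical
  letI : Module P M := Module.compHom M (algebraMap P S)
  haveI : IsScalarTower P S M := IsScalarTower.of_algebraMap_smul fun _ _ => rfl
  haveI : IsScalarTower A P M := IsScalarTower.of_algebraMap_smul fun r m => by
    rw [← algebraMap_smul S (algebraMap A P r) m, ← IsScalarTower.algebraMap_apply, algebraMap_smul]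
  obtain ⟨G, hG⟩ := (Module.Finite.fg_top : (⊤ : Submodule S M).FG)
  let M₀ : Submodule P M := Submodule.span P (G : Set M)
  haveI : Module.Finite P M₀ := Module.Finite.iff_fg.mpr ⟨G, rfl⟩
  haveI : Module.FinitePresentation P M₀ := SatFG.finitePresentation localization_valuationRing P M₀
    fun a x ha hax => Subtype.ext (htf a x ha (congrArg Subtype.val hax))
  have hu : ∀ t : q.primeCompl, IsUnit (algebraMap P S t) := fun t => IsLocalization.map_units S t
  haveI : IsLocalizedModule q.primeCompl M₀.subtype := by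
    refine ⟨fun t => ?_, fun y => ?_, fun {x₁ x₂} h => ⟨1, by rw [Subtype.ext h]⟩⟩
    · obtain ⟨v, hv⟩ := hu t
      refine (Module.End.isUnit_iff _).mpr ⟨fun a b hab => ?_, fun b => ⟨(↑v⁻¹ : S) • b, ?_⟩⟩
      · have h1 : algebraMap P S t • a = algebraMap P S t • b := by
          rw [algebraMap_smul, algebraMap_smul]; exact hab
        rw [← hv] at h1
        have h2 := congrArg ((↑v⁻¹ : S) • ·) h1
        simpa [smul_smul] using h2
      · show (t : P) • ((↑v⁻¹ : S) • b) = b
        rw [← algebraMap_smul S (t : P), smul_smul, ← hv, v.mul_inv, one_smul]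
    · have hy : y ∈ Submodule.span S (G : Set M) := hG.symm ▸ Submodule.mem_top
      induction hy using Submodule.span_induction with
      | mem x hx => exact ⟨⟨⟨x, Submodule.subset_span hx⟩, 1⟩, one_smul _ _⟩
      | zero => exact ⟨⟨0, 1⟩, by simp⟩
      | add x y _ _ hx hy =>
        obtain ⟨⟨a, s⟩, ha⟩ := hx
        obtain ⟨⟨b, t⟩, hb⟩ := hy
        refine ⟨⟨(t : P) • a + (s : P) • b, s * t⟩, ?_⟩
        simp only [Submonoid.smul_def, Submonoid.coe_mul, smul_add, map_add, map_smul] at ha hb ⊢
        rw [← ha, ← hb, smul_smul, smul_smul, mul_comm (t : P)]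
      | smul c x _ hx =>
        obtain ⟨⟨a, s⟩, ha⟩ := hx
        obtain ⟨⟨c', t⟩, hc⟩ := IsLocalization.surj q.primeCompl c
        refine ⟨⟨c' • a, s * t⟩, ?_⟩
        simp only [Submonoid.smul_def, Submonoid.coe_mul, map_smul] at ha ⊢
        rw [← ha, ← algebraMap_smul S (↑s * ↑t : P), map_mul, smul_smul, mul_assoc, mul_comm (algebraMap P S t) c,
          hc, mul_comm, ← smul_smul, algebraMap_smul, algebraMap_smul]
  exact FinitePresentation.of_isBaseChange M₀.subtype
    ((isLocalizedModule_iff_isBaseChange q.primeCompl S M₀.subtype).mp inferInstance)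

include q in
/-- A map into a torsion-free module injective modulo the maximal ideal is injective with saturated image. -/
theorem injective_saturated [IsLocalRing S] [IsLocalHom (algebraMap A S)] [Algebra.FinitePresentation A P]
    {N M : Type u} [AddCommGroup N] [Module S N] [Module A N] [IsScalarTower A S N] [Module.Finite S N]
    [AddCommGroup M] [Module S M] [Module A M] [IsScalarTower A S M] [Module.Finite S M] [Module.Flat A M]
    (u : N →ₗ[S] M)
    (hu : ∀ x : N, u x ∈ (maximalIdeal A).map (algebraMap A S) • (⊤ : Submodule S M) →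
      x ∈ (maximalIdeal A).map (algebraMap A S) • (⊤ : Submodule S N)) :
    Function.Injective u ∧ ∀ (a : A) (m : M), a ≠ 0 → a • m ∈ LinearMap.range u → m ∈ LinearMap.range u := by
  have htfM : ∀ (a : A) (x : M), a ≠ 0 → a • x = 0 → x = 0 := fun a x ha hax =>
    (Module.Flat.isSMulRegular_of_nonZeroDivisors (mem_nonZeroDivisors_of_ne_zero ha)) (hax.trans (smul_zero a).symm)
  haveI : Module.FinitePresentation S M := finitePresentation_of_torsionFree q M htfM
  let v : N →ₗ[S] LinearMap.range u := u.rangeRestrict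
  have htfR : ∀ (a : A) (x : LinearMap.range u), a ≠ 0 → a • x = 0 → x = 0 := fun a x ha hax =>
    Subtype.ext (htfM a x ha (congrArg Subtype.val hax))
  haveI : Module.FinitePresentation S (LinearMap.range u) := finitePresentation_of_torsionFree q _ htfR
  haveI : Module.Flat A (LinearMap.range u) := by
    haveI := SatFG.isBezout_of_semilocal (R := A) localization_valuationRing
    rw [Module.Flat.flat_iff_torsion_eq_bot_of_isBezout, eq_bot_iff]
    rintro x ⟨⟨a, ha⟩, hax⟩
    exact htfR a x (nonZeroDivisors.ne_zero ha) hax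
  let 𝔪 : Ideal S := (maximalIdeal A).map (algebraMap A S)
  have hK : (LinearMap.ker v).FG :=
    Module.FinitePresentation.fg_ker v u.surjective_rangeRestrict
  have hKle : LinearMap.ker v ≤ 𝔪 • LinearMap.ker v := by
    intro k hk
    have hk0 : u k = 0 := congrArg Subtype.val (LinearMap.mem_ker.mp hk)
    have h1 : k ∈ 𝔪 • (⊤ : Submodule S N) := hu k (hk0 ▸ Submodule.zero_mem _)
    rw [← Submodule.restrictScalars_mem A, Ideal.smul_restrictScalars, Submodule.restrictScalars_top] at h1
    -- a single element of the maximal ideal suffices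
    obtain ⟨b, hb, n, rfl⟩ : ∃ b ∈ maximalIdeal A, ∃ n : N, k = b • n := by
      refine Submodule.smul_induction_on h1 (fun r hr m _ => ⟨r, hr, m, rfl⟩) ?_
      rintro x y ⟨b, hb, n, rfl⟩ ⟨c, hc, m, rfl⟩
      rcases ValuationRing.dvd_total b c with ⟨d, rfl⟩ | ⟨d, rfl⟩
      · exact ⟨b, hb, n + d • m, by rw [smul_add, smul_smul]⟩
      · exact ⟨c, hc, d • n + m, by rw [smul_add, smul_smul]⟩
    rcases eq_or_ne b 0 with rfl | hb0
    · rw [zero_smul]; exact Submodule.zero_mem _
    rw [← algebraMap_smul S b n]
    refine Submodule.smul_mem_smul (Ideal.mem_map_of_mem _ hb) (LinearMap.mem_ker.mpr (htfR b _ hb0 ?_))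
    refine Subtype.ext ?_
    show b • u n = 0
    rw [← LinearMap.map_smul_of_tower, hk0]
  have hinj : Function.Injective u := by
    rw [← LinearMap.ker_eq_bot]
    have hle : 𝔪 ≤ Ideal.jacobson ⊥ := by
      rw [IsLocalRing.jacobson_eq_maximalIdeal _ bot_ne_top, Ideal.map_le_iff_le_comap]
      exact fun a ha h => ha (IsUnit.of_map (algebraMap A S) a h)
    have := Submodule.eq_bot_of_le_smul_of_le_jacobson_bot 𝔪 _ hK hKle hle
    rwa [LinearMap.ker_rangeRestrict] at this
  haveI : Module.FinitePresentation S N :=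
    Module.FinitePresentation.of_equiv (LinearEquiv.ofBijective v
      ⟨fun x y h => hinj (congrArg Subtype.val h), u.surjective_rangeRestrict⟩).symm
  refine ⟨hinj, fun a m ha hm => ?_⟩
  obtain ⟨n, hn⟩ := hm
  have hfp : CAlgX.IsEssFinitePresentation A S :=
    ⟨P, inferInstance, inferInstance, inferInstance, inferInstance, q.primeCompl, inferInstance, ‹_›⟩
  have h1 := Calg1.rTensor_injective_of_injective_mod hfp u hu (A ⧸ Ideal.span {a})
  have h2 : n ⊗ₜ[A] (1 : A ⧸ Ideal.span {a}) = 0 := h1 (by
    rw [LinearMap.rTensor_tmul, LinearMap.coe_restrictScalars, hn, map_zero, TensorProduct.smul_tmul,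
      Algebra.smul_def, mul_one, Ideal.Quotient.algebraMap_eq,
      Ideal.Quotient.eq_zero_iff_mem.mpr (Ideal.mem_span_singleton_self a), TensorProduct.tmul_zero])
  have h3 := congrArg (TensorProduct.tensorQuotEquivQuotSMul N (Ideal.span {a})) h2
  rw [map_zero, ← map_one (Ideal.Quotient.mk _), TensorProduct.tensorQuotEquivQuotSMul_tmul_mk, one_smul, Submodule.Quotient.mk_eq_zero,
    Submodule.ideal_span_singleton_smul] at h3
  obtain ⟨n₁, -, rfl⟩ := (Submodule.mem_smul_pointwise_iff_exists _ _ _).mp h3
  refine ⟨n₁, ?_⟩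
  rw [LinearMap.map_smul_of_tower] at hn
  exact sub_eq_zero.mp (htfM a _ ha (by rw [smul_sub, hn, sub_self]))

end Groth.Misc8.ValFP
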