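import Groth.Prelude.Def_W4c2submetdescSubtr
import Groth.Prelude.Def_ProCons
import Groth.Agent.HTopHyper.ValLift
import Groth.Agent.DescentBase.ClosureRange
import Groth.Agent.Limits.ProConsImage
import Mathlib.AlgebraicGeometry.Fiber
import Mathlib.AlgebraicGeometry.IdealSheaf.Functorial
import Mathlib.RingTheory.Flat.TorsionFree
import Mathlib.AlgebraicGeometry.Morphisms.UniversallyOpen
import Mathlib.Topology.AlexandrovDiscrete
import Mathlib.Tactic

/-! S-subtrusive morphisms and valuation rings. -/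

set_option autoImplicit false

open CategoryTheory CategoryTheory.Limits AlgebraicGeometry TopologicalSpace
open Groth.HTopHyper (genPt clPt specializes_clPt genPt_specializes exists_valRing)

namespace Groth.Misc8.Subtr

universe u

variable {X Y : Scheme.{u}}

/-- Base change in the form of an arbitrary cartesian square. -/
theorem of_univ {f : X ⟶ Y} (hf : Subtr.UnivSSubtrusive f) {T : Scheme.{u}} (g : T ⟶ Y) :
    Subtr.IsSSubtrusive (pullback.snd f g) :=
  hf _ _ _ (IsPullback.of_hasPullback f g).flip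

theorem self_of_univ {f : X ⟶ Y} (hf : Subtr.UnivSSubtrusive f) : Subtr.IsSSubtrusive f :=
  hf (𝟙 X) (𝟙 Y) f (IsPullback.of_vert_isIso ⟨by simp⟩)

theorem surjective_of_isSSubtrusive {f : X ⟶ Y} (hf : Subtr.IsSSubtrusive f) :
    Function.Surjective f := fun y => by
  obtain ⟨x, -, -, hx, -⟩ := hf (specializes_refl y)
  exact ⟨x, hx⟩

theorem isSSubtrusive_iso_comp {X' : Scheme.{u}} (e : X' ≅ X) {f : X ⟶ Y} (hf : Subtr.IsSSubtrusive f) :
    Subtr.IsSSubtrusive (e.hom ≫ f) := fun y y' h => by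
  obtain ⟨x, x', hx, rfl, rfl⟩ := hf h
  exact ⟨e.inv x, e.inv x', hx.map e.inv.continuous, by simp [← Scheme.Hom.comp_apply],
    by simp [← Scheme.Hom.comp_apply]⟩

/-- `f` is universally S-subtrusive as soon as it is so over all valuation rings. -/
theorem univ_of_forall_valuationRing {f : X ⟶ Y}
    (h : ∀ (V : Type u) [CommRing V] [IsDomain V] [ValuationRing V] (g : Spec (CommRingCat.of V) ⟶ Y),
      Subtr.IsSSubtrusive (pullback.snd f g)) : Subtr.UnivSSubtrusive f := by
  intro X' Y' i₁ i₂ f' sq y y' hy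
  obtain ⟨W, hW, hW', l, hl', hl⟩ := exists_valRing hy
  obtain ⟨z, z', hz, hz0, hz1⟩ := h W (l ≫ i₂) (specializes_clPt (genPt W))
  let m : pullback f (l ≫ i₂) ⟶ X' := sq.lift (pullback.snd _ _ ≫ l) (pullback.fst _ _)
    (by rw [Category.assoc, ← pullback.condition])
  have hm : m ≫ f' = pullback.snd _ _ ≫ l := sq.lift_fst _ _ _
  refine ⟨m z, m z', hz.map m.continuous, ?_, ?_⟩
  · rw [← Scheme.Hom.comp_apply, hm, Scheme.Hom.comp_apply]
    exact (congrArg l hz0).trans hl
  · rw [← Scheme.Hom.comp_apply, hm, Scheme.Hom.comp_apply]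
    exact (congrArg l hz1).trans hl'

/-- The closure of a fibre consists of the specializations of its points. -/
theorem exists_specializes_of_mem_closure_fibre (f : X ⟶ Y) (y : Y) {x : X}
    (hx : x ∈ closure (f ⁻¹' {y})) : ∃ x', x' ⤳ x ∧ f x' = y := by
  have : QuasiCompact (Y.fromSpecResidueField y) :=
    ⟨fun U _ _ => (Set.toFinite _).isCompact⟩
  have : QuasiCompact (f.fiberι y) :=
    MorphismProperty.pullback_fst (P := @QuasiCompact) _ _ inferInstance
  rw [← f.range_fiberι y] at hx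
  obtain ⟨p, hp⟩ := Groth.DescentBase.exists_specializes_of_mem_closure_range _ hx
  refine ⟨_, hp, ?_⟩
  have h : f.fiberι y p ∈ f ⁻¹' {y} := f.range_fiberι y ▸ Set.mem_range_self p
  exact h

/-- The image of a closed set under a quasi-compact morphism is closed if it is stable under
specialization. -/
theorem isClosed_image (f : X ⟶ Y) [QuasiCompact f] {C : Set X} (hC : IsClosed C)
    (hst : StableUnderSpecialization (f '' C)) : IsClosed (f '' C) := by
  let i := (Scheme.IdealSheafData.vanishingIdeal (X := X) ⟨C, hC⟩).subschemeι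
  have hr : Set.range i = C := by
    rw [Scheme.IdealSheafData.range_subschemeι, Scheme.IdealSheafData.coe_support_vanishingIdeal]
    rfl
  have hrange : Set.range (i ≫ f) = f '' C := by
    rw [Scheme.Hom.comp_base, TopCat.coe_comp, Set.range_comp, hr]
  rw [← closure_subset_iff_isClosed, ← hrange]
  intro y hy
  obtain ⟨p, hp⟩ := Groth.DescentBase.exists_specializes_of_mem_closure_range _ hy
  rw [hrange]
  exact hst hp (hrange.le (Set.mem_range_self p))

/-- A point of the closure of a pro-constructible set is a specialization of one of its points. -/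
theorem exists_specializes_of_mem_closure_proCons {Z : Set Y} (hZ : ProCons.IsProConstructible Z)
    {y : Y} (hy : y ∈ closure Z) : ∃ y', y' ⤳ y ∧ y' ∈ Z := by
  obtain ⟨W, hW, hyW, -⟩ := exists_isAffineOpen_mem_and_subset (X := Y) (x := y) (U := ⊤) trivial
  obtain ⟨R, a, ha⟩ := Groth.Limits.pc_of_isProConstructible hZ W hW
  have : IsAffine W.toScheme := hW
  have hsub : Set.range a ⊆ Set.range W.ι := by
    rw [ha, Scheme.Opens.range_ι]; exact Set.inter_subset_right
  let b := IsOpenImmersion.lift W.ι a hsub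
  have hb : b ≫ W.ι = a := IsOpenImmersion.lift_fac _ _ _
  have hmem : (⟨y, hyW⟩ : W.toScheme) ∈ closure (Set.range b) := by
    refine mem_closure_iff.mpr fun V hV hyV => ?_
    obtain ⟨z, hzV, hzZ⟩ := mem_closure_iff.mp hy (W.ι '' V) (W.ι.isOpenEmbedding.isOpenMap V hV)
      ⟨⟨y, hyW⟩, hyV, rfl⟩
    obtain ⟨v, hv, rfl⟩ := hzV
    obtain ⟨p, hp⟩ : W.ι v ∈ Set.range a := by rw [ha]; exact ⟨hzZ, v.2⟩
    refine ⟨v, hv, p, W.ι.isOpenEmbedding.injective ?_⟩
    rw [← Scheme.Hom.comp_apply, hb, hp]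
  obtain ⟨p, hp⟩ := Groth.DescentBase.exists_specializes_of_mem_closure_range b hmem
  refine ⟨a p, ?_, (ha.le (Set.mem_range_self p)).1⟩
  rw [← hb, Scheme.Hom.comp_apply]
  exact hp.map W.ι.continuous

/-- Singletons are pro-constructible. -/
theorem isProConstructible_singleton (y : Y) : ProCons.IsProConstructible ({y} : Set Y) := by
  intro z
  obtain ⟨W, hW, hzW, -⟩ := exists_isAffineOpen_mem_and_subset (X := Y) (x := z) (U := ⊤) trivial
  have : IsAffine W.toScheme := hW
  refine ⟨W, W.isOpen, hzW, ?_⟩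
  change ∃ S : Set (Set W.toScheme), (∀ T ∈ S, Topology.IsLocallyConstructible T) ∧
    (Subtype.val ⁻¹' ({y} : Set Y) : Set W.toScheme) = ⋂₀ S
  by_cases hy : y ∈ W
  · refine ⟨{T | Topology.IsConstructible T ∧ (⟨y, hy⟩ : W.toScheme) ∈ T},
      fun T hT => hT.1.isLocallyConstructible, ?_⟩
    ext w
    constructor
    · intro hw T hT
      have : w = ⟨y, hy⟩ := Subtype.ext hw
      rw [this]; exact hT.2
    · intro hw
      by_contra hne
      have hne' : w ≠ (⟨y, hy⟩ : W.toScheme) := fun e => hne (congrArg Subtype.val e)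
      obtain ⟨U, hU, hU'⟩ := exists_isOpen_xor'_mem hne'
      rcases hU' with ⟨hwU, hyU⟩ | ⟨hyU, hwU⟩
      · obtain ⟨V, ⟨hV₁, hV₂⟩, hwV, hVU⟩ := PrespectralSpace.isTopologicalBasis.exists_subset_of_mem_open hwU hU
        exact hw Vᶜ ⟨(hV₂.isConstructible hV₁).compl, fun h => hyU (hVU h)⟩ hwV
      · obtain ⟨V, ⟨hV₁, hV₂⟩, hyV, hVU⟩ := PrespectralSpace.isTopologicalBasis.exists_subset_of_mem_open hyU hU
        exact hwU (hVU (hw V ⟨hV₂.isConstructible hV₁, hyV⟩))
  · refine ⟨{∅}, fun T hT => ?_, ?_⟩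
    · rw [Set.mem_singleton_iff.mp hT]
      exact Topology.IsConstructible.empty.isLocallyConstructible
    · rw [Set.sInter_singleton]
      ext w
      simp only [Set.mem_preimage, Set.mem_singleton_iff, Set.mem_empty_iff_false, iff_false]
      exact fun h => hy (h ▸ w.2)

theorem isSSubtrusive_iff_image_closure (f : X ⟶ Y) :
    Subtr.IsSSubtrusive f ↔
      ∀ Z : Set Y, ProCons.IsProConstructible Z → f '' closure (f ⁻¹' Z) = closure Z := by
  constructor
  · intro hf Z hZ
    refine (image_closure_subset_closure_image f.continuous).trans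
      (closure_mono (Set.image_preimage_subset _ _)) |>.antisymm fun y hy => ?_
    obtain ⟨y', hy', hy'Z⟩ := exists_specializes_of_mem_closure_proCons hZ hy
    obtain ⟨x, x', hx, rfl, rfl⟩ := hf hy'
    exact ⟨x, hx.mem_closed isClosed_closure (subset_closure hy'Z), rfl⟩
  · intro h y y' hy
    obtain ⟨x, hx, rfl⟩ := (h {y'} (isProConstructible_singleton y')).ge
      (specializes_iff_mem_closure.mp hy)
    obtain ⟨x', hx', hfx'⟩ := exists_specializes_of_mem_closure_fibre f y' hx
    exact ⟨x, x', hx', rfl, hfx'⟩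

section Valuation

variable {V W : Type u} [CommRing V] [IsDomain V] [ValuationRing V] [CommRing W] [IsDomain W]

/-- An injective local homomorphism from a valuation ring to a domain is surjective on spectra. -/
theorem comap_surjective (φ : V →+* W) (hinj : Function.Injective φ) [IsLocalHom φ] :
    Function.Surjective (PrimeSpectrum.comap φ) := by
  intro p
  have hp : (p.asIdeal.map φ).comap φ = p.asIdeal := by
    refine le_antisymm (fun x hx => ?_) Ideal.le_comap_map
    have hgen : ∀ w ∈ p.asIdeal.map φ, ∃ a ∈ p.asIdeal, φ a ∣ w := by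
      intro w hw
      induction hw using Submodule.span_induction with
      | mem w hw => obtain ⟨a, ha, rfl⟩ := hw; exact ⟨a, ha, dvd_rfl⟩
      | zero => exact ⟨0, p.asIdeal.zero_mem, by simp⟩
      | add v w _ _ hv hw =>
        obtain ⟨a, ha, hav⟩ := hv
        obtain ⟨b, hb, hbw⟩ := hw
        rcases ValuationRing.dvd_total a b with hab | hab
        · exact ⟨a, ha, dvd_add hav ((map_dvd φ hab).trans hbw)⟩
        · exact ⟨b, hb, dvd_add ((map_dvd φ hab).trans hav) hbw⟩
      | smul c w _ hw =>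
        obtain ⟨a, ha, haw⟩ := hw
        exact ⟨a, ha, haw.mul_left c⟩
    obtain ⟨a, ha, hdiv⟩ := hgen _ hx
    by_contra hxp
    rcases ValuationRing.dvd_total a x with h | ⟨c, rfl⟩
    · exact hxp (p.asIdeal.mem_of_dvd h ha)
    · have hc : c ∈ p.asIdeal := (p.isPrime.mem_or_mem ha).resolve_left hxp
      obtain ⟨w, hw⟩ := hdiv
      have hx0 : φ x ≠ 0 := fun h => hxp (hinj (h.trans φ.map_zero.symm) ▸ p.asIdeal.zero_mem)
      have hcw : φ c * w = 1 := mul_left_cancel₀ hx0 (by rw [← mul_assoc, ← map_mul, ← hw, mul_one])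
      exact p.isPrime.ne_top (Ideal.eq_top_of_isUnit_mem _ hc
        (isUnit_of_map_unit φ c (IsUnit.of_mul_eq_one w hcw)))
  obtain ⟨q, hq, hq'⟩ := (Ideal.comap_map_eq_self_iff_of_isPrime p.asIdeal).mp hp
  exact ⟨⟨q, hq⟩, PrimeSpectrum.ext hq'⟩

end Valuation

section OverValuationRing

variable (V : Type u) [CommRing V] [IsDomain V] [ValuationRing V]
  {X : Scheme.{u}} (f : X ⟶ Spec (CommRingCat.of V))

theorem pair_to_extension
    (h : ∃ x x' : X, x' ⤳ x ∧ f x = IsLocalRing.closedPoint V ∧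
        f x' = (⟨⊥, Ideal.isPrime_bot⟩ : PrimeSpectrum V)) :
    ∃ (W : Type u) (_ : CommRing W) (_ : IsDomain W) (_ : ValuationRing W)
      (g : Spec (CommRingCat.of W) ⟶ X), Surjective (g ≫ f) := by
  obtain ⟨x, x', hx, hfx, hfx'⟩ := h
  obtain ⟨W, hW, hW', φ, ⟨hinj, hloc⟩, l, hl, -, -⟩ :=
    Groth.HTopHyper.exists_ext_of_specializes (V := CommRingCat.of V) f hx hfx' hfx
  refine ⟨W, inferInstance, hW, hW', l, ⟨?_⟩⟩
  have := hloc
  rw [hl]
  exact comap_surjective φ.hom hinj

theorem isReduced_vanishingIdeal {X : Scheme.{u}} (C : Closeds X) :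
    IsReduced (Scheme.IdealSheafData.vanishingIdeal C).subscheme := by
  let I := Scheme.IdealSheafData.vanishingIdeal C
  have : ∀ i, IsReduced (I.subschemeCover.openCover.X i) := fun (U : X.affineOpens) => by
    have hr : (I.ideal U).IsRadical := by
      rw [show I.ideal U = PrimeSpectrum.vanishingIdeal (U.2.fromSpec ⁻¹' C) from rfl]
      exact PrimeSpectrum.isRadical_vanishingIdeal _
    have : _root_.IsReduced (Γ(X, U) ⧸ I.ideal U) := (Ideal.isRadical_iff_quotient_reduced _).1 hr
    show IsReduced (Spec (.of (Γ(X, U) ⧸ I.ideal U)))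
    infer_instance
  exact IsReduced.of_openCover _ I.subschemeCover.openCover

/-- An integral scheme dominating a valuation ring is flat over it. -/
theorem flat_of_isIntegral {Z : Scheme.{u}} [IsIntegral Z] (p : Z ⟶ Spec (CommRingCat.of V))
    (hη : p (genericPoint Z) = (⟨⊥, Ideal.isPrime_bot⟩ : PrimeSpectrum V)) : Flat p := by
  rw [IsZariskiLocalAtSource.iff_of_openCover (P := @Flat) Z.affineOpenCover.openCover]
  intro j
  change Flat (Z.affineOpenCover.f j ≫ p)
  obtain ⟨φ, hφ⟩ := Spec.map_surjective (Z.affineOpenCover.f j ≫ p)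
  rw [← hφ, Flat.SpecMap_iff]
  rcases isEmpty_or_nonempty (Spec (Z.affineOpenCover.X j) : Scheme.{u}) with he | hne
  · have : Subsingleton (Z.affineOpenCover.X j : Type u) :=
      PrimeSpectrum.isEmpty_iff_subsingleton.mp he
    algebraize [φ.hom]
    exact inferInstanceAs (Module.Flat _ _)
  have hint : IsIntegral (Spec (Z.affineOpenCover.X j)) := isIntegral_of_isOpenImmersion (Z.affineOpenCover.f j)
  have hdom : IsDomain ((Z.affineOpenCover.X j : CommRingCat.{u}) : Type u) :=
    (affine_isIntegral_iff (Z.affineOpenCover.X j)).mp hint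
  obtain ⟨q, hq⟩ : genericPoint Z ∈ Set.range (Z.affineOpenCover.f j) :=
    ((genericPoint_spec Z).mem_open_set_iff (Z.affineOpenCover.f j).isOpenEmbedding.isOpen_range).mpr
      (by simpa using Set.range_nonempty _)
  have hinj : Function.Injective φ.hom := by
    rw [RingHom.injective_iff_ker_eq_bot]
    refine le_antisymm ?_ bot_le
    have hq' : Spec.map φ q = (⟨⊥, Ideal.isPrime_bot⟩ : PrimeSpectrum V) := by
      rw [hφ, Scheme.Hom.comp_apply, hq, hη]
    have h' : Ideal.comap φ.hom (q : PrimeSpectrum _).asIdeal = ⊥ := congrArg PrimeSpectrum.asIdeal hq'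
    rw [← h']
    exact Ideal.comap_mono bot_le
  algebraize [φ.hom]
  refine Module.Flat.flat_iff_torsion_eq_bot_of_isBezout.mpr ?_
  rw [eq_bot_iff]
  rintro z ⟨⟨r, hr⟩, hrz⟩
  have hrz' : φ.hom r * z = 0 := hrz
  rcases mul_eq_zero.mp hrz' with h | h
  · exact absurd (hinj (h.trans φ.hom.map_zero.symm)) (nonZeroDivisors.ne_zero hr)
  · exact h

theorem extension_to_flat
    (h : ∃ (W : Type u) (_ : CommRing W) (_ : IsDomain W) (_ : ValuationRing W)
      (g : Spec (CommRingCat.of W) ⟶ X), Surjective (g ≫ f)) :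
    ∃ (Z : Scheme.{u}) (i : Z ⟶ X), IsClosedImmersion i ∧ Flat (i ≫ f) ∧ Surjective (i ≫ f) := by
  obtain ⟨W, _, _, _, g, hg⟩ := h
  let x' := g (genPt (CommRingCat.of W))
  let C : Closeds X := ⟨closure {x'}, isClosed_closure⟩
  let I := Scheme.IdealSheafData.vanishingIdeal C
  let i := I.subschemeι
  have hr : Set.range i = closure {x'} := by
    rw [Scheme.IdealSheafData.range_subschemeι, Scheme.IdealSheafData.coe_support_vanishingIdeal]
    rfl
  have hred : IsReduced I.subscheme := isReduced_vanishingIdeal C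
  obtain ⟨z, hz⟩ : x' ∈ Set.range i := hr.ge (subset_closure rfl)
  have hgen : IsGenericPoint z (Set.univ : Set I.subscheme) := by
    rw [isGenericPoint_def, Set.eq_univ_iff_forall]
    intro w
    rw [← specializes_iff_mem_closure, ← i.isClosedEmbedding.toIsEmbedding.isInducing.specializes_iff, hz,
      specializes_iff_mem_closure, ← hr]
    exact Set.mem_range_self w
  have : Nonempty I.subscheme := ⟨z⟩
  have : IrreducibleSpace I.subscheme :=
    { isPreirreducible_univ := hgen.isIrreducible.isPreirreducible, toNonempty := ⟨z⟩ }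
  have : IsIntegral I.subscheme := isIntegral_of_irreducibleSpace_of_isReduced _
  have hgz : genericPoint I.subscheme = z := (genericPoint_spec _).eq hgen
  refine ⟨I.subscheme, i, inferInstance, flat_of_isIntegral V _ ?_, ⟨fun y => ?_⟩⟩
  · rw [hgz, Scheme.Hom.comp_apply, hz]
    obtain ⟨w, hw⟩ := hg.surj (⟨⊥, Ideal.isPrime_bot⟩ : PrimeSpectrum V)
    rw [← Scheme.Hom.comp_apply]
    have hsp : (g ≫ f) (genPt (CommRingCat.of W)) ⤳ (g ≫ f) w :=
      (genPt_specializes w).map (g ≫ f).continuous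
    rw [hw] at hsp
    exact hsp.antisymm (genPt_specializes (V := CommRingCat.of V) _) |>.eq
  · obtain ⟨w, rfl⟩ := hg.surj y
    obtain ⟨v, hv⟩ : g w ∈ Set.range i := hr.ge ((genPt_specializes w).map g.continuous).mem_closure
    exact ⟨v, by rw [Scheme.Hom.comp_apply, hv, ← Scheme.Hom.comp_apply]⟩

theorem flat_to_univ
    (h : ∃ (Z : Scheme.{u}) (i : Z ⟶ X), IsClosedImmersion i ∧ Flat (i ≫ f) ∧ Surjective (i ≫ f)) :
    Subtr.UnivSSubtrusive f := by
  obtain ⟨Z, i, -, hflat, hsurj⟩ := h
  intro X' Y' i₁ i₂ f' sq y y' hy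
  obtain ⟨q, hq⟩ := (pullback.snd (i ≫ f) i₂).surjective y
  obtain ⟨q', hq', hq''⟩ := Flat.generalizingMap (pullback.snd (i ≫ f) i₂)
    (show y' ⤳ pullback.snd (i ≫ f) i₂ q from hq ▸ hy)
  let m : pullback (i ≫ f) i₂ ⟶ X' := sq.lift (pullback.snd _ _) (pullback.fst _ _ ≫ i)
    (by rw [Category.assoc, ← pullback.condition])
  have hm : m ≫ f' = pullback.snd _ _ := sq.lift_fst _ _ _
  exact ⟨m q, m q', hq'.map m.continuous, by rw [← Scheme.Hom.comp_apply, hm, hq],
    by rw [← Scheme.Hom.comp_apply, hm, hq'']⟩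

theorem tfae :
    List.TFAE [
      Subtr.UnivSSubtrusive f,
      Subtr.IsSSubtrusive f,
      ∀ y : Spec (CommRingCat.of V), ∃ x : X,
        x ∈ closure (f ⁻¹' {(⟨⊥, Ideal.isPrime_bot⟩ : PrimeSpectrum V)}) ∧ f x = y,
      ∃ x x' : X, x' ⤳ x ∧ f x = IsLocalRing.closedPoint V ∧
        f x' = (⟨⊥, Ideal.isPrime_bot⟩ : PrimeSpectrum V),
      ∃ (W : Type u) (_ : CommRing W) (_ : IsDomain W) (_ : ValuationRing W)
        (g : Spec (CommRingCat.of W) ⟶ X), Surjective (g ≫ f),
      ∃ (Z : Scheme.{u}) (i : Z ⟶ X), IsClosedImmersion i ∧ Flat (i ≫ f) ∧ Surjective (i ≫ f)] := by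
  tfae_have 1 → 2 := self_of_univ
  tfae_have 2 → 3 := fun h y => by
    obtain ⟨x, x', hx, hfx, hfx'⟩ := h (genPt_specializes (V := CommRingCat.of V) y)
    exact ⟨x, hx.mem_closed isClosed_closure (subset_closure hfx'), hfx⟩
  tfae_have 3 → 4 := fun h => by
    obtain ⟨x, hx, hfx⟩ := h (IsLocalRing.closedPoint V)
    obtain ⟨x', hx', hfx'⟩ := exists_specializes_of_mem_closure_fibre f _ hx
    exact ⟨x, x', hx', hfx, hfx'⟩
  tfae_have 4 → 5 := pair_to_extension V f
  tfae_have 5 → 6 := extension_to_flat V f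
  tfae_have 6 → 1 := flat_to_univ V f
  tfae_finish

end OverValuationRing

theorem univ_iff_valuationRing_lift (f : X ⟶ Y) :
    Subtr.UnivSSubtrusive f ↔
      ∀ (V : Type u) [CommRing V] [IsDomain V] [ValuationRing V] (g : Spec (CommRingCat.of V) ⟶ Y),
        ∃ (V' : Type u) (_ : CommRing V') (_ : IsDomain V') (_ : ValuationRing V')
          (a : Spec (CommRingCat.of V') ⟶ X) (b : Spec (CommRingCat.of V') ⟶ Spec (CommRingCat.of V)),
          Surjective b ∧ a ≫ f = b ≫ g := by
  constructor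
  · intro hf V _ _ _ g
    obtain ⟨W, i1, i2, i3, l, hl⟩ := ((tfae V (pullback.snd f g)).out 1 4).mp (of_univ hf g)
    exact ⟨W, i1, i2, i3, l ≫ pullback.fst f g, l ≫ pullback.snd f g, hl,
      by rw [Category.assoc, Category.assoc, pullback.condition]⟩
  · intro h
    refine univ_of_forall_valuationRing fun V _ _ _ g => ?_
    obtain ⟨W, i1, i2, i3, a, b, hb, hab⟩ := h V g
    refine ((tfae V (pullback.snd f g)).out 4 1 rfl rfl).mp
      ⟨W, i1, i2, i3, pullback.lift a b hab, ?_⟩
    rw [pullback.lift_snd]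
    exact hb

/-- A quasi-compact S-subtrusive morphism is a quotient map. -/
theorem isQuotientMap_of_quasiCompact (f : X ⟶ Y) [QuasiCompact f] (hf : Subtr.IsSSubtrusive f) :
    Topology.IsQuotientMap f := by
  rw [Topology.isQuotientMap_iff_isClosed]
  refine ⟨surjective_of_isSSubtrusive hf, fun C => ⟨fun hC => hC.preimage f.continuous, fun hC => ?_⟩⟩
  have e : f '' (f ⁻¹' C) = C := Set.image_preimage_eq _ (surjective_of_isSSubtrusive hf)
  rw [← e]
  refine isClosed_image f hC ?_
  rw [e]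
  intro y' y h hy'
  obtain ⟨x, x', hx, rfl, rfl⟩ := hf h
  exact hx.mem_closed hC hy'

theorem isQuotientMap_iff_over_dvr (V : Type u) [CommRing V] [IsDomain V]
    [IsDiscreteValuationRing V] {X : Scheme.{u}} (f : X ⟶ Spec (CommRingCat.of V)) :
    Topology.IsQuotientMap f ↔ Subtr.IsSSubtrusive f := by
  have htwo : ∀ p : PrimeSpectrum V, p = ⟨⊥, Ideal.isPrime_bot⟩ ∨ p = IsLocalRing.closedPoint V := by
    intro p
    by_cases h : p.asIdeal = ⊥
    · exact Or.inl (PrimeSpectrum.ext h)
    · exact Or.inr (PrimeSpectrum.ext (IsLocalRing.eq_maximalIdeal (p.isPrime.isMaximal h)))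
  have : Finite (PrimeSpectrum V) := Set.finite_univ_iff.mp
    ((Set.toFinite {(⟨⊥, Ideal.isPrime_bot⟩ : PrimeSpectrum V), IsLocalRing.closedPoint V}).subset
      fun p _ => by simpa using htwo p)
  have : Finite (Spec (CommRingCat.of V) : Scheme.{u}) := this
  constructor
  · intro hf
    refine ((tfae V f).out 3 1).mp ?_
    by_contra hno
    have hne : (⟨⊥, Ideal.isPrime_bot⟩ : PrimeSpectrum V) ≠ IsLocalRing.closedPoint V := fun e =>
      IsDiscreteValuationRing.not_a_field V (congrArg PrimeSpectrum.asIdeal e).symm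
    have hclosed : IsClosed (f ⁻¹' {(⟨⊥, Ideal.isPrime_bot⟩ : PrimeSpectrum V)}) := by
      rw [← closure_subset_iff_isClosed]
      intro x hx
      rcases htwo (f x) with h | h
      · exact h
      · obtain ⟨x', hx', hfx'⟩ := exists_specializes_of_mem_closure_fibre f _ hx
        exact absurd ⟨x, x', hx', h, hfx'⟩ hno
    have hη := ((Topology.isQuotientMap_iff_isClosed.mp hf).2 _).mpr hclosed
    exact hne ((genPt_specializes (V := CommRingCat.of V) (IsLocalRing.closedPoint V)).mem_closed hη rfl).symm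
  · intro hf
    rw [Topology.isQuotientMap_iff_isClosed]
    refine ⟨surjective_of_isSSubtrusive hf, fun C => ⟨fun hC => hC.preimage f.continuous, fun hC => ?_⟩⟩
    rw [← isOpen_compl_iff, isOpen_iff_forall_specializes]
    intro y' y h hy
    obtain ⟨x, x', hx, rfl, rfl⟩ := hf h
    exact hx.mem_open hC.isOpen_compl hy

end Groth.Misc8.Subtr
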