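import Groth.Prelude.Def_SGA1
import Groth.Agent.Misc8.SubtrCore
import Groth.Agent.EGA43Valuative.DominatingDVR
import Mathlib.RingTheory.TensorProduct.DirectLimitFG
import Mathlib.AlgebraicGeometry.Morphisms.Flat
import Mathlib.AlgebraicGeometry.Morphisms.LocalIso

/-! Universally submersive versus universally S-subtrusive morphisms. -/

set_option autoImplicit false

open CategoryTheory CategoryTheory.Limits AlgebraicGeometry TopologicalSpace
open Groth.HTopHyper (genPt clPt specializes_clPt genPt_specializes exists_valRing)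

namespace Groth.Misc8.Subtr

universe u

variable {X Y : Scheme.{u}}

/-- A pair of primes over the generic and the closed point of `Spec V`. -/
def HasPair (V T : Type u) [CommRing V] [IsLocalRing V] [CommRing T] [Algebra V T] : Prop :=
  ∃ q' q : Ideal T, q'.IsPrime ∧ q.IsPrime ∧ q' ≤ q ∧ q'.comap (algebraMap V T) = ⊥ ∧
    q.comap (algebraMap V T) = IsLocalRing.maximalIdeal V

theorem exists_kill {V : Type u} [CommRing V] [IsDomain V] [ValuationRing V] {T : Type u} [CommRing T]
    [Algebra V T] (h : ¬ HasPair V T) :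
    ∃ (t m : V) (r : T), t ≠ 0 ∧ m ∈ IsLocalRing.maximalIdeal V ∧
      algebraMap V T t * (1 - algebraMap V T m * r) = 0 := by
  let I : Ideal T :=
    { carrier := {z | ∃ t : V, t ≠ 0 ∧ algebraMap V T t * z = 0}
      zero_mem' := ⟨1, one_ne_zero, by simp⟩
      add_mem' := by
        rintro a b ⟨s, hs, ha⟩ ⟨t, ht, hb⟩
        exact ⟨s * t, mul_ne_zero hs ht, by rw [map_mul, mul_add, mul_right_comm, ha, zero_mul, zero_add,
          mul_assoc, hb, mul_zero]⟩
      smul_mem' := by
        rintro c z ⟨t, ht, hz⟩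
        exact ⟨t, ht, by rw [smul_eq_mul, mul_left_comm, hz, mul_zero]⟩ }
  let J : Ideal T := (IsLocalRing.maximalIdeal V).map (algebraMap V T)
  have htop : I ⊔ J = ⊤ := by
    by_contra hne
    obtain ⟨q, hq, hle⟩ := Ideal.exists_le_maximal _ hne
    have hqc : q.comap (algebraMap V T) = IsLocalRing.maximalIdeal V :=
      le_antisymm (IsLocalRing.le_maximalIdeal (Ideal.comap_ne_top _ hq.ne_top))
        (Ideal.map_le_iff_le_comap.mp (le_sup_right.trans hle))
    let S : Submonoid T :=
      { carrier := {z | ∃ (t : V) (u : T), t ≠ 0 ∧ u ∉ q ∧ z = algebraMap V T t * u}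
        one_mem' := ⟨1, 1, one_ne_zero, fun h1 => hq.ne_top ((Ideal.eq_top_iff_one q).mpr h1), by simp⟩
        mul_mem' := by
          rintro _ _ ⟨s, u, hs, hu, rfl⟩ ⟨t, v, ht, hv, rfl⟩
          exact ⟨s * t, u * v, mul_ne_zero hs ht, fun h => (hq.isPrime.mem_or_mem h).elim hu hv,
            by rw [map_mul]; ring⟩ }
    have h0 : Disjoint ((⊥ : Ideal T) : Set T) (S : Set T) := by
      rw [Set.disjoint_left]
      rintro z hz ⟨t, u, ht, hu, rfl⟩
      exact hu (hle (Ideal.mem_sup_left ⟨t, ht, by simpa using hz⟩))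
    obtain ⟨q', hq', -, hdis⟩ := Ideal.exists_le_prime_disjoint (⊥ : Ideal T) S h0
    refine h ⟨q', q, hq', hq.isPrime, fun z hz => ?_, ?_, hqc⟩
    · by_contra hzq
      exact Set.disjoint_left.mp hdis hz ⟨1, z, one_ne_zero, hzq, by simp⟩
    · rw [eq_bot_iff]
      intro t ht
      rw [Ideal.mem_bot]
      by_contra ht0
      exact Set.disjoint_left.mp hdis ht ⟨t, 1, ht0,
        fun h1 => hq.ne_top ((Ideal.eq_top_iff_one q).mpr h1), by simp⟩
  have hJ : ∀ j ∈ J, ∃ m ∈ IsLocalRing.maximalIdeal V, ∃ r, j = algebraMap V T m * r := by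
    intro j hj
    induction hj using Submodule.span_induction with
    | mem j hj => obtain ⟨m, hm, rfl⟩ := hj; exact ⟨m, hm, 1, (mul_one _).symm⟩
    | zero => exact ⟨0, Ideal.zero_mem _, 0, by simp⟩
    | add v w _ _ hv hw =>
      obtain ⟨a, ha, r, rfl⟩ := hv
      obtain ⟨b, hb, s, rfl⟩ := hw
      rcases ValuationRing.dvd_total a b with ⟨c, rfl⟩ | ⟨c, rfl⟩
      · exact ⟨a, ha, r + algebraMap V T c * s, by rw [map_mul]; ring⟩
      · exact ⟨b, hb, algebraMap V T c * r + s, by rw [map_mul]; ring⟩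
    | smul c w _ hw =>
      obtain ⟨a, ha, r, rfl⟩ := hw
      exact ⟨a, ha, c * r, by rw [smul_eq_mul]; ring⟩
  obtain ⟨z, ⟨t, ht, htz⟩, j, hj, hzj⟩ := Submodule.mem_sup.mp ((Ideal.eq_top_iff_one _).mp htop)
  obtain ⟨m, hm, r, rfl⟩ := hJ j hj
  refine ⟨t, m, r, ht, hm, ?_⟩
  rwa [← hzj, add_sub_cancel_right]

open scoped TensorProduct in
theorem hasPair_of_forall_dvr {A B V : Type u} [CommRing A] [IsNoetherianRing A] [CommRing B] [Algebra A B]
    [CommRing V] [IsDomain V] [ValuationRing V] [Algebra A V] (hV : IsLocalRing.maximalIdeal V ≠ ⊥)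
    (H : ∀ (D : Type u) [CommRing D] [IsDomain D] [IsDiscreteValuationRing D] [Algebra A D],
      HasPair D (D ⊗[A] B)) : HasPair V (V ⊗[A] B) := by
  classical
  by_contra hno
  obtain ⟨t, m, r, ht, hm, hrel⟩ := exists_kill hno
  obtain ⟨π, hπ, hπ0⟩ := Submodule.exists_mem_ne_zero_of_ne_bot hV
  obtain ⟨A1, hA1, r1, hr1⟩ := TensorProduct.Algebra.exists_of_fg (R := A) r
  let A0 := Algebra.adjoin A (({t, m, π} : Finset V) : Set V) ⊔ A1
  have hA0 : A0.FG := (Subalgebra.fg_adjoin_finset _).sup hA1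
  have hsub : ∀ z ∈ ({t, m, π} : Finset V), z ∈ A0 := fun z hz =>
    (le_sup_left : Algebra.adjoin A _ ≤ A0) (Algebra.subset_adjoin (Finset.mem_coe.mpr hz))
  let t0 : A0 := ⟨t, hsub t (by simp)⟩
  let m0 : A0 := ⟨m, hsub m (by simp)⟩
  let r0 : A0 ⊗[A] B :=
    Algebra.TensorProduct.map (Subalgebra.inclusion (le_sup_right : A1 ≤ A0)) (AlgHom.id A B) r1
  let ζ : A0 ⊗[A] B := (t0 ⊗ₜ[A] (1 : B)) * (1 - (m0 ⊗ₜ[A] (1 : B)) * r0)
  have hmap : ∀ (S S' : Type u) [CommRing S] [CommRing S'] [Algebra A S] [Algebra A S'] (φ : S →ₐ[A] S')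
      (z : S ⊗[A] B), φ.toLinearMap.rTensor B z = Algebra.TensorProduct.map φ (AlgHom.id A B) z := by
    intro S S' _ _ _ _ φ z
    induction z using TensorProduct.induction_on with
    | zero => simp
    | tmul a b => rfl
    | add a b ha hb => simp [ha, hb]
  have hr0 : Algebra.TensorProduct.map A0.val (AlgHom.id A B) r0 = r := by
    rw [← hr1, hmap, ← AlgHom.comp_apply, ← Algebra.TensorProduct.map_comp]
    rfl
  have hζ : A0.val.toLinearMap.rTensor B ζ = A0.val.toLinearMap.rTensor B 0 := by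
    rw [map_zero, hmap]
    simp only [ζ, map_mul, map_sub, map_one, Algebra.TensorProduct.map_tmul, Subalgebra.coe_val,
      AlgHom.id_apply, hr0]
    exact hrel
  obtain ⟨A2, hA02, hA2, hz⟩ := TensorProduct.Algebra.eq_of_fg_of_subtype_eq hA0 hζ
  have hft : Algebra.FiniteType A A2 := ⟨A2.fg_top.mpr hA2⟩
  have : IsNoetherianRing A2 := Algebra.FiniteType.isNoetherianRing A A2
  let p : Ideal A2 := (IsLocalRing.maximalIdeal V).comap A2.val.toRingHom
  have hp : p.IsPrime := Ideal.IsPrime.comap _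
  let π2 : A2 := ⟨π, hA02 (hsub π (by simp))⟩
  have hinjloc : Function.Injective (algebraMap A2 (Localization.AtPrime p)) :=
    IsLocalization.injective _ p.primeCompl_le_nonZeroDivisors
  have hnf : ¬ IsField (Localization.AtPrime p) := by
    intro hF
    have h1 : algebraMap A2 (Localization.AtPrime p) π2 ∈ IsLocalRing.maximalIdeal (Localization.AtPrime p) :=
      (IsLocalization.AtPrime.to_map_mem_maximal_iff _ p π2).mpr hπ
    rw [IsLocalRing.isField_iff_maximalIdeal_eq.mp hF, Ideal.mem_bot] at h1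
    exact hπ0 (congrArg Subtype.val (hinjloc (h1.trans (map_zero _).symm)))
  obtain ⟨D, iD, iDd, iDdvr, φ, hφ, hφl⟩ :=
    Groth.EGA43Val.exists_dvr_dominating (Localization.AtPrime p) hnf
  let δ : A2 →+* D := φ.comp (algebraMap A2 _)
  let : Algebra A D := (δ.comp (algebraMap A A2)).toAlgebra
  let δA : A2 →ₐ[A] D := { δ with commutes' := fun _ => rfl }
  let Λ := Algebra.TensorProduct.map δA (AlgHom.id A B)
  obtain ⟨q', q, hq', hq, hle, hbot, hmax⟩ := H D
  have hz' := congrArg Λ hz
  rw [map_zero, map_zero, hmap] at hz'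
  simp only [ζ, map_mul, map_sub, map_one, Algebra.TensorProduct.map_tmul, AlgHom.id_apply, Λ] at hz'
  have ht' : δA (Subalgebra.inclusion hA02 t0) ⊗ₜ[A] (1 : B) ∉ q' := by
    intro hmem
    have : δA (Subalgebra.inclusion hA02 t0) ∈ q'.comap (algebraMap D (D ⊗[A] B)) := hmem
    rw [hbot, Ideal.mem_bot] at this
    exact ht (congrArg Subtype.val (hinjloc (hφ (this.trans (map_zero φ).symm) |>.trans (map_zero _).symm)))
  have hm' : δA (Subalgebra.inclusion hA02 m0) ⊗ₜ[A] (1 : B) ∈ q := by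
    have : δA (Subalgebra.inclusion hA02 m0) ∈ q.comap (algebraMap D (D ⊗[A] B)) := by
      rw [hmax, IsLocalRing.mem_maximalIdeal, mem_nonunits_iff]
      intro hu
      have h1 : IsUnit (algebraMap A2 (Localization.AtPrime p) (Subalgebra.inclusion hA02 m0)) :=
        hφl.map_nonunit _ hu
      exact (IsLocalization.AtPrime.isUnit_to_map_iff _ p _).mp h1 hm
    exact this
  have h2 := (hq'.mem_or_mem (hz' ▸ q'.zero_mem)).resolve_left ht'
  exact hq.ne_top ((Ideal.eq_top_iff_one q).mpr (by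
    have := q.add_mem (hle h2) (q.mul_mem_right
      (Λ (Algebra.TensorProduct.map (Subalgebra.inclusion hA02) (AlgHom.id A B) r0)) hm')
    simpa [Λ] using this))

/-- Pullbacks along the same morphisms have equivalent properties. -/
theorem isSSubtrusive_of_isPullback {P Q T : Scheme.{u}} {f : X ⟶ Y} {g : T ⟶ Y} {p : P ⟶ X} {q : P ⟶ T}
    {p' : Q ⟶ X} {q' : Q ⟶ T} (h : IsPullback p q f g) (h' : IsPullback p' q' f g)
    (hs : Subtr.IsSSubtrusive q') : Subtr.IsSSubtrusive q := by
  rw [← h.isoIsPullback_hom_snd _ _ h']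
  exact isSSubtrusive_iso_comp (h.isoIsPullback _ _ h') hs

theorem isQuotientMap_of_isPullback {P Q T : Scheme.{u}} {f : X ⟶ Y} {g : T ⟶ Y} {p : P ⟶ X} {q : P ⟶ T}
    {p' : Q ⟶ X} {q' : Q ⟶ T} (h : IsPullback p q f g) (h' : IsPullback p' q' f g)
    (hs : Topology.IsQuotientMap q') : Topology.IsQuotientMap q := by
  rw [← h.isoIsPullback_hom_snd _ _ h', Scheme.Hom.comp_base, TopCat.coe_comp]
  exact hs.comp ((h.isoIsPullback _ _ h').hom.homeomorph.isQuotientMap)

/-- S-subtrusiveness after base change is insensitive to flat surjective covers of the source. -/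
theorem isSSubtrusive_cover_iff {X' P P' T : Scheme.{u}} {f : X ⟶ Y} {g : T ⟶ Y} (c : X' ⟶ X) [Flat c]
    [Surjective c] {p : P ⟶ X} {q : P ⟶ T} {p' : P' ⟶ X'} {q' : P' ⟶ T} (h : IsPullback p q f g)
    (h' : IsPullback p' q' (c ≫ f) g) : Subtr.IsSSubtrusive q' ↔ Subtr.IsSSubtrusive q := by
  have sq := (IsPullback.of_hasPullback c p).paste_vert h
  constructor
  · intro hs y y' hy
    obtain ⟨z, z', hz, rfl, rfl⟩ := isSSubtrusive_of_isPullback sq h' hs hy
    exact ⟨_, _, hz.map (pullback.snd c p).continuous, rfl, rfl⟩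
  · intro hs
    refine isSSubtrusive_of_isPullback h' sq fun y y' hy => ?_
    obtain ⟨x, x', hx, rfl, rfl⟩ := hs hy
    obtain ⟨z, hz⟩ := (pullback.snd c p).surjective x
    obtain ⟨z', hz', hz''⟩ := Flat.generalizingMap (pullback.snd c p)
      (show x' ⤳ pullback.snd c p z from hz ▸ hx)
    exact ⟨z, z', hz', by rw [Scheme.Hom.comp_apply, hz], by rw [Scheme.Hom.comp_apply, hz'']⟩

theorem univSubmersive_of_forall_valuationRing (f : X ⟶ Y) [QuasiCompact f]
    (h : ∀ (V : Type u) [CommRing V] [IsDomain V] [ValuationRing V] (g : Spec (CommRingCat.of V) ⟶ Y),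
      Topology.IsQuotientMap (pullback.snd f g)) : SGA1.UnivSubmersive f := by
  intro X' Y' i₁ i₂ f' sq
  show Topology.IsQuotientMap f'
  have : QuasiCompact f' := MorphismProperty.of_isPullback (P := @QuasiCompact) sq.flip inferInstance
  have hq : ∀ (V : Type u) [CommRing V] [IsDomain V] [ValuationRing V] (g : Spec (CommRingCat.of V) ⟶ Y'),
      Topology.IsQuotientMap (pullback.snd f' g) := fun V _ _ _ g =>
    isQuotientMap_of_isPullback ((IsPullback.of_hasPullback f' g).paste_horiz sq.flip)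
      (IsPullback.of_hasPullback f (g ≫ i₂)) (h V (g ≫ i₂))
  have hsurj : Function.Surjective f' := fun y => by
    obtain ⟨W, hW, hW', l, hl', hl⟩ := exists_valRing (specializes_refl y)
    obtain ⟨z, hz⟩ := (hq W l).surjective (clPt W)
    exact ⟨pullback.fst f' l z, by
      rw [← Scheme.Hom.comp_apply, pullback.condition, Scheme.Hom.comp_apply]
      exact (congrArg l hz).trans hl⟩
  rw [Topology.isQuotientMap_iff_isClosed]
  refine ⟨hsurj, fun C => ⟨fun hC => hC.preimage f'.continuous, fun hC => ?_⟩⟩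
  have e : f' '' (f' ⁻¹' C) = C := Set.image_preimage_eq _ hsurj
  rw [← e]
  refine isClosed_image f' hC ?_
  rw [e]
  intro y' y hy hy'
  obtain ⟨W, hW, hW', l, hl', hl⟩ := exists_valRing hy
  have hcl : IsClosed (l ⁻¹' C) := by
    refine ((Topology.isQuotientMap_iff_isClosed.mp (hq W l)).2 _).mpr ?_
    have e2 : pullback.snd f' l ⁻¹' (l ⁻¹' C) = pullback.fst f' l ⁻¹' (f' ⁻¹' C) := by
      ext z
      simp only [Set.mem_preimage, ← Scheme.Hom.comp_apply, pullback.condition]
    rw [e2]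
    exact hC.preimage (pullback.fst f' l).continuous
  have hg : genPt W ∈ l ⁻¹' C := by rw [Set.mem_preimage, hl']; exact hy'
  have := (specializes_clPt (genPt W)).mem_closed hcl hg
  rwa [Set.mem_preimage, hl] at this

theorem univSubmersive_of_univSSubtrusive (f : X ⟶ Y) [QuasiCompact f] (hf : Subtr.UnivSSubtrusive f) :
    SGA1.UnivSubmersive f := by
  intro X' Y' i₁ i₂ f' sq
  have : QuasiCompact f' := MorphismProperty.of_isPullback (P := @QuasiCompact) sq.flip inferInstance
  exact isQuotientMap_of_quasiCompact f' (hf i₁ i₂ f' sq)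

/-- A quasi-compact scheme has a flat surjective morphism from an affine scheme. -/
theorem exists_affine_cover (Z : Scheme.{u}) [CompactSpace Z] :
    ∃ (B : CommRingCat.{u}) (c : Spec B ⟶ Z), Flat c ∧ Surjective c := by
  let 𝒰 := Z.affineCover.finiteSubcover
  have : Finite 𝒰.I₀ := inferInstanceAs (Finite (Subtype _))
  have : ∀ i, IsAffine (𝒰.X i) := fun i => inferInstanceAs (IsAffine (Spec _))
  let d := Sigma.desc 𝒰.f
  have : Flat d := IsZariskiLocalAtSource.sigmaDesc fun _ => inferInstance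
  have : Surjective d := Surjective.sigmaDesc_of_union_range_eq_univ 𝒰.iUnion_range
  exact ⟨_, (∐ 𝒰.X).isoSpec.inv ≫ d, inferInstance, inferInstance⟩

theorem quotientMap_of_univ {f : X ⟶ Y} (hf : SGA1.UnivSubmersive f) {T : Scheme.{u}} (g : T ⟶ Y) :
    Topology.IsQuotientMap (pullback.snd f g) :=
  hf _ _ _ (IsPullback.of_hasPullback f g).flip

open scoped TensorProduct in
theorem isPullback_tensor (A B V : Type u) [CommRing A] [CommRing B] [CommRing V] [Algebra A B] [Algebra A V] :
    IsPullback (Spec.map (CommRingCat.ofHom ((Algebra.TensorProduct.includeRight (R := A) (A := V) (B := B)).toRingHom)))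
      (Spec.map (CommRingCat.ofHom (algebraMap V (V ⊗[A] B))))
      (Spec.map (CommRingCat.ofHom (algebraMap A B))) (Spec.map (CommRingCat.ofHom (algebraMap A V))) :=
  (isPullback_SpecMap_of_isPushout _ _ _ _ (CommRingCat.isPushout_tensorProduct A V B)).flip

open scoped TensorProduct in
theorem isSSubtrusive_iff_hasPair (A B V : Type u) [CommRing A] [CommRing B] [CommRing V] [IsDomain V]
    [ValuationRing V] [Algebra A B] [Algebra A V] :
    Subtr.IsSSubtrusive (Spec.map (CommRingCat.ofHom (algebraMap V (V ⊗[A] B)))) ↔ HasPair V (V ⊗[A] B) := by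
  constructor
  · intro h
    obtain ⟨x, x', hx, hfx, hfx'⟩ := h (specializes_clPt (genPt (CommRingCat.of V)))
    exact ⟨x'.asIdeal, x.asIdeal, x'.isPrime, x.isPrime, (PrimeSpectrum.le_iff_specializes x' x).mpr hx,
      congrArg PrimeSpectrum.asIdeal hfx', congrArg PrimeSpectrum.asIdeal hfx⟩
  · rintro ⟨q', q, hq', hq, hle, hbot, hmax⟩
    exact ((tfae V _).out 3 1 rfl rfl).mp ⟨⟨q, hq⟩, ⟨q', hq'⟩,
      (PrimeSpectrum.le_iff_specializes (⟨q', hq'⟩ : PrimeSpectrum _) ⟨q, hq⟩).mp hle,
      PrimeSpectrum.ext hmax, PrimeSpectrum.ext hbot⟩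

theorem univSSubtrusive_of_univSubmersive [IsLocallyNoetherian Y] (f : X ⟶ Y) [QuasiCompact f]
    (hf : SGA1.UnivSubmersive f) : Subtr.UnivSSubtrusive f := by
  refine univ_of_forall_valuationRing fun V _ _ _ g => ?_
  by_cases hV : IsLocalRing.maximalIdeal V = ⊥
  · obtain ⟨x, hx⟩ := (quotientMap_of_univ hf g).surjective (IsLocalRing.closedPoint V)
    refine ((tfae V (pullback.snd f g)).out 3 1 rfl rfl).mp ⟨x, x, specializes_refl x, hx, hx.trans ?_⟩
    exact PrimeSpectrum.ext hV
  obtain ⟨U, hU, hgU, -⟩ := exists_isAffineOpen_mem_and_subset (X := Y)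
    (x := g (clPt (CommRingCat.of V))) (U := ⊤) trivial
  have : IsNoetherianRing Γ(Y, U) := IsLocallyNoetherian.component_noetherian ⟨U, hU⟩
  have hgU' : g (clPt (CommRingCat.of V)) ∈ Set.range hU.fromSpec := by rw [hU.range_fromSpec]; exact hgU
  obtain ⟨g0, hg0⟩ := Groth.HTopHyper.exists_lift_openImmersion hU.fromSpec g hgU'
  obtain ⟨φ, rfl⟩ := Spec.map_surjective g0
  let A : CommRingCat.{u} := Γ(Y, U)
  let fA := pullback.snd f hU.fromSpec
  have : CompactSpace (pullback f hU.fromSpec : Scheme.{u}) := QuasiCompact.compactSpace_of_compactSpace fA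
  obtain ⟨B, c, hc1, hc2⟩ := exists_affine_cover (pullback f hU.fromSpec)
  obtain ⟨ψ, hψ⟩ := Spec.map_surjective (c ≫ fA)
  let : Algebra A B := ψ.hom.toAlgebra
  let : Algebra A V := φ.hom.toAlgebra
  have sqV : ∀ (D : Type u) [CommRing D] [Algebra A D],
      IsPullback (Spec.map (CommRingCat.ofHom ((Algebra.TensorProduct.includeRight (R := A) (A := D) (B := B)).toRingHom)))
        (Spec.map (CommRingCat.ofHom (algebraMap D (TensorProduct A D B))))
        (c ≫ fA) (Spec.map (CommRingCat.ofHom (algebraMap A D))) := by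
    intro D _ _
    rw [← hψ]
    exact isPullback_tensor A B D
  have H : ∀ (D : Type u) [CommRing D] [IsDomain D] [IsDiscreteValuationRing D] [Algebra A D],
      HasPair D (TensorProduct A D B) := by
    intro D _ _ _ _
    rw [← isSSubtrusive_iff_hasPair]
    rw [isSSubtrusive_cover_iff c (IsPullback.of_hasPullback fA _) (sqV D), ← isQuotientMap_iff_over_dvr]
    exact isQuotientMap_of_isPullback
      ((IsPullback.of_hasPullback fA _).paste_horiz (IsPullback.of_hasPullback f hU.fromSpec))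
      (IsPullback.of_hasPullback f _) (quotientMap_of_univ hf _)
  have hpair := hasPair_of_forall_dvr (A := A) (B := B) (V := V) hV H
  rw [← isSSubtrusive_iff_hasPair, isSSubtrusive_cover_iff c (IsPullback.of_hasPullback fA _) (sqV V)] at hpair
  have sqfin := (IsPullback.of_hasPullback fA (Spec.map φ)).paste_horiz (IsPullback.of_hasPullback f hU.fromSpec)
  rw [← hg0]
  exact isSSubtrusive_of_isPullback (IsPullback.of_hasPullback f (Spec.map φ ≫ hU.fromSpec)) sqfin hpair

end Groth.Misc8.Subtr
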