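import Groth.Prelude.Def_SymTen
import Mathlib.LinearAlgebra.Multilinear.Basis
import Mathlib.Algebra.BigOperators.Ring.Finset
import Mathlib.Tactic

/-! Symmetric tensors are spanned by diagonal tensors when `d!` is invertible. -/

namespace Groth.Misc8.Polarisation

open scoped TensorProduct
open PiTensorProduct

universe u

variable {A : Type u} [CommRing A] {B : Type u} [CommRing B] [Algebra A B] {d : ℕ}

theorem sum_perm_tprod_mem (p : Fin d → B) :
    ∑ σ : Equiv.Perm (Fin d), tprod A (fun k => p (σ k)) ∈
      Submodule.span A (Set.range fun r : B => tprod A (fun _ : Fin d => r)) := by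
  classical
  have key : ∀ g : Fin d → Fin d, (∑ t ∈ (Finset.univ : Finset (Fin d)).powerset,
      ((-1 : A) ^ (Finset.univ \ t).card) • if (∀ j, g j ∈ t) then tprod A (fun j => p (g j)) else 0) =
      if Function.Bijective g then tprod A (fun j => p (g j)) else 0 := by
    intro g
    set U : Finset (Fin d) := Finset.univ.image g
    have hU : ∀ t : Finset (Fin d), (∀ j, g j ∈ t) ↔ U ⊆ t := fun t => by simp [U, Finset.image_subset_iff]
    simp only [hU, smul_ite, smul_zero]
    rw [Finset.sum_ite, Finset.sum_const_zero, add_zero, ← Finset.sum_smul]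
    have hs : (∑ t ∈ (Finset.univ : Finset (Fin d)).powerset.filter (U ⊆ ·), (-1 : A) ^ (Finset.univ \ t).card) =
        ∑ r ∈ (Finset.univ \ U).powerset, (-1 : A) ^ r.card := by
      refine Finset.sum_nbij' (fun t => Finset.univ \ t) (fun r => Finset.univ \ r) ?_ ?_ ?_ ?_ ?_
      · intro t ht
        simp only [Finset.mem_filter, Finset.mem_powerset] at ht ⊢
        exact Finset.sdiff_subset_sdiff subset_rfl ht.2
      · intro r hr
        simp only [Finset.mem_filter, Finset.mem_powerset] at hr ⊢
        refine ⟨Finset.subset_univ _, ?_⟩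
        intro x hx
        simp only [Finset.mem_sdiff, Finset.mem_univ, true_and]
        exact fun hxr => (Finset.mem_sdiff.mp (hr hxr)).2 hx
      · intro t _; simp
      · intro r _; simp
      · intro t _; rfl
    rw [hs]
    have h2 : (∑ r ∈ (Finset.univ \ U).powerset, (-1 : A) ^ r.card) = if U = Finset.univ then 1 else 0 := by
      have h := (Finset.univ \ U).sum_pow_mul_eq_add_pow (-1 : A) 1
      simp only [one_pow, mul_one, neg_add_cancel] at h
      rw [h]
      split_ifs with hu
      · simp [hu]
      · rw [zero_pow]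
        intro h0
        rw [Finset.card_eq_zero, Finset.sdiff_eq_empty_iff_subset] at h0
        exact hu (Finset.univ_subset_iff.mp h0)
    rw [h2]
    have h3 : U = Finset.univ ↔ Function.Bijective g := by
      constructor
      · intro h
        rw [Finite.injective_iff_bijective.symm, Finite.injective_iff_surjective]
        intro x
        have : x ∈ U := h ▸ Finset.mem_univ x
        simpa [U] using this
      · intro h
        exact Finset.image_univ_of_surjective h.2
    simp only [h3, ite_smul, one_smul, zero_smul]
  have hsum : ∑ σ : Equiv.Perm (Fin d), tprod A (fun k => p (σ k)) =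
      ∑ g : Fin d → Fin d, if Function.Bijective g then tprod A (fun j => p (g j)) else 0 := by
    rw [← Finset.sum_filter]
    refine Finset.sum_bij (fun σ _ => (σ : Fin d → Fin d)) (fun σ _ => Finset.mem_filter.mpr ⟨Finset.mem_univ _, σ.bijective⟩)
      (fun a _ b _ h => Equiv.coe_fn_injective h) (fun g hg => ?_) (fun σ _ => rfl)
    exact ⟨Equiv.ofBijective g (Finset.mem_filter.mp hg).2, Finset.mem_univ _, rfl⟩
  rw [hsum]
  simp only [← key]
  rw [Finset.sum_comm]
  refine Submodule.sum_mem _ fun t _ => ?_
  rw [← Finset.smul_sum]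
  refine Submodule.smul_mem _ _ (Submodule.subset_span ⟨∑ k ∈ t, p k, ?_⟩)
  show tprod A (fun _ : Fin d => ∑ k ∈ t, p k) = _
  rw [MultilinearMap.map_sum_finset, ← Finset.sum_filter]
  refine Finset.sum_congr ?_ fun g _ => rfl
  ext g
  simp [Fintype.mem_piFinset]

theorem factorial_smul_mem {t : ⨂[A] _ : Fin d, B} (ht : t ∈ SymTen.TS A B d) :
    (Nat.factorial d : A) • t ∈ Submodule.span A (Set.range fun r : B => tprod A (fun _ : Fin d => r)) := by
  classical
  have h : (Nat.factorial d : A) • t =
      ∑ σ : Equiv.Perm (Fin d), PiTensorProduct.reindex A (fun _ : Fin d => B) σ t := by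
    rw [Finset.sum_congr rfl fun σ _ => ht σ, Finset.sum_const, Finset.card_univ, Fintype.card_perm,
      Fintype.card_fin, Nat.cast_smul_eq_nsmul]
  rw [h]
  clear h ht
  induction t using PiTensorProduct.induction_on with
  | add x y hx hy => simp only [map_add, Finset.sum_add_distrib]; exact add_mem hx hy
  | smul_tprod c p =>
    simp only [map_smul, PiTensorProduct.reindex_tprod, ← Finset.smul_sum]
    refine Submodule.smul_mem _ c ?_
    rw [← Equiv.sum_comp (Equiv.inv (Equiv.Perm (Fin d)))]
    exact sum_perm_tprod_mem p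

theorem ext_of_tpow {C : Type*} [CommRing C] [Algebra A C] (hfact : IsUnit (Nat.factorial d : A))
    (f g : SymTen.TS A B d →ₐ[A] C) (h : ∀ r, f (SymTen.tpow A B d r) = g (SymTen.tpow A B d r)) : f = g := by
  ext t
  have hm := Submodule.smul_mem _ (↑hfact.unit⁻¹ : A) (factorial_smul_mem t.2)
  rw [smul_smul, IsUnit.val_inv_mul, one_smul] at hm
  have hle : Submodule.span A (Set.range fun r : B => tprod A (fun _ : Fin d => r)) ≤
      (LinearMap.eqLocus f.toLinearMap g.toLinearMap).map (SymTen.TS A B d).val.toLinearMap := by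
    rw [Submodule.span_le]
    rintro _ ⟨r, rfl⟩
    exact ⟨SymTen.tpow A B d r, h r, rfl⟩
  obtain ⟨t', ht', he⟩ := hle hm
  rw [← Subtype.ext (show (t' : ⨂[A] _ : Fin d, B) = t.1 from he)]
  exact ht'

end Groth.Misc8.Polarisation
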