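import Groth.Agent.Misc8.FlatTensor
import Groth.Prelude.Def_SymTen
import Mathlib.Logic.Equiv.Basic
import Mathlib.Tactic

/-! Symmetric tensors of flat modules via orbit sums. -/

namespace Groth.Misc8.SymOrbit

open scoped TensorProduct
open PiTensorProduct FlatTensor

universe u

variable {R : Type u} [CommRing R] {M : Type u} [AddCommGroup M] [Module R M] {n : ℕ}

def IsSym (t : T R n M) : Prop :=
  ∀ σ : Equiv.Perm (Fin n), PiTensorProduct.reindex R (fun _ : Fin n => M) σ t = t

noncomputable def Sym (R : Type u) [CommRing R] (M : Type u) [AddCommGroup M] [Module R M] (n : ℕ) :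
    Submodule R (T R n M) :=
  ⨅ σ : Equiv.Perm (Fin n),
      LinearMap.eqLocus (PiTensorProduct.reindex R (fun _ : Fin n => M) σ).toLinearMap LinearMap.id

theorem mem_Sym {t : T R n M} : t ∈ Sym R M n ↔ IsSym t := by
  simp [Sym, IsSym, Submodule.mem_iInf]

theorem Tmap_reindex {N : Type u} [AddCommGroup N] [Module R N] (f : M →ₗ[R] N) (σ : Equiv.Perm (Fin n))
    (t : T R n M) :
    Tmap n f (PiTensorProduct.reindex R (fun _ : Fin n => M) σ t) =
      PiTensorProduct.reindex R (fun _ : Fin n => N) σ (Tmap n f t) := by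
  induction t using PiTensorProduct.induction_on with
  | add a b ha hb => simp [ha, hb]
  | smul_tprod c g => simp [PiTensorProduct.reindex_tprod, PiTensorProduct.map_tprod]

theorem isSym_map {N : Type u} [AddCommGroup N] [Module R N] (f : M →ₗ[R] N) {t : T R n M} (h : IsSym t) :
    IsSym (Tmap n f t) := fun σ => by rw [← Tmap_reindex, h σ]

/-- Finitely many symmetric tensors of a flat module come from symmetric tensors of a finite free module;
moreover a given relation can be made to hold there. -/
theorem exists_sym_lift [Module.Flat R M] {m : ℕ} (t : Fin m → T R n M) (ht : ∀ i, IsSym (t i))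
    (r : Fin m → R) (hr : ∑ i, r i • t i = 0) :
    ∃ (l : ℕ) (x : (Fin l → R) →ₗ[R] M) (s : Fin m → T R n (Fin l → R)),
      (∀ i, IsSym (s i)) ∧ (∀ i, Tmap n x (s i) = t i) ∧ ∑ i, r i • s i = 0 := by
  classical
  obtain ⟨l, x, s, hs⟩ := exists_lift n t
  let z : Option (Fin m × Equiv.Perm (Fin n)) → T R n (Fin l → R) := fun o =>
    match o with
    | none => ∑ i, r i • s i
    | some (i, σ) => PiTensorProduct.reindex R (fun _ : Fin n => Fin l → R) σ (s i) - s i
  obtain ⟨l', a, y, rfl, ha⟩ := exists_factor n x Finset.univ z (by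
    rintro (_ | ⟨i, σ⟩) -
    · simp [z, hs, hr]
    · simp [z, Tmap_reindex, hs, ht i σ])
  refine ⟨l', y, fun i => Tmap n a (s i), fun i σ => ?_, fun i => by rw [← Tmap_comp, hs], ?_⟩
  · have := ha (some (i, σ)) (Finset.mem_univ _)
    simp only [z, map_sub, Tmap_reindex, sub_eq_zero] at this
    exact this
  · have := ha none (Finset.mem_univ _)
    simpa [z] using this

theorem exists_sym_lift_one [Module.Flat R M] (t : T R n M) (ht : IsSym t) :
    ∃ (l : ℕ) (x : (Fin l → R) →ₗ[R] M) (s : T R n (Fin l → R)), IsSym s ∧ Tmap n x s = t := by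
  obtain ⟨l, x, s, h1, h2, -⟩ := exists_sym_lift (R := R) (fun _ : Fin 1 => t) (fun _ => ht) 0 (by simp)
  exact ⟨l, x, s 0, h1 0, h2 0⟩

section Orbit

variable {κ : Type} [Fintype κ] [DecidableEq κ]

def mult (h : Fin n → κ) : κ → ℕ := fun c => (Finset.univ.filter fun i => h i = c).card

theorem exists_perm_of_mult_eq {g h : Fin n → κ} (e : mult g = mult h) :
    ∃ σ : Equiv.Perm (Fin n), ∀ i, h (σ i) = g i := by
  have hc : ∀ c, Fintype.card {i // g i = c} = Fintype.card {i // h i = c} := fun c => by
    simp only [Fintype.card_subtype]; exact congrFun e c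
  exact ⟨Equiv.ofFiberEquiv (fun c => Fintype.equivOfCardEq (hc c)),
    fun i => Equiv.ofFiberEquiv_map _ i⟩

theorem mult_comp (h : Fin n → κ) (σ : Equiv.Perm (Fin n)) : mult (fun i => h (σ i)) = mult h := by
  funext c
  exact Finset.card_equiv σ (by simp)

noncomputable def esum (R : Type u) [CommRing R] {M : Type u} [AddCommGroup M] [Module R M] (a : κ → M)
    (v : κ → ℕ) : T R n M :=
  ∑ h ∈ Finset.univ.filter (fun h : Fin n → κ => mult h = v), tprod R (fun i => a (h i))

theorem esum_isSym (a : κ → M) (v : κ → ℕ) : IsSym (esum (n := n) R a v) := by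
  intro σ
  rw [esum, map_sum]
  simp only [PiTensorProduct.reindex_tprod]
  refine Finset.sum_equiv (Equiv.arrowCongr σ (Equiv.refl κ)) (fun h => ?_) (fun h _ => rfl)
  simp only [Finset.mem_filter, Finset.mem_univ, true_and]
  rw [← mult_comp h σ.symm]
  rfl

theorem map_esum {N : Type u} [AddCommGroup N] [Module R N] (f : M →ₗ[R] N) (a : κ → M) (v : κ → ℕ) :
    Tmap n f (esum R a v) = esum R (fun c => f (a c)) v := by
  simp [esum, PiTensorProduct.map_tprod, Function.comp_def]

variable {l : ℕ}

noncomputable def cls (n l : ℕ) : Finset (Fin l → ℕ) :=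
  (Finset.univ : Finset (Fin n → Fin l)).image mult

noncomputable def stdBasis (R : Type u) [CommRing R] (n l : ℕ) :
    Module.Basis (Fin n → Fin l) R (T R n (Fin l → R)) :=
  Basis.piTensorProduct (fun _ : Fin n => Pi.basisFun R (Fin l))

noncomputable def coord (R : Type u) [CommRing R] (n l : ℕ) (v : Fin l → ℕ) : T R n (Fin l → R) →ₗ[R] R :=
  if h : ∃ g : Fin n → Fin l, mult g = v then (stdBasis R n l).coord h.choose else 0

theorem repr_perm (s : T R n (Fin l → R)) (hs : IsSym s) (σ : Equiv.Perm (Fin n)) (g : Fin n → Fin l) :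
    (stdBasis R n l).repr s (fun i => g (σ i)) = (stdBasis R n l).repr s g := by
  classical
  set B := stdBasis R n l with hBdef
  have hB : ∀ g, B g = tprod R (fun i => (Pi.basisFun R (Fin l)) (g i)) := fun g =>
    Basis.piTensorProduct_apply _ g
  have hmap : (B.coord fun i => g (σ i)) ∘ₗ
      (PiTensorProduct.reindex R (fun _ : Fin n => Fin l → R) σ.symm).toLinearMap = B.coord g := by
    refine B.ext fun h => ?_
    have : PiTensorProduct.reindex R (fun _ : Fin n => Fin l → R) σ.symm (B h) = B (fun i => h (σ i)) := by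
      rw [hB, hB, PiTensorProduct.reindex_tprod]
      rfl
    simp only [LinearMap.comp_apply, LinearEquiv.coe_coe, this, Module.Basis.coord_apply, Module.Basis.repr_self]
    by_cases e : h = g
    · subst e; simp
    · rw [Finsupp.single_eq_of_ne (Ne.symm e), Finsupp.single_eq_of_ne]
      intro e'
      apply e
      funext i
      have := congrFun e'.symm (σ.symm i)
      simpa using this
  have := LinearMap.congr_fun hmap s
  simpa [hs σ.symm] using this

theorem eq_sum_esum (s : T R n (Fin l → R)) (hs : IsSym s) :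
    s = ∑ v ∈ cls n l, coord R n l v s • esum R (fun c => Pi.basisFun R (Fin l) c) v := by
  classical
  conv_lhs => rw [← (stdBasis R n l).sum_repr s]
  simp only [esum, Finset.smul_sum]
  rw [← Finset.sum_fiberwise_of_maps_to (g := mult) (t := cls n l)
    (fun h _ => Finset.mem_image_of_mem _ (Finset.mem_univ h))]
  refine Finset.sum_congr rfl fun v hv => Finset.sum_congr rfl fun h hh => ?_
  have he : ∃ g : Fin n → Fin l, mult g = v := ⟨h, (Finset.mem_filter.mp hh).2⟩
  rw [coord, dif_pos he, Module.Basis.coord_apply]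
  obtain ⟨σ, hσ⟩ := exists_perm_of_mult_eq (he.choose_spec.trans (Finset.mem_filter.mp hh).2.symm)
  rw [show he.choose = fun i => h (σ i) from funext fun i => (hσ i).symm, repr_perm s hs]
  congr 1
  exact Basis.piTensorProduct_apply _ h

end Orbit

theorem flat [Module.Flat R M] (n : ℕ) : Module.Flat R ↥(Sym R M n) := by
  classical
  refine Module.Flat.of_forall_isTrivialRelation fun {m r t} h => ?_
  obtain ⟨l, x, s, hsym, hst, hrel⟩ := exists_sym_lift (fun i => (t i : T R n M)) (fun i => mem_Sym.mp (t i).2) r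
    (by simpa using congrArg Subtype.val h)
  let e := (cls n l).equivFin
  refine ⟨(cls n l).card, fun i j => coord R n l (e.symm j) (s i),
    fun j => ⟨esum R (fun c => x (Pi.basisFun R (Fin l) c)) (e.symm j : Fin l → ℕ),
      mem_Sym.mpr (esum_isSym _ _)⟩, fun i => Subtype.ext ?_, fun j => ?_⟩
  · rw [← hst i]
    conv_lhs => rw [eq_sum_esum (s i) (hsym i)]
    simp only [map_sum, map_smul, map_esum, Submodule.coe_sum, Submodule.coe_smul]
    rw [← Finset.sum_coe_sort (cls n l)]
    exact (e.symm.sum_comp _).symm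
  · simpa using congrArg (coord R n l (e.symm j : Fin l → ℕ)) hrel

theorem lift_surjective {N : Type u} [AddCommGroup N] [Module R N] [Module.Flat R N]
    (f : M →ₗ[R] N) (hf : Function.Surjective f) (t : T R n N) (ht : IsSym t) :
    ∃ s : T R n M, IsSym s ∧ Tmap n f s = t := by
  obtain ⟨l, x, s, hs, rfl⟩ := exists_sym_lift_one t ht
  obtain ⟨g, hg⟩ := Module.projective_lifting_property f x hf
  exact ⟨Tmap n g s, isSym_map g hs, by rw [← Tmap_comp, hg]⟩

end Groth.Misc8.SymOrbit
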