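import Groth.Agent.Misc8.RootTower
import Groth.Agent.Variety2.Frobenius
import Mathlib.AlgebraicGeometry.Morphisms.FlatMono

/-! Towers of `p`-th root extractions: homeomorphisms, composition, descent of étale morphisms;
quasi-étale morphisms compose. -/

set_option autoImplicit false
set_option linter.style.haveILetI false

open CategoryTheory CategoryTheory.Limits AlgebraicGeometry Polynomial FrobSch

namespace Groth.Misc8.QuietComp

open RootTower

universe u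

variable {p : ℕ} [Fact p.Prime]

theorem isPullback_frob_of_etale {P S : Scheme.{u}} [IsCharP S p] [IsCharP P p] (g : P ⟶ S) [Etale g] :
    IsPullback (frob P p) g g (frob S p) := by
  have h1 : Etale (relFrob g p ≫ pullback.snd g (frob S p)) := by
    rw [relFrob_snd]; infer_instance
  have : Etale (pullback.snd g (frob S p)) :=
    MorphismProperty.pullback_snd _ _ inferInstance
  have : Etale (relFrob g p) := Etale.of_comp (relFrob g p) (pullback.snd g (frob S p))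
  have hs : Surjective (pullback.diagonal (relFrob g p)) :=
    (UniversallyInjective.iff_diagonal _).mp inferInstance
  have : Epi (pullback.diagonal (relFrob g p)).base := (TopCat.epi_iff_surjective _).mpr hs.1
  have : IsIso (pullback.diagonal (relFrob g p)) := IsOpenImmersion.isIso _
  have : Mono (relFrob g p) := (pullback.isIso_diagonal_iff _).mp inferInstance
  have : IsOpenImmersion (relFrob g p) := IsOpenImmersion.of_flat_of_mono _
  have : Epi (relFrob g p).base := (TopCat.epi_iff_surjective _).mpr (relFrob g p).surjective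
  have : IsIso (relFrob g p) := IsOpenImmersion.isIso _
  exact IsPullback.of_iso_pullback ⟨frob_comp p g⟩ (asIso (relFrob g p)) (relFrob_fst g p) (relFrob_snd g p)

theorem specMap_powHom (R : CommRingCat.{u}) (h : (p : R) = 0) [IsCharP (Spec R) p] :
    Spec.map (CommRingCat.ofHom (powHom p R h)) = frob (Spec R) p := by
  apply ext_of_isAffine
  apply CommRingCat.hom_ext
  refine RingHom.ext fun s => ?_
  apply (Scheme.ΓSpecIso R).commRingCatIsoToRingEquiv.injective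
  have h1 := congr($(Scheme.ΓSpecIso_naturality (CommRingCat.ofHom (powHom p R h))).hom s)
  refine h1.trans ?_
  exact (map_pow (Scheme.ΓSpecIso R).hom.hom s p).symm

/-- An elementary extraction and the map back. -/
theorem exists_retraction {A : Type u} [CommRing A] (hA : (p : A) = 0) (a : A) :
    ∃ (hB : (p : Quiet.RootRing p A a) = 0) (χ : Quiet.RootRing p A a →+* A),
      (AdjoinRoot.of (X ^ p - C a)).comp χ = powHom p _ hB ∧
        χ.comp (AdjoinRoot.of (X ^ p - C a)) = powHom p A hA := by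
  have hB : (p : Quiet.RootRing p A a) = 0 := by
    rw [← map_natCast (AdjoinRoot.of (X ^ p - C a)), hA, map_zero]
  refine ⟨hB, AdjoinRoot.lift (powHom p A hA) a (by simp), ?_, ?_⟩
  · refine AdjoinRoot.ringHom_ext (RingHom.ext fun x => by simp) ?_
    have h0 := AdjoinRoot.eval₂_root (X ^ p - C a)
    simp only [eval₂_sub, eval₂_X_pow, eval₂_C, sub_eq_zero] at h0
    simp [h0]
  · exact RingHom.ext fun x => by simp

/-- A tower is a homeomorphism on spectra. -/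
theorem isHomeomorph_comap_of_tower (n : ℕ) : ∀ {A B : Type u} [CommRing A] [CommRing B] (φ : A →+* B),
    (p : A) = 0 → Tower p n φ → IsHomeomorph (PrimeSpectrum.comap φ) := by
  induction n with
  | zero =>
    intro A B _ _ φ _ hφ
    exact (PrimeSpectrum.homeomorphOfRingEquiv (RingEquiv.ofBijective φ ((tower_zero φ).mp hφ))).symm.isHomeomorph
  | succ n ih =>
    intro A B _ _ φ hA hφ
    obtain ⟨a, ψ, hψ, hT⟩ := (tower_succ n φ).mp hφ
    obtain ⟨hB, χ, h1, h2⟩ := exists_retraction hA a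
    have hid : ∀ {R : Type u} [CommRing R] (hR : (p : R) = 0) (x : PrimeSpectrum R),
        PrimeSpectrum.comap (powHom p R hR) x = x := fun {R} _ hR x => by
      ext r
      exact x.isPrime.pow_mem_iff_mem p (Fact.out : p.Prime).pos
    rw [← hψ, PrimeSpectrum.comap_comp]
    refine IsHomeomorph.comp ?_ (ih ψ hB hT)
    refine Homeomorph.isHomeomorph
      { toFun := PrimeSpectrum.comap (AdjoinRoot.of (X ^ p - C a))
        invFun := PrimeSpectrum.comap χ
        left_inv := fun x => ?_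
        right_inv := fun x => ?_
        continuous_toFun := PrimeSpectrum.continuous_comap _
        continuous_invFun := PrimeSpectrum.continuous_comap _ }
    · rw [← PrimeSpectrum.comap_comp_apply, h1, hid]
    · rw [← PrimeSpectrum.comap_comp_apply, h2, hid]

theorem isHomeomorph_of_isPthRoot {X Y : Scheme.{u}} [IsCharP X p] (f : Y ⟶ X) (hf : Quiet.IsPthRoot p f) :
    IsHomeomorph f.base := by
  choose U hxU hUY n hn using (isPthRoot_iff f).mp hf
  have hcov : TopologicalSpace.IsOpenCover (fun x => (U x).1) :=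
    TopologicalSpace.IsOpenCover.mk (top_le_iff.mp fun x _ => TopologicalSpace.Opens.mem_iSup.mpr ⟨x, hxU x⟩)
  refine (TopologicalSpace.IsOpenCover.isHomeomorph_iff_restrictPreimage hcov f.continuous).mpr fun x => ?_
  haveI : IsAffine ((f ⁻¹ᵁ (U x).1) : Scheme.{u}) := hUY x
  haveI : IsAffine ((U x).1 : Scheme.{u}) := (U x).2
  have h : IsHomeomorph (Spec.map (f.app (U x).1)).base :=
    isHomeomorph_comap_of_tower (n x) _ (natCast_eq_zero_app X p _) (hn x)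
  have e : (hUY x).isoSpec.hom ≫ Spec.map (f.app (U x).1) = (f ∣_ (U x).1) ≫ (U x).2.isoSpec.hom := by
    rw [← cancel_mono (U x).2.isoSpec.inv]
    simp only [Category.assoc, Iso.hom_inv_id, Category.comp_id]
    rw [← cancel_mono (U x).1.ι, Category.assoc, Category.assoc, morphismRestrict_ι]
    rw [show (U x).2.isoSpec.inv ≫ (U x).1.ι = (U x).2.fromSpec from rfl, ← Scheme.Hom.appLE_eq_app,
      IsAffineOpen.SpecMap_appLE_fromSpec _ _ (hUY x), ← IsAffineOpen.isoSpec_inv_ι (hUY x), Category.assoc,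
      Iso.hom_inv_id_assoc]
  have h2 : IsHomeomorph (f ∣_ (U x).1).base := by
    have e' : f ∣_ (U x).1 = (hUY x).isoSpec.hom ≫ Spec.map (f.app (U x).1) ≫ (U x).2.isoSpec.inv := by
      rw [← Category.assoc, e, Category.assoc, Iso.hom_inv_id, Category.comp_id]
    rw [e']
    exact ((Scheme.Hom.homeomorph (U x).2.isoSpec.inv).isHomeomorph.comp h).comp
      (Scheme.Hom.homeomorph (hUY x).isoSpec.hom).isHomeomorph
  rw [morphismRestrict_base] at h2
  exact h2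

theorem tower_comp (n : ℕ) : ∀ {A B C : Type u} [CommRing A] [CommRing B] [CommRing C] (φ : A →+* B) (ψ : B →+* C)
    (m : ℕ), Tower p n φ → Tower p m ψ → Tower p (n + m) (ψ.comp φ) := by
  induction n with
  | zero =>
    intro A B C _ _ _ φ ψ m hφ hψ
    rw [Nat.zero_add]
    have hb := (tower_zero φ).mp hφ
    haveI : IsIso (CommRingCat.ofHom φ) := (ConcreteCategory.isIso_iff_bijective (CommRingCat.ofHom φ)).mpr hb
    exact tower_baseChange m (φ := CommRingCat.ofHom ψ) (g := inv (CommRingCat.ofHom φ)) (h := 𝟙 _)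
      (φ' := CommRingCat.ofHom φ ≫ CommRingCat.ofHom ψ) (IsPushout.of_vert_isIso ⟨by simp⟩) hψ
  | succ n ih =>
    intro A B C _ _ _ φ ψ m hφ hψ
    obtain ⟨a, χ, hχ, hT⟩ := (tower_succ n φ).mp hφ
    rw [Nat.succ_add, tower_succ]
    exact ⟨a, ψ.comp χ, by rw [RingHom.comp_assoc, hχ], ih χ ψ m hT hψ⟩

theorem tower_restrict {X Y : Scheme.{u}} (f : Y ⟶ X) {U : X.Opens} (hU : IsAffineOpen U)
    (hUY : IsAffineOpen (f ⁻¹ᵁ U)) {n : ℕ} (hn : Tower p n (f.app U).hom) {V : X.Opens} (hV : IsAffineOpen V)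
    (hVU : V ≤ U) : IsAffineOpen (f ⁻¹ᵁ V) ∧ Tower p n (f.app V).hom := by
  have H : IsPullback (𝟙 Y) f f (𝟙 X) := IsPullback.of_horiz_isIso ⟨by simp⟩
  have hinf : f ⁻¹ᵁ V = (𝟙 Y) ⁻¹ᵁ (f ⁻¹ᵁ U) ⊓ f ⁻¹ᵁ V := (inf_eq_right.mpr (f.preimage_mono hVU)).symm
  have hle : V ≤ (𝟙 X) ⁻¹ᵁ U := hVU
  have hsec := (isIso_pushoutSection_iff H hle le_rfl hinf).mp
    (isIso_pushoutSection_of_isAffineOpen H hle le_rfl hinf hU hV hUY)
  rw [Scheme.Hom.appLE_eq_app f, Scheme.Hom.appLE_eq_app f] at hsec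
  refine ⟨?_, tower_baseChange n hsec hn⟩
  have : IsAffine (f ⁻¹ᵁ U : Scheme.{u}) := hUY
  have : IsAffine (U : Scheme.{u}) := hU
  have : IsAffine (V : Scheme.{u}) := hV
  exact .of_isIso (Scheme.Hom.isPullback_resLE H hle le_rfl hinf).isoPullback.hom

theorem isPthRoot_comp {X Y Z : Scheme.{u}} [IsCharP X p] (g : Z ⟶ Y) (f : Y ⟶ X)
    (hg : Quiet.IsPthRoot p g) (hf : Quiet.IsPthRoot p f) : Quiet.IsPthRoot p (g ≫ f) := by
  have hhom := isHomeomorph_of_isPthRoot f hf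
  rw [isPthRoot_iff] at hf hg ⊢
  intro x
  obtain ⟨U₁, hx₁, hA₁, n₁, hT₁⟩ := hf x
  obtain ⟨y, rfl⟩ := hhom.surjective x
  obtain ⟨U₂, hy₂, hA₂, n₂, hT₂⟩ := hg y
  let O : X.Opens := ⟨f.base '' U₂.1, hhom.isOpenMap _ U₂.1.2⟩
  obtain ⟨V, hV, hyV, hVle⟩ := exists_isAffineOpen_mem_and_subset (U := U₁.1 ⊓ O) ⟨hx₁, y, hy₂, rfl⟩
  obtain ⟨hV₁, hT₁'⟩ := tower_restrict f U₁.2 hA₁ hT₁ hV (fun z hz => (hVle hz).1)
  have hsub : f ⁻¹ᵁ V ≤ U₂.1 := fun z hz => by
    obtain ⟨w, hw, hwz⟩ := (hVle hz).2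
    rwa [← hhom.injective hwz]
  obtain ⟨hV₂, hT₂'⟩ := tower_restrict g U₂.2 hA₂ hT₂ hV₁ hsub
  refine ⟨⟨V, hV⟩, hyV, hV₂, n₁ + n₂, ?_⟩
  rw [Scheme.Hom.comp_app]
  exact tower_comp n₁ _ _ n₂ hT₁' hT₂'

/-- Étale morphisms descend along a tower. -/
theorem exists_etale_descent (n : ℕ) : ∀ {A B : CommRingCat.{u}} (φ : A ⟶ B), (p : A) = 0 → Tower p n φ.hom →
    ∀ {E : Scheme.{u}} (g : E ⟶ Spec B) [Etale g], ∃ (E' : Scheme.{u}) (g' : E' ⟶ Spec A) (r : E ⟶ E'),
      Etale g' ∧ IsPullback r g g' (Spec.map φ) := by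
  induction n with
  | zero =>
    intro A B φ _ hφ E g _
    have : IsIso φ := (ConcreteCategory.isIso_iff_bijective φ).mpr ((tower_zero _).mp hφ)
    exact ⟨E, g ≫ Spec.map φ, 𝟙 E, inferInstance, IsPullback.of_horiz_isIso ⟨by simp⟩⟩
  | succ n ih =>
    intro A B φ hA hφ E g _
    obtain ⟨a, ψ, hψ, hT⟩ := (tower_succ n _).mp hφ
    obtain ⟨hB, χ, h1, h2⟩ := exists_retraction hA a
    let A₁ := CommRingCat.of (Quiet.RootRing p A a)
    let φ₁ : A ⟶ A₁ := CommRingCat.ofHom (AdjoinRoot.of (X ^ p - C a))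
    obtain ⟨E₁, g₁, r, hg₁, hr⟩ := ih (CommRingCat.ofHom (R := A₁) ψ) hB hT g
    haveI : IsCharP (Spec A₁) p := ⟨by
      rw [← map_natCast (Scheme.ΓSpecIso A₁).inv.hom, hB, map_zero]⟩
    haveI : IsCharP E₁ p := IsCharP.of_hom g₁ p
    let c : Spec A ⟶ Spec A₁ := Spec.map (CommRingCat.ofHom (R := A₁) (S := A) χ)
    have hc : Spec.map φ₁ ≫ c = frob (Spec A₁) p := by
      rw [← Spec.map_comp, ← specMap_powHom A₁ hB]
      congr 1
      exact CommRingCat.hom_ext h1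
    let r₁ : E₁ ⟶ pullback g₁ c := pullback.lift (frob E₁ p) (g₁ ≫ Spec.map φ₁)
      (by rw [Category.assoc, hc, frob_comp])
    have hsq : IsPullback r₁ g₁ (pullback.snd g₁ c) (Spec.map φ₁) := by
      refine IsPullback.of_right ?_ (pullback.lift_snd _ _ _) (IsPullback.of_hasPullback g₁ c)
      rw [show r₁ ≫ pullback.fst g₁ c = frob E₁ p from pullback.lift_fst _ _ _, hc]
      exact isPullback_frob_of_etale g₁
    refine ⟨pullback g₁ c, pullback.snd g₁ c, r ≫ r₁, MorphismProperty.pullback_snd (P := @Etale) g₁ c hg₁, ?_⟩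
    have hφeq : φ = φ₁ ≫ CommRingCat.ofHom (R := A₁) ψ := CommRingCat.hom_ext hψ.symm
    rw [hφeq, Spec.map_comp]
    exact hr.paste_horiz hsq

theorem isQuiet_comp {X Y Z : Scheme.{u}} [IsCharP X p] (f : Y ⟶ X) (g : Z ⟶ Y)
    (hf : Quiet.IsQuiet p f) (hg : Quiet.IsQuiet p g) : Quiet.IsQuiet p (g ≫ f) := by
  intro z
  obtain ⟨V, Y', r, e, hyV, hr, he, hre⟩ := hf (g z)
  obtain ⟨W, Z', r₂, e₂, hzW, hr₂, he₂, hre₂⟩ := hg z
  haveI := he
  haveI := he₂
  haveI : IsCharP Y' p := IsCharP.of_hom e p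
  obtain ⟨U, hyU, hUV, n, hT⟩ := (isPthRoot_iff r).mp hr (r ⟨g z, hyV⟩)
  haveI : IsAffine (U.1 : Scheme.{u}) := U.2
  haveI : IsAffine (r ⁻¹ᵁ U.1 : Scheme.{u}) := hUV
  let j : Spec Γ(↑V, r ⁻¹ᵁ U.1) ⟶ Y := hUV.fromSpec ≫ V.ι
  let E := pullback e₂ j
  obtain ⟨E', g', r₁, hg', H⟩ := exists_etale_descent n (r.app U.1) (natCast_eq_zero_app Y' p _) hT (pullback.snd e₂ j)
  haveI := hg'
  have hbase : IsPullback hUV.fromSpec (Spec.map (r.app U.1)) r U.2.fromSpec := by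
    refine IsPullback.of_iso (isPullback_morphismRestrict r U.1).flip hUV.isoSpec (Iso.refl _) U.2.isoSpec (Iso.refl _)
      ?_ ?_ ?_ ?_
    · rw [Iso.refl_hom, Category.comp_id, ← IsAffineOpen.isoSpec_inv_ι hUV, Iso.hom_inv_id_assoc]
    · rw [← cancel_mono U.2.fromSpec, Category.assoc, Category.assoc, ← IsAffineOpen.isoSpec_inv_ι U.2,
        Iso.hom_inv_id_assoc, IsAffineOpen.isoSpec_inv_ι, ← Scheme.Hom.appLE_eq_app, IsAffineOpen.SpecMap_appLE_fromSpec _ _ hUV,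
        ← IsAffineOpen.isoSpec_inv_ι hUV, Category.assoc, Iso.hom_inv_id_assoc, morphismRestrict_ι]
    · simp
    · rw [Iso.refl_hom, Category.comp_id, ← IsAffineOpen.isoSpec_inv_ι U.2, Iso.hom_inv_id_assoc]
  have hroot : Quiet.IsPthRoot p r₁ :=
    isPthRoot_of_isPullback H.flip (isPthRoot_of_isPullback hbase hr)
  haveI : IsCharP E' p := IsCharP.of_hom (g' ≫ U.2.fromSpec) p
  let T : Z'.Opens := (pullback.fst e₂ j).opensRange
  have hsq : IsPullback (r₂ ⁻¹ᵁ T).ι (r₂ ∣_ T) r₂ T.ι := (isPullback_morphismRestrict r₂ T).flip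
  let iso : (T : Scheme.{u}) ≅ E := (Scheme.Hom.isoOpensRange (pullback.fst e₂ j)).symm
  have hroot₂ : Quiet.IsPthRoot p ((r₂ ∣_ T) ≫ iso.hom) :=
    isPthRoot_of_isPullback (g := pullback.fst e₂ j) (g' := (r₂ ⁻¹ᵁ T).ι)
      (IsPullback.of_iso hsq (Iso.refl _) (Iso.refl _) iso (Iso.refl _) (by simp) (by simp) (by simp)
        (by simp [iso]; rfl)) hr₂
  let W' : Z.Opens := W.ι ''ᵁ (r₂ ⁻¹ᵁ T)
  let k : (W' : Scheme.{u}) ≅ (r₂ ⁻¹ᵁ T : Scheme.{u}) := (W.ι.isoImage (r₂ ⁻¹ᵁ T)).symm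
  have hzT : r₂ ⟨z, hzW⟩ ∈ T := by
    show r₂ ⟨z, hzW⟩ ∈ Set.range (pullback.fst e₂ j).base
    rw [Scheme.Pullback.range_fst]
    have : e₂ (r₂ ⟨z, hzW⟩) = g z := by
      rw [← Scheme.Hom.comp_apply, hre₂]; rfl
    show e₂ (r₂ ⟨z, hzW⟩) ∈ Set.range j.base
    rw [this]
    obtain ⟨w, hw⟩ : (⟨g z, hyV⟩ : (V : Scheme.{u})) ∈ Set.range hUV.fromSpec.base := by
      rw [hUV.range_fromSpec]; exact hyU
    exact ⟨w, by rw [show j = hUV.fromSpec ≫ V.ι from rfl, Scheme.Hom.comp_apply, hw]; rfl⟩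
  refine ⟨W', E', k.hom ≫ ((r₂ ∣_ T) ≫ iso.hom) ≫ r₁, g' ≫ U.2.fromSpec ≫ e, ⟨⟨z, hzW⟩, hzT, rfl⟩, ?_,
    inferInstance, ?_⟩
  · exact isPthRoot_of_isPullback (g := 𝟙 E') (g' := k.hom) (IsPullback.of_horiz_isIso ⟨by simp⟩)
      (isPthRoot_comp _ _ hroot₂ hroot)
  · have h1 : r₁ ≫ g' = pullback.snd e₂ j ≫ Spec.map (r.app U.1) := H.w
    have h2 : Spec.map (r.app U.1) ≫ U.2.fromSpec = hUV.fromSpec ≫ r := hbase.w.symm
    have h3 : (r₂ ∣_ T) ≫ iso.hom ≫ pullback.fst e₂ j = (r₂ ⁻¹ᵁ T).ι ≫ r₂ := by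
      rw [show iso.hom ≫ pullback.fst e₂ j = T.ι by simp [iso]; rfl, morphismRestrict_ι]
    calc _ = k.hom ≫ (r₂ ∣_ T) ≫ iso.hom ≫ (r₁ ≫ g') ≫ U.2.fromSpec ≫ e := by simp only [Category.assoc]
      _ = k.hom ≫ (r₂ ∣_ T) ≫ iso.hom ≫ pullback.snd e₂ j ≫ hUV.fromSpec ≫ r ≫ e := by
          rw [h1]; simp only [Category.assoc, reassoc_of% h2]
      _ = k.hom ≫ (r₂ ∣_ T) ≫ iso.hom ≫ (pullback.fst e₂ j ≫ e₂) ≫ f := by
          rw [hre, pullback.condition]; simp only [j, Category.assoc]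
      _ = k.hom ≫ (r₂ ⁻¹ᵁ T).ι ≫ (r₂ ≫ e₂) ≫ f := by simp only [Category.assoc, reassoc_of% h3]
      _ = W'.ι ≫ g ≫ f := by rw [hre₂]; simp [k, W']

end Groth.Misc8.QuietComp
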