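import Mathlib.RingTheory.NoetherNormalization
import Mathlib.RingTheory.Ideal.GoingUp
import Mathlib.RingTheory.Jacobson.Ring
import Mathlib.RingTheory.TensorProduct.Finite
import Mathlib.RingTheory.FiniteType
import Mathlib.RingTheory.Flat.Basic
import Mathlib.FieldTheory.IsAlgClosed.Basic
import Mathlib.RingTheory.Ideal.MinimalPrime.Noetherian
import Mathlib.AlgebraicGeometry.Morphisms.FiniteType
import Mathlib.AlgebraicGeometry.Pullbacks

/-! Algebraic points avoid a nowhere dense closed subset of a base change, over a dense open. -/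

set_option autoImplicit false
set_option linter.style.haveILetI false

universe u

open TensorProduct

namespace Groth.Misc8.AlgPointsOpen

variable {k : Type u} [Field k]

theorem isIntegralElem_map_mvPolynomial {σ : Type*} {L : Type u} [Field L] [Algebra k L]
    [Algebra.IsAlgebraic k L] (N : MvPolynomial σ L) :
    (MvPolynomial.map (σ := σ) (algebraMap k L)).IsIntegralElem N := by
  induction N using MvPolynomial.induction_on with
  | C a =>
    obtain ⟨q, hq, hq0⟩ := (Algebra.IsAlgebraic.isAlgebraic (R := k) a).isIntegral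
    refine ⟨q.map MvPolynomial.C, hq.map _, ?_⟩
    rw [Polynomial.eval₂_map, show (MvPolynomial.map (algebraMap k L)).comp MvPolynomial.C =
      (MvPolynomial.C : L →+* MvPolynomial σ L).comp (algebraMap k L) from RingHom.ext fun r => MvPolynomial.map_C _ r,
      ← Polynomial.hom_eval₂, hq0, map_zero]
  | add p q hp hq => exact RingHom.IsIntegralElem.add _ hp hq
  | mul_X p i hp =>
    refine RingHom.IsIntegralElem.mul _ hp ?_
    rw [← MvPolynomial.map_X (algebraMap k L) i]
    exact RingHom.isIntegralElem_map _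

/-- A nonzero polynomial over an extension field cuts out, on algebraic points, a proper closed subset. -/
theorem exists_polynomial {K : Type u} [Field K] [Algebra k K] {s : ℕ} (N : MvPolynomial (Fin s) K) (hN : N ≠ 0) :
    ∃ h : MvPolynomial (Fin s) k, h ≠ 0 ∧
      ∀ (kb Ω : Type u) [Field kb] [Algebra k kb] [Algebra.IsAlgebraic k kb] [Field Ω] [Algebra k Ω]
        (j : kb →ₐ[k] Ω) (ι : K →ₐ[k] Ω) (a : Fin s → kb),
        MvPolynomial.eval₂ (ι : K →+* Ω) (fun i => j (a i)) N = 0 → MvPolynomial.aeval a h = 0 := by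
  classical
  obtain ⟨d, hd⟩ := MvPolynomial.exists_coeff_ne_zero hN
  let R0 := Algebra.adjoin k (Set.insert (N.coeff d)⁻¹ (N.coeff '' (N.support : Set (Fin s →₀ ℕ))))
  haveI : Algebra.FiniteType k R0 := (Subalgebra.fg_iff_finiteType R0).mp
    (Subalgebra.fg_def.mpr ⟨_, (N.support.finite_toSet.image _).insert _, rfl⟩)
  have hmem : ∀ e, N.coeff e ∈ R0 := fun e => by
    by_cases he : e ∈ N.support
    · exact Algebra.subset_adjoin (Set.mem_insert_of_mem _ ⟨e, he, rfl⟩)
    · rw [MvPolynomial.notMem_support_iff.mp he]; exact zero_mem _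
  obtain ⟨NR, hNR⟩ : ∃ NR : MvPolynomial (Fin s) R0, MvPolynomial.map R0.val.toRingHom NR = N :=
    MvPolynomial.mem_range_map_iff_coeffs_subset.mpr fun c hc => by
      obtain ⟨e, -, rfl⟩ := MvPolynomial.mem_coeffs_iff.mp hc
      exact ⟨⟨_, hmem e⟩, rfl⟩
  obtain ⟨m, hm⟩ := Ideal.exists_maximal R0
  letI := Ideal.Quotient.field m
  haveI : Algebra.IsAlgebraic k (R0 ⧸ m) := by
    haveI : Algebra.FiniteType k (R0 ⧸ m) := .of_surjective (Ideal.Quotient.mkₐ k m) Ideal.Quotient.mk_surjective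
    haveI := finite_of_finite_type_of_isJacobsonRing k (R0 ⧸ m)
    exact Algebra.IsAlgebraic.of_finite k _
  let N₀ : MvPolynomial (Fin s) (R0 ⧸ m) := MvPolynomial.map (Ideal.Quotient.mk m) NR
  have hN₀ : N₀ ≠ 0 := fun h => by
    have h1 : Ideal.Quotient.mk m (NR.coeff d) = 0 := by
      rw [← MvPolynomial.coeff_map, show MvPolynomial.map (Ideal.Quotient.mk m) NR = 0 from h, MvPolynomial.coeff_zero]
    refine hm.ne_top (Ideal.eq_top_of_isUnit_mem _ (Ideal.Quotient.eq_zero_iff_mem.mp h1) ?_)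
    refine IsUnit.of_mul_eq_one ⟨(N.coeff d)⁻¹, Algebra.subset_adjoin (Set.mem_insert _ _)⟩ (Subtype.ext ?_)
    have : ((MvPolynomial.coeff d NR : R0) : K) = N.coeff d := by rw [← hNR, MvPolynomial.coeff_map]; rfl
    show ((MvPolynomial.coeff d NR : R0) : K) * (N.coeff d)⁻¹ = 1
    rw [this, mul_inv_cancel₀ hd]
  letI := (MvPolynomial.map (σ := Fin s) (algebraMap k (R0 ⧸ m))).toAlgebra
  have hne : (Ideal.span {N₀}).comap (MvPolynomial.map (σ := Fin s) (algebraMap k (R0 ⧸ m))) ≠ ⊥ :=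
    Ideal.comap_ne_bot_of_integral_mem (R := MvPolynomial (Fin s) k) hN₀ (Ideal.mem_span_singleton_self _)
      (isIntegralElem_map_mvPolynomial N₀)
  obtain ⟨h, hmemh, hh⟩ := Submodule.exists_mem_ne_zero_of_ne_bot hne
  refine ⟨h, hh, fun kb Ω _ _ _ _ _ j ι a hNa => ?_⟩
  let μ : R0 ⊗[k] kb →ₐ[k] Ω := Algebra.TensorProduct.lift (ι.comp R0.val) j fun _ _ => .all _ _
  haveI : Algebra.IsIntegral R0 (R0 ⊗[k] kb) := inferInstance
  obtain ⟨Q, hQ, hQp, hQm⟩ := Ideal.exists_ideal_over_prime_of_isIntegral m (RingHom.ker μ.toRingHom) (by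
    intro r hr
    have : μ (r ⊗ₜ 1) = 0 := hr
    simp [μ] at this
    rw [show r = 0 from this]
    exact m.zero_mem)
  let θ : R0 ⧸ m →ₐ[k] (R0 ⊗[k] kb) ⧸ Q := Ideal.Quotient.liftₐ m
    ((Ideal.Quotient.mkₐ k Q).comp Algebra.TensorProduct.includeLeft) fun r hr =>
      Ideal.Quotient.eq_zero_iff_mem.mpr (hQm.ge hr : r ∈ Q.comap (algebraMap R0 (R0 ⊗[k] kb)))
  let b : Fin s → (R0 ⊗[k] kb) ⧸ Q := fun i => Ideal.Quotient.mk Q ((1 : R0) ⊗ₜ[k] a i)
  have h0 : MvPolynomial.eval₂ (θ : R0 ⧸ m →+* _) b N₀ = 0 := by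
    rw [MvPolynomial.eval₂_map]
    have e1 : (θ : R0 ⧸ m →+* _).comp (Ideal.Quotient.mk m) = (Ideal.Quotient.mk Q).comp
        (Algebra.TensorProduct.includeLeftRingHom : R0 →+* R0 ⊗[k] kb) := RingHom.ext fun r => rfl
    rw [e1, show b = Ideal.Quotient.mk Q ∘ fun i => (1 : R0) ⊗ₜ[k] a i from rfl, ← MvPolynomial.eval₂_comp_left,
      Ideal.Quotient.eq_zero_iff_mem]
    refine hQ (RingHom.mem_ker.mpr ?_)
    rw [MvPolynomial.eval₂_comp_left, ← hNa, ← hNR, MvPolynomial.eval₂_map]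
    have e2 : μ.toRingHom.comp (Algebra.TensorProduct.includeLeftRingHom : R0 →+* R0 ⊗[k] kb) =
        (ι : K →+* Ω).comp R0.val.toRingHom := RingHom.ext fun r => by simp [μ]
    have e3 : (μ.toRingHom ∘ fun i => (1 : R0) ⊗ₜ[k] a i) = fun i => j (a i) := funext fun i => by simp [μ]
    rw [e2, e3]
  obtain ⟨w, hw⟩ := Ideal.mem_span_singleton'.mp (Ideal.mem_comap.mp hmemh)
  have h1 := congrArg (MvPolynomial.eval₂ (θ : R0 ⧸ m →+* _) b) hw
  rw [MvPolynomial.eval₂_mul, h0, mul_zero, MvPolynomial.eval₂_map] at h1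
  let J : kb →ₐ[k] (R0 ⊗[k] kb) ⧸ Q := (Ideal.Quotient.mkₐ k Q).comp Algebra.TensorProduct.includeRight
  haveI : Q.IsPrime := hQp
  have hJ : J (MvPolynomial.aeval a h) = 0 := by
    rw [← AlgHom.comp_apply, MvPolynomial.comp_aeval, h1, MvPolynomial.aeval_def,
      show algebraMap k ((R0 ⊗[k] kb) ⧸ Q) = (θ : R0 ⧸ m →+* _).comp (algebraMap k (R0 ⧸ m)) from
        RingHom.ext fun r => (θ.commutes r).symm]
    rfl
  exact J.toRingHom.injective (hJ.trans (map_zero J).symm)

variable {K A : Type u} [Field K] [Algebra k K] [CommRing A] [Algebra k A] [Algebra.FiniteType k A]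

/-- An element of `I` outside all minimal primes over a component. -/
theorem exists_element (I : Ideal (K ⊗[k] A)) (P : Ideal A) (hP : P ∈ minimalPrimes A)
    (hI : ∀ q ∈ minimalPrimes (K ⊗[k] A), ¬ I ≤ q) :
    ∃ g ∈ I, ∀ q ∈ minimalPrimes (K ⊗[k] (A ⧸ P)),
      Algebra.TensorProduct.map (AlgHom.id k K) (Ideal.Quotient.mkₐ k P) g ∉ q := by
  classical
  haveI : P.IsPrime := hP.1.1
  let B := A ⧸ P
  haveI : Algebra.FiniteType k B := .of_surjective (Ideal.Quotient.mkₐ k P) Ideal.Quotient.mk_surjective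
  haveI : IsNoetherianRing (K ⊗[k] B) := Algebra.FiniteType.isNoetherianRing K _
  let π : K ⊗[k] A →ₐ[k] K ⊗[k] B := Algebra.TensorProduct.map (AlgHom.id k K) (Ideal.Quotient.mkₐ k P)
  have hπ : Function.Surjective π := TensorProduct.map_surjective Function.surjective_id Ideal.Quotient.mk_surjective
  by_contra hne
  push Not at hne
  let S := (minimalPrimes.finite_of_isNoetherianRing (K ⊗[k] B)).toFinset
  have hsub : (I : Set (K ⊗[k] A)) ⊆ ⋃ q ∈ (S : Set (Ideal (K ⊗[k] B))), (q.comap π.toRingHom : Set (K ⊗[k] A)) :=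
    fun z hz => by
      obtain ⟨q, hq, hzq⟩ := hne z hz
      exact Set.mem_iUnion₂.mpr ⟨q, by simpa [S] using hq, hzq⟩
  obtain ⟨q, hq, hle⟩ := (Ideal.subset_union_prime (s := S) (f := fun q => q.comap π.toRingHom) ⊥ ⊥
    fun q hq _ _ => by
      haveI : q.IsPrime := ((Set.Finite.mem_toFinset _).mp hq).1.1
      exact Ideal.IsPrime.comap _).mp hsub
  have hq' : q ∈ minimalPrimes (K ⊗[k] B) := (Set.Finite.mem_toFinset _).mp hq
  haveI : q.IsPrime := hq'.1.1
  refine hI _ ⟨⟨Ideal.IsPrime.comap _, bot_le⟩, fun q₀ hq₀ hle₀ => ?_⟩ hle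
  haveI := hq₀.1
  have hker : RingHom.ker π.toRingHom ≤ q₀ := by
    have hPq : q₀.comap (Algebra.TensorProduct.includeRight : A →ₐ[k] K ⊗[k] A).toRingHom = P := by
      refine le_antisymm ?_ (hP.2 ⟨Ideal.IsPrime.comap _, bot_le⟩ ?_) <;>
      · intro b hb
        have h1 : π (1 ⊗ₜ b) ∈ q := hle₀ hb
        have h2 : q.comap (Algebra.TensorProduct.includeRight : B →ₐ[k] K ⊗[k] B).toRingHom = ⊥ := by
          refine eq_bot_iff.mpr fun y hy => ?_
          by_contra hy0
          refine Set.disjoint_left.mp (Ideal.disjoint_nonZeroDivisors_of_mem_minimalPrimes hq') hy ?_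
          have hinj : Function.Injective ((LinearMap.mulLeft k y).lTensor K) :=
            Module.Flat.lTensor_preserves_injective_linearMap _ (mul_right_injective₀ hy0)
          refine mem_nonZeroDivisors_iff_right.mpr fun w hw => hinj ?_
          rw [map_zero]
          refine Eq.trans ?_ hw
          clear hw
          induction w using TensorProduct.induction_on with
          | zero => simp
          | add u v hu hv => simp only [map_add, add_mul, hu, hv]
          | tmul c v => simp [mul_comm]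
        have h3 : Ideal.Quotient.mk P b ∈ q.comap (Algebra.TensorProduct.includeRight : B →ₐ[k] K ⊗[k] B).toRingHom := by
          show (1 : K) ⊗ₜ[k] Ideal.Quotient.mkₐ k P b ∈ q
          rw [Algebra.TensorProduct.map_tmul] at h1
          exact h1
        rw [h2] at h3
        exact Ideal.Quotient.eq_zero_iff_mem.mp h3
    rw [show π.toRingHom = (π : K ⊗[k] A →+* K ⊗[k] B) from rfl]
    have := Algebra.TensorProduct.lTensor_ker (R := k) (A := K) (Ideal.Quotient.mkₐ k P) Ideal.Quotient.mk_surjective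
    refine le_trans this.le ?_
    rw [Ideal.map_le_iff_le_comap]
    intro b hb
    have : b ∈ P := by simpa [Ideal.Quotient.eq_zero_iff_mem] using hb
    exact hPq.ge this
  intro z hz
  obtain ⟨hq1, hq2⟩ := hq'
  have hmap : (q₀.map π.toRingHom).IsPrime := Ideal.map_isPrime_of_surjective hπ hker
  have hle' : q₀.map π.toRingHom ≤ q := Ideal.map_le_iff_le_comap.mpr hle₀
  have hz' : π z ∈ q₀.map π.toRingHom := hq2 ⟨hmap, bot_le⟩ hle' hz
  replace hz' : z ∈ (q₀.map π.toRingHom).comap π.toRingHom := hz'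
  rw [Ideal.comap_map_of_surjective' π.toRingHom hπ] at hz'
  exact (sup_le le_rfl hker) hz'

/-- Finite over a polynomial ring: principal ideals missing the minimal primes meet it. -/
theorem exists_mem_of_notMem_minimalPrimes {P0 D : Type u} [CommRing P0] [IsDomain P0] [CommRing D] (Φ : P0 →+* D)
    (hint : Φ.IsIntegral) (x : D) (hx : ∀ q ∈ minimalPrimes D, x ∉ q) :
    ∃ N : P0, Φ N ∈ Ideal.span {x} ∧ N ≠ 0 := by
  by_contra hne
  push Not at hne
  letI := Φ.toAlgebra
  haveI : Algebra.IsIntegral P0 D := ⟨hint⟩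
  obtain ⟨Q, hQle, hQ, hQc⟩ := Ideal.exists_ideal_over_prime_of_isIntegral (⊥ : Ideal P0)
    (Ideal.span {x}) (fun z hz => hne z hz)
  obtain ⟨q, hq, hqQ⟩ := Ideal.exists_minimalPrimes_le (I := (⊥ : Ideal D)) (J := Q) bot_le
  haveI := hq.1.1
  refine hx q hq ?_
  by_contra hgq
  have hlt := Ideal.comap_lt_comap_of_integral_mem_sdiff hqQ
    ⟨hQle (Ideal.mem_span_singleton_self _), hgq⟩ (Algebra.IsIntegral.isIntegral (R := P0) x)
  rw [hQc] at hlt
  exact absurd hlt not_lt_bot

/-- Base change of a Noether normalisation. -/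
theorem exists_noether (B : Type u) [CommRing B] [Nontrivial B] [Algebra k B] [Algebra.FiniteType k B] :
    ∃ (s : ℕ) (φ : MvPolynomial (Fin s) k →ₐ[k] B) (Φ : MvPolynomial (Fin s) K →+* K ⊗[k] B),
      Function.Injective φ ∧ Φ.IsIntegral ∧ (∀ c, Φ (MvPolynomial.C c) = c ⊗ₜ[k] (1 : B)) ∧
        ∀ i, Φ (MvPolynomial.X i) = (1 : K) ⊗ₜ[k] φ (MvPolynomial.X i) := by
  obtain ⟨s, φ, hφ, hfin⟩ := exists_finite_inj_algHom_of_fg k B
  let Φ : MvPolynomial (Fin s) K →ₐ[K] K ⊗[k] B := MvPolynomial.aeval fun i => (1 : K) ⊗ₜ[k] φ (MvPolynomial.X i)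
  have hΦmap : ∀ f : MvPolynomial (Fin s) k, Φ (MvPolynomial.map (algebraMap k K) f) = (1 : K) ⊗ₜ[k] φ f := by
    intro f
    induction f using MvPolynomial.induction_on with
    | C c =>
      rw [MvPolynomial.map_C, show Φ (MvPolynomial.C (algebraMap k K c)) = algebraMap k K c ⊗ₜ[k] (1 : B) from
        MvPolynomial.aeval_C _ _, show φ (MvPolynomial.C c) = algebraMap k B c from φ.commutes c]
      exact Algebra.TensorProduct.tmul_one_eq_one_tmul c
    | add f f' hf hf' => rw [map_add, map_add, hf, hf', map_add, tmul_add]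
    | mul_X f i hf => rw [map_mul, map_mul, hf, map_mul, MvPolynomial.map_X]; simp [Φ]
  have hint : Φ.toRingHom.IsIntegral := fun z => by
    induction z using TensorProduct.induction_on with
    | zero => exact RingHom.isIntegralElem_zero _
    | add u v hu hv => exact RingHom.IsIntegralElem.add _ hu hv
    | tmul c b =>
      have hc : c ⊗ₜ[k] b = Φ (MvPolynomial.C c) * (1 : K) ⊗ₜ[k] b := by
        rw [show Φ (MvPolynomial.C c) = c ⊗ₜ[k] (1 : B) from MvPolynomial.aeval_C _ _, Algebra.TensorProduct.tmul_mul_tmul, mul_one, one_mul]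
      rw [hc]
      refine RingHom.IsIntegralElem.mul _ (RingHom.isIntegralElem_map _) ?_
      obtain ⟨q, hq, hq0⟩ := hfin.to_isIntegral b
      refine ⟨q.map (MvPolynomial.map (algebraMap k K)), hq.map _, ?_⟩
      rw [Polynomial.eval₂_map, show Φ.toRingHom.comp (MvPolynomial.map (algebraMap k K)) =
        (Algebra.TensorProduct.includeRight : B →ₐ[k] K ⊗[k] B).toRingHom.comp φ.toRingHom from RingHom.ext hΦmap,
        show (1 : K) ⊗ₜ[k] b = (Algebra.TensorProduct.includeRight : B →ₐ[k] K ⊗[k] B).toRingHom b from rfl,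
        ← Polynomial.hom_eval₂]
      erw [hq0, map_zero]
  exact ⟨s, φ, Φ.toRingHom, hφ, hint, fun c => MvPolynomial.aeval_C _ _, fun i => MvPolynomial.aeval_X _ _⟩

/-- Evaluation of the normalisation at a point. -/
theorem eval_noether {B Ω kb : Type u} [CommRing B] [Algebra k B] [CommRing Ω] [Algebra k Ω] [CommRing kb] [Algebra k kb]
    {s : ℕ} {φ : MvPolynomial (Fin s) k →ₐ[k] B} {Φ : MvPolynomial (Fin s) K →+* K ⊗[k] B}
    (hC : ∀ c, Φ (MvPolynomial.C c) = c ⊗ₜ[k] (1 : B))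
    (hX : ∀ i, Φ (MvPolynomial.X i) = (1 : K) ⊗ₜ[k] φ (MvPolynomial.X i))
    (j : kb →ₐ[k] Ω) (ι : K →ₐ[k] Ω) (b : B →ₐ[k] kb) (N : MvPolynomial (Fin s) K) :
    Algebra.TensorProduct.lift ι (j.comp b) (fun _ _ => .all _ _) (Φ N) =
      MvPolynomial.eval₂ (ι : K →+* Ω) (fun i => j (b (φ (MvPolynomial.X i)))) N := by
  induction N using MvPolynomial.induction_on with
  | C c => simp [hC]
  | add p q hp hq => simp only [map_add, MvPolynomial.eval₂_add, hp, hq]
  | mul_X p i hp => simp [map_mul, hp, hX]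

/-- The affine statement: a neighbourhood of a minimal prime whose algebraic points avoid `V(I)`. -/
theorem exists_notMem (I : Ideal (K ⊗[k] A)) (P : Ideal A) (hP : P ∈ minimalPrimes A)
    (hI : ∀ q ∈ minimalPrimes (K ⊗[k] A), ¬ I ≤ q) :
    ∃ h : A, h ∉ P ∧ ∀ (kb Ω : Type u) [Field kb] [Algebra k kb] [Algebra.IsAlgebraic k kb] [Field Ω] [Algebra k Ω]
      (j : kb →ₐ[k] Ω) (ι : K →ₐ[k] Ω) (a : A →ₐ[k] kb), (∀ b ∈ P, a b = 0) → a h ≠ 0 →
        ∃ z ∈ I, Algebra.TensorProduct.lift ι (j.comp a) (fun _ _ => .all _ _) z ≠ 0 := by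
  classical
  haveI : P.IsPrime := hP.1.1
  let B := A ⧸ P
  haveI : Algebra.FiniteType k B := .of_surjective (Ideal.Quotient.mkₐ k P) Ideal.Quotient.mk_surjective
  haveI : IsNoetherianRing (K ⊗[k] B) := Algebra.FiniteType.isNoetherianRing K _
  let π : K ⊗[k] A →ₐ[k] K ⊗[k] B := Algebra.TensorProduct.map (AlgHom.id k K) (Ideal.Quotient.mkₐ k P)
  obtain ⟨g, hgI, hg⟩ := exists_element I P hP hI
  obtain ⟨s, φ, Φ, hφ, hint, hC, hX⟩ := exists_noether (k := k) (K := K) B
  obtain ⟨N, hNmem, hN⟩ := exists_mem_of_notMem_minimalPrimes Φ hint (π g) hg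
  obtain ⟨h, hh, hpts⟩ := exists_polynomial (k := k) N hN
  obtain ⟨hA, hhA⟩ := Ideal.Quotient.mk_surjective (φ h)
  refine ⟨hA, fun hmem => hh (hφ ?_), fun kb Ω _ _ _ _ _ j ι a haP hah => ⟨g, hgI, fun h0 => hah ?_⟩⟩
  · rw [← hhA, Ideal.Quotient.eq_zero_iff_mem.mpr hmem, map_zero]
  let aB : B →ₐ[k] kb := Ideal.Quotient.liftₐ P a haP
  let E : K ⊗[k] B →ₐ[k] Ω := Algebra.TensorProduct.lift ι (j.comp aB) fun _ _ => .all _ _
  have hE : E.comp π = Algebra.TensorProduct.lift ι (j.comp a) (fun _ _ => .all _ _) := by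
    apply Algebra.TensorProduct.ext'
    intro c b
    rw [AlgHom.comp_apply, Algebra.TensorProduct.map_tmul, Algebra.TensorProduct.lift_tmul, Algebra.TensorProduct.lift_tmul]
    rfl
  have hEg : E (π g) = 0 := by rw [← AlgHom.comp_apply, hE]; exact h0
  have hEN : E (Φ N) = 0 := by
    obtain ⟨w, hw⟩ := Ideal.mem_span_singleton'.mp hNmem
    rw [← hw, map_mul, hEg, mul_zero]
  have := hpts kb Ω j ι (fun i => aB (φ (MvPolynomial.X i))) ((eval_noether hC hX j ι aB N).symm.trans hEN)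
  have e : MvPolynomial.aeval (fun i => aB (φ (MvPolynomial.X i))) = aB.comp φ :=
    MvPolynomial.algHom_ext fun i => by rw [MvPolynomial.aeval_X, AlgHom.comp_apply]
  have h1 : aB (φ h) = 0 := by rw [← AlgHom.comp_apply, ← e]; exact this
  rw [← hhA] at h1
  exact h1

end Groth.Misc8.AlgPointsOpen
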