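import Groth.Prelude.Def_SymTen
import Groth.Prelude.Def_W4c5normfunctorschNorm
import Mathlib.LinearAlgebra.PiTensorProduct.Basis
import Mathlib.LinearAlgebra.Dimension.Finrank
import Mathlib.RingTheory.Finiteness.Cardinality
import Mathlib.Algebra.Module.Projective
import Mathlib.Tactic

/-! Tensors invariant under a transposition lie in the alternating span. -/

namespace Groth.Misc8.AltSpan

open scoped TensorProduct
open Equiv

universe u

variable {R : Type u} [CommRing R] {P : Type u} [AddCommGroup P] [Module R P] {d : ℕ}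

theorem tprod_add_swap_mem {i j : Fin d} (hij : i ≠ j) (p : Fin d → P) :
    PiTensorProduct.tprod R p + PiTensorProduct.tprod R (fun k => p (Equiv.swap i j k)) ∈
      SymTen.altSpan R P d := by
  classical
  have mem : ∀ q : Fin d → P, q i = q j → PiTensorProduct.tprod R q ∈ SymTen.altSpan R P d :=
    fun q hq => Submodule.subset_span ⟨q, i, j, hij, hq, rfl⟩
  set g : P → P → (⨂[R] _ : Fin d, P) := fun x y =>
    PiTensorProduct.tprod R (Function.update (Function.update p i x) j y) with hg
  have hgg : ∀ x, g x x ∈ SymTen.altSpan R P d := fun x => mem _ (by simp [hij])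
  have h1 : ∀ x x' y, g (x + x') y = g x y + g x' y := by
    intro x x' y
    simp only [hg, Function.update_comm hij]
    exact MultilinearMap.map_update_add _ _ _ _ _
  have h2 : ∀ x y y', g x (y + y') = g x y + g x y' := fun x y y' => MultilinearMap.map_update_add _ _ _ _ _
  have hp : PiTensorProduct.tprod R p = g (p i) (p j) := by simp [hg]
  have hs : PiTensorProduct.tprod R (fun k => p (Equiv.swap i j k)) = g (p j) (p i) := by
    simp only [hg]
    congr 1
    funext k
    by_cases hk : k = i
    · subst hk; simp [hij]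
    by_cases hk' : k = j
    · subst hk'; simp
    simp [Equiv.swap_apply_of_ne_of_ne hk hk', hk, hk']
  rw [hp, hs]
  have : g (p i) (p j) + g (p j) (p i) = g (p i + p j) (p i + p j) - g (p i) (p i) - g (p j) (p j) := by
    rw [h1, h2, h2]; abel
  rw [this]
  exact sub_mem (sub_mem (hgg _) (hgg _)) (hgg _)

theorem mem_of_fixed_basis {ι : Type*} [Fintype ι] (b : Module.Basis ι R P) {i j : Fin d} (hij : i ≠ j)
    (y : ⨂[R] _ : Fin d, P) (hy : PiTensorProduct.reindex R (fun _ : Fin d => P) (Equiv.swap i j) y = y) :
    y ∈ SymTen.altSpan R P d := by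
  classical
  let B : Module.Basis (Fin d → ι) R (⨂[R] _ : Fin d, P) := Basis.piTensorProduct (fun _ : Fin d => b)
  have hB : ∀ g, B g = PiTensorProduct.tprod R (fun k => b (g k)) := fun g => Basis.piTensorProduct_apply _ g
  have hBs : ∀ g, PiTensorProduct.reindex R (fun _ : Fin d => P) (Equiv.swap i j) (B g) =
      B (fun k => g (Equiv.swap i j k)) := by
    intro g
    rw [hB, hB, PiTensorProduct.reindex_tprod]
    simp [Equiv.symm_swap]
  let T : (Fin d → ι) ≃ (Fin d → ι) :=
    ⟨fun g => fun k => g (Equiv.swap i j k), fun g => fun k => g (Equiv.swap i j k),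
      fun g => by funext k; simp, fun g => by funext k; simp⟩
  have hc : ∀ g, B.repr y (T g) = B.repr y g := by
    intro g
    conv_lhs => rw [← hy, ← B.sum_repr y, map_sum]
    simp only [map_smul, hBs, map_sum, Finsupp.coe_finsetSum, Finset.sum_apply, Finsupp.coe_smul,
      Pi.smul_apply, Module.Basis.repr_self, smul_eq_mul]
    rw [Finset.sum_eq_single g]
    · simp [T]
    · intro h _ hne
      rw [Finsupp.single_eq_of_ne, mul_zero]
      exact fun he => hne (T.injective he.symm)
    · simp
  rw [← Submodule.Quotient.mk_eq_zero, ← B.sum_repr y, ← Submodule.mkQ_apply, map_sum]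
  refine Finset.sum_involution (fun g _ => T g) (fun g _ => ?_) (fun g _ hne he => ?_)
    (fun g _ => Finset.mem_univ _) (fun g _ => T.left_inv g)
  · rw [map_smul, map_smul, hc, ← smul_add, ← map_add, Submodule.mkQ_apply,
      (Submodule.Quotient.mk_eq_zero _).mpr, smul_zero]
    rw [hB, hB]
    exact tprod_add_swap_mem hij _
  · apply hne
    have h : g j = g i := by simpa [T] using congrFun he i
    rw [map_smul, Submodule.mkQ_apply, (Submodule.Quotient.mk_eq_zero _).mpr, smul_zero]
    rw [hB]
    exact Submodule.subset_span ⟨_, i, j, hij, by simp [h], rfl⟩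

theorem map_mem {Q : Type u} [AddCommGroup Q] [Module R Q] (f : P →ₗ[R] Q) (y : ⨂[R] _ : Fin d, P)
    (hy : y ∈ SymTen.altSpan R P d) :
    PiTensorProduct.map (fun _ : Fin d => f) y ∈ SymTen.altSpan R Q d := by
  induction hy using Submodule.span_induction with
  | mem x hx =>
    obtain ⟨p, i, j, hij, hp, rfl⟩ := hx
    exact Submodule.subset_span ⟨fun k => f (p k), i, j, hij, by simp only [hp], PiTensorProduct.map_tprod _ _⟩
  | zero => simp
  | add a b _ _ ha hb => rw [map_add]; exact add_mem ha hb
  | smul c a _ ha => rw [map_smul]; exact Submodule.smul_mem _ c ha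

theorem mem_of_fixed [Module.Finite R P] [Module.Projective R P] {i j : Fin d} (hij : i ≠ j)
    (y : ⨂[R] _ : Fin d, P) (hy : PiTensorProduct.reindex R (fun _ : Fin d => P) (Equiv.swap i j) y = y) :
    y ∈ SymTen.altSpan R P d := by
  obtain ⟨n, f, g, hf, hg, hfg⟩ := Module.Finite.exists_comp_eq_id_of_projective R P
  have hnat : ∀ z : ⨂[R] _ : Fin d, P,
      PiTensorProduct.map (fun _ : Fin d => g) (PiTensorProduct.reindex R (fun _ : Fin d => P) (Equiv.swap i j) z) =
      PiTensorProduct.reindex R (fun _ : Fin d => Fin n → R) (Equiv.swap i j) (PiTensorProduct.map (fun _ : Fin d => g) z) := by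
    intro z
    induction z using PiTensorProduct.induction_on with
    | smul_tprod c p => simp [PiTensorProduct.reindex_tprod, PiTensorProduct.map_tprod]
    | add a b ha hb => simp [ha, hb]
  have h1 := mem_of_fixed_basis (Pi.basisFun R (Fin n)) hij (PiTensorProduct.map (fun _ : Fin d => g) y)
    (by rw [← hnat, hy])
  have h2 := map_mem f _ h1
  rwa [← LinearMap.comp_apply, ← PiTensorProduct.map_comp, hfg, PiTensorProduct.map_id, LinearMap.id_apply] at h2

variable (A : Type u) [CommRing A] [Algebra R A] [Module A P] [IsScalarTower R A P]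

theorem act_reindex (σ : Equiv.Perm (Fin d)) (a : ⨂[R] _ : Fin d, A) (x : ⨂[R] _ : Fin d, P) :
    PiTensorProduct.reindex R (fun _ : Fin d => P) σ (SymTen.tpowAct R A P d a x) =
      SymTen.tpowAct R A P d (PiTensorProduct.reindex R (fun _ : Fin d => A) σ a)
        (PiTensorProduct.reindex R (fun _ : Fin d => P) σ x) := by
  induction a using PiTensorProduct.induction_on with
  | add a b ha hb => simp [ha, hb]
  | smul_tprod c f =>
    induction x using PiTensorProduct.induction_on with
    | add x y hx hy => simp only [map_add, hx, hy]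
    | smul_tprod c' p =>
      simp [SymTen.tpowAct, PiTensorProduct.reindex_tprod, PiTensorProduct.map_tprod]

theorem act_mem [Module.Finite R P] [Module.Projective R P] (a : ⨂[R] _ : Fin d, A) (ha : a ∈ SymTen.TS R A d)
    (x : ⨂[R] _ : Fin d, P) (hx : x ∈ SymTen.altSpan R P d) :
    SymTen.tpowAct R A P d a x ∈ SymTen.altSpan R P d := by
  induction hx using Submodule.span_induction with
  | mem x hx =>
    obtain ⟨p, i, j, hij, hp, rfl⟩ := hx
    apply mem_of_fixed hij
    rw [act_reindex, ha, PiTensorProduct.reindex_tprod]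
    congr 2
    funext k
    rcases eq_or_ne k i with rfl | hk
    · simp [hp]
    rcases eq_or_ne k j with rfl | hk'
    · simp [hp]
    simp [Equiv.swap_apply_of_ne_of_ne hk hk']
  | zero => simp
  | add a b _ _ ha hb => rw [map_add]; exact add_mem ha hb
  | smul c b _ hb => rw [map_smul]; exact Submodule.smul_mem _ c hb

end Groth.Misc8.AltSpan
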