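import Groth.Agent.Misc8.CentralAlgSky
import Mathlib.Algebra.Category.ModuleCat.Sheaf.Limits
import Mathlib.Algebra.Category.ModuleCat.Sheaf.Abelian
import Mathlib.Algebra.Category.Grp.FilteredColimits

/-!
For a central sheaf of algebras `A` that is finite locally free over `O_X`, a left adjoint of
restriction of scalars preserves monomorphisms, and `A`-modules have enough injectives.
-/

set_option autoImplicit false

universe u

open CategoryTheory CategoryTheory.Limits AlgebraicGeometry TopologicalSpace Opposite

namespace Groth.Misc8.CentralAlg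

open Groth.QCohMod (SkyObj sky toSky fromSky germ germ_res germ_smul stalk_map_germ)
open Groth.DerivedCoh.KFlat (stk skyF skyAdj)

variable {X : Scheme.{u}} {A : Sheaf (Opens.grothendieckTopology X) RingCat.{u}}
  {φ : X.ringCatSheaf ⟶ A}

/-- the skyscraper `O`-module of an injective module is injective -/
theorem injective_sky {x : X} (E : ModuleCat.{u} (X.presheaf.stalk x)) [Injective E] :
    Injective (sky x E) :=
  haveI : (stk x).PreservesMonomorphisms :=
    preservesMonomorphisms_of_preservesLimitsOfShape _
  Injective.injective_of_adjoint (skyAdj x) E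

variable (φ) in
/-- the underlying `O`-module -/
noncomputable abbrev res₀ (P : SheafOfModules.{u} A) : X.Modules :=
  (SheafOfModules.restrictScalars φ).obj P

variable (hcen : ∀ (U : (Opens X)ᵒᵖ) (s : X.ringCatSheaf.obj.obj U) (a : A.obj.obj U),
  φ.hom.app U s * a = a * φ.hom.app U s)
  {x : X} (F : Frame φ x) (E : ModuleCat.{u} (X.presheaf.stalk x))

include hcen in
lemma phi_smul_skyA (W : X.Opens) (r : Γ(X, W)) (s : SkyA F E W) (h : PLift.{0} (x ∈ W))
    (i : Fin F.n) : (phiV φ W r • s) h i = X.presheaf.germ W x h.down r • s h i := by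
  simp only [skyA_smul_apply, rho_phi F hcen, ite_smul, zero_smul, Finset.sum_ite_eq,
    Finset.mem_univ, if_true]

/-- the value at `1` of a map to the skyscraper, as a family -/
noncomputable def ofMap {P : SheafOfModules.{u} A} (g : P ⟶ skyA F E) :
    Fun (φ := φ) (x := x) P E where
  t W hx := AddMonoidHom.mk' (fun m => ∑ j, oneC F j • appS g W m ⟨hx⟩ j) fun m m' => by
    have : appS g W (m + m') = appS g W m + appS g W m' := map_add (g.val.app (op W)).hom m m'
    simp only [this, Pi.add_apply, smul_add, Finset.sum_add_distrib]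
  res W V h hx m := show ∑ j, oneC F j • appS g V (resM P h m) ⟨hx⟩ j =
      ∑ j, oneC F j • appS g W m ⟨h hx⟩ j from Finset.sum_congr rfl fun j _ =>
    congrArg (oneC F j • ·) (congrFun (appS_res g h m hx) j)
  smul W hx r m := by
    show ∑ j, oneC F j • appS g W (phiV φ W r • m) ⟨hx⟩ j = _ • ∑ j, oneC F j • appS g W m ⟨hx⟩ j
    simp only [appS_smul, phi_smul_skyA hcen, Finset.smul_sum, smul_smul, mul_comm]

/-- a map of `O`-modules to a skyscraper, as a family -/
noncomputable def ofSky {P : SheafOfModules.{u} A} (ψ : res₀ φ P ⟶ sky x E) :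
    Fun (φ := φ) (x := x) P E where
  t W hx := AddMonoidHom.mk' (fun m => (ψ.app W m : SkyObj x E W) ⟨hx⟩) fun m m' =>
    congrFun (map_add (ψ.app W).hom m m') _
  res W V h hx m := congrFun (Groth.QCohMod.res_app ψ h m).symm ⟨hx⟩
  smul W hx r m := congrFun (Scheme.Modules.Hom.app_smul ψ r m) ⟨hx⟩

/-- a family as a map of `O`-modules to a skyscraper -/
noncomputable def toSkyO {P : SheafOfModules.{u} A} (t : Fun (φ := φ) (x := x) P E) :
    res₀ φ P ⟶ sky x E :=
  toSky (res₀ φ P) t.t t.res t.smul

/-- maps of `A`-modules to the skyscraper are jointly determined by their families -/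
lemma appS_comp {P Q : SheafOfModules.{u} A} (f : P ⟶ Q) (g : Q ⟶ skyA F E) (W : X.Opens)
    (m : MS P W) : appS (f ≫ g) W m = appS g W (f.val.app (op W) m) := rfl

include hcen in
/-- the skyscraper `A`-module of an injective module is injective -/
theorem injective_skyA [Injective E]
    [PreservesFiniteLimits (SheafOfModules.restrictScalars.{u} φ)] : Injective (skyA F E) where
  factors {P Q} g f hf := by
    haveI : Injective (sky x E) := injective_sky E
    let f' : res₀ φ P ⟶ res₀ φ Q := (SheafOfModules.restrictScalars φ).map f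
    haveI : Mono f' := by
      haveI : (SheafOfModules.restrictScalars.{u} φ).PreservesMonomorphisms :=
        preservesMonomorphisms_of_preservesLimitsOfShape _
      exact (SheafOfModules.restrictScalars φ).map_mono f
    let ψ : res₀ φ P ⟶ sky x E := toSkyO E (ofMap hcen F E g)
    refine ⟨toSkyA (ofSky E (Injective.factorThru ψ f')), ?_⟩
    refine SheafOfModules.hom_ext (PresheafOfModules.hom_ext fun U => ModuleCat.hom_ext
      (LinearMap.ext fun m => ?_))
    obtain ⟨U⟩ := U
    funext h i
    refine Eq.trans ?_ (eq_toComp g (ofMap hcen F E g) (fun _ _ _ => rfl) U h.down m i)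
    show toComp F (ofSky E (Injective.factorThru ψ f')) U
      h.down (f.val.app (op U) m) i = _
    unfold toComp
    have hnat : resA A (inf_le_right : U ⊓ F.U ≤ F.U) (F.e i) •
        resM Q (inf_le_left : U ⊓ F.U ≤ U) (f.val.app (op U) m) =
        f.val.app (op (U ⊓ F.U)) (resA A inf_le_right (F.e i) • resM P inf_le_left m) :=
      Eq.trans (congrArg (resA A inf_le_right (F.e i) • ·)
        (PresheafOfModules.naturality_apply f.val (homOfLE inf_le_left).op m).symm)
        (map_smul (f.val.app (op (U ⊓ F.U))).hom _ _).symm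
    rw [hnat]
    exact congrArg (fun q : res₀ φ P ⟶ sky x E =>
      (q.app (U ⊓ F.U) (resA A inf_le_right (F.e i) • resM P inf_le_left m) : SkyObj x E (U ⊓ F.U))
        ⟨⟨h.down, F.mem⟩⟩) (Injective.comp_factorThru ψ f')

include hcen in
/-- the skyscraper `A`-module is injective as an `O`-module -/
theorem injective_res_skyA [Injective E] : Injective (res₀ φ (skyA F E)) := by
  let P : Fin F.n → ModuleCat.{u} (X.presheaf.stalk x) := fun _ => E
  let E' : ModuleCat.{u} (X.presheaf.stalk x) := ModuleCat.of _ (Fin F.n → E)
  haveI : Module.Injective (X.presheaf.stalk x) E :=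
    Module.injective_module_of_injective_object _ _
  haveI : Injective E' := Module.injective_object_of_injective_module _ _
  haveI : Injective (sky x E') := injective_sky E'
  have hto : ∀ (W : X.Opens) (r : Γ(X, W)) (s : SkyA F E W),
      (phiV φ W r • s : SkyA F E W) = fun h => X.presheaf.germ W x h.down r • s h :=
    fun W r s => funext fun h => funext fun i => phi_smul_skyA hcen F E W r s h i
  let a : res₀ φ (skyA F E) ⟶ sky x E' :=
    ⟨{ app := fun W ↦ ModuleCat.ofHom (X := (res₀ φ (skyA F E)).val.obj W)
          (Y := SkyObj x E' W.unop)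
        { toFun := fun s => s
          map_add' := fun _ _ => rfl
          map_smul' := fun r s => hto W.unop r s }
       naturality := fun {U V} i => by ext; rfl }⟩
  let b : sky x E' ⟶ res₀ φ (skyA F E) :=
    ⟨{ app := fun W ↦ ModuleCat.ofHom (Y := (res₀ φ (skyA F E)).val.obj W)
          (X := SkyObj x E' W.unop)
        { toFun := fun s => s
          map_add' := fun _ _ => rfl
          map_smul' := fun r s => (hto W.unop r s).symm }
       naturality := fun {U V} i => by ext; rfl }⟩
  exact Injective.of_iso ⟨b, a, by ext; rfl, by ext; rfl⟩ inferInstance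

variable (φ) in
/-- an injective module containing the stalk -/
noncomputable abbrev hull (P : SheafOfModules.{u} A) (x : X) : ModuleCat.{u} (X.presheaf.stalk x) :=
  Injective.under ((stk x).obj (res₀ φ P) : ModuleCat.{u} (X.presheaf.stalk x))

/-- every section is detected by a map to a skyscraper with injective value -/
theorem exists_appS_ne_zero (P : SheafOfModules.{u} A) (F : ∀ x : X, Frame φ x) (W : X.Opens)
    (s : MS P W)
    (h : ∀ (x : X) (hx : x ∈ W) (g : P ⟶ skyA (F x)
      (hull φ P x)), appS g W s ⟨hx⟩ = 0) : s = 0 := by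
  refine TopCat.Presheaf.section_ext
    (F := ⟨(res₀ φ P).presheaf, (res₀ φ P).isSheaf⟩) W s 0 fun x hx => ?_
  let ι := Injective.ι ((stk x).obj (res₀ φ P))
  let t : Fun (φ := φ) (x := x) P (hull φ P x) :=
    { t := fun V hV => AddMonoidHom.mk' (fun m => ι (germ (res₀ φ P) x hV m)) fun m m' => by
        rw [← map_add ι.hom]
        exact congrArg ι (map_add (germ (res₀ φ P) x hV) m m')
      res := fun V V' hle hV m => congrArg ι (germ_res (res₀ φ P) hle x hV m)
      smul := fun V hV r m => (congrArg ι (germ_smul (res₀ φ P) x hV r m)).trans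
        (map_smul ι.hom _ _) }
  have h1 := sum_oneC_toComp (F := F x) t W hx s
  have h2 : ∀ j, toComp (F x) t W hx s j = 0 := fun j => congrFun (h x hx (toSkyA t)) j
  simp only [h2, smul_zero, Finset.sum_const_zero] at h1
  have hinj : Function.Injective ι := (ModuleCat.mono_iff_injective ι).1 inferInstance
  refine (hinj (h1.symm.trans (map_zero ι.hom).symm)).trans ?_
  exact (map_zero (germ (res₀ φ P) x hx)).symm

include hcen in
/-- a left adjoint of restriction of scalars preserves monomorphisms -/
theorem preservesMonomorphisms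
    (hA : FlatMod.IsFinLocFree (X := X) (res₀ φ (SheafOfModules.unit A)))
    (L : SheafOfModules.{u} X.ringCatSheaf ⥤ SheafOfModules.{u} A)
    (adj : L ⊣ SheafOfModules.restrictScalars φ) : L.PreservesMonomorphisms := by
  let F := fun x => (nonempty_frame φ hA x).some
  refine ⟨fun {M₁ M₂} f hf => Preadditive.mono_of_cancel_zero _ fun {Z} k hk => ?_⟩
  refine SheafOfModules.hom_ext (PresheafOfModules.hom_ext fun U => ModuleCat.hom_ext
    (LinearMap.ext fun z => ?_))
  obtain ⟨U⟩ := U
  refine exists_appS_ne_zero _ F U _ fun x hx g => ?_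
  have hI : Injective (C := SheafOfModules.{u} X.ringCatSheaf)
      ((SheafOfModules.restrictScalars φ).obj (skyA (F x) (hull φ (L.obj M₁) x))) :=
    injective_res_skyA hcen (F x) (hull φ (L.obj M₁) x)
  obtain ⟨g', hg'⟩ := hI.factors (adj.homEquiv _ _ g) f
  let ĝ := (adj.homEquiv _ _).symm g'
  have hg : L.map f ≫ ĝ = g := by
    apply (adj.homEquiv _ _).injective
    rw [Adjunction.homEquiv_naturality_left, Equiv.apply_symm_apply, hg']
  rw [← appS_comp (f := k), ← hg, ← Category.assoc, hk, zero_comp]
  rfl

include hcen in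
/-- enough injectives -/
theorem enoughInjectives [PreservesFiniteLimits (SheafOfModules.restrictScalars.{u} φ)] (hA : FlatMod.IsFinLocFree (X := X) (res₀ φ (SheafOfModules.unit A))) :
    EnoughInjectives (SheafOfModules.{u} A) := by
  let F := fun x => (nonempty_frame φ hA x).some
  refine ⟨fun P => ?_⟩
  let J : X → SheafOfModules.{u} A := fun x =>
    skyA (F x) (hull φ P x)
  haveI : ∀ x, Injective (J x) := fun x => injective_skyA hcen (F x) _
  let K : (Σ x : X, (P ⟶ J x)) → SheafOfModules.{u} A := fun p => J p.1
  haveI : ∀ p, Injective (K p) := fun p => inferInstanceAs (Injective (J p.1))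
  refine ⟨⟨∏ᶜ K, inferInstance, Pi.lift fun p => p.2, ?_⟩⟩
  refine Preadditive.mono_of_cancel_zero _ fun {Z} k hk => ?_
  refine SheafOfModules.hom_ext (PresheafOfModules.hom_ext fun U => ModuleCat.hom_ext
    (LinearMap.ext fun z => ?_))
  obtain ⟨U⟩ := U
  refine exists_appS_ne_zero _ F U _ fun x hx g => ?_
  have h1 : k ≫ g = 0 := by
    have := hk =≫ Pi.π K ⟨x, g⟩
    rwa [Category.assoc, Pi.lift_π, zero_comp] at this
  rw [← appS_comp (f := k), h1]
  rfl

end Groth.Misc8.CentralAlg
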