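import Groth.Agent.PicAux.FreeBasis
import Groth.Agent.QCohMod.Pullback
import Groth.Agent.DerivedCoh.KFlat.StalkCriterion
import Mathlib.Algebra.Category.ModuleCat.Sheaf.ChangeOfRings
import Mathlib.Algebra.Category.ModuleCat.EnoughInjectives

/-!
Skyscraper modules over a sheaf of algebras `A` which is free of finite rank near a point: for an
`O_x`-module `E`, the value at `x` is `E^n`, on which a section of `A` acts by the germ of its matrix
of right multiplication on a basis.
-/

set_option autoImplicit false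

universe u

open CategoryTheory CategoryTheory.Limits AlgebraicGeometry TopologicalSpace Opposite

namespace Groth.Misc8.CentralAlg

variable {X : Scheme.{u}} (A : Sheaf (Opens.grothendieckTopology X) RingCat.{u})

/-- sections of `A` -/
abbrev AS (V : X.Opens) : Type u := (A.obj.obj (op V) : RingCat.{u})

/-- restriction in `A` -/
noncomputable def resA {U V : X.Opens} (h : V ≤ U) : AS A U →+* AS A V :=
  (A.obj.map (homOfLE h).op).hom

lemma resA_resA {U V W : X.Opens} (h : V ≤ U) (h' : W ≤ V) (a : AS A U) :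
    resA A h' (resA A h a) = resA A (h'.trans h) a := by
  change (A.obj.map _ ≫ A.obj.map _) a = _
  rw [← Functor.map_comp]
  rfl

lemma resA_self {U : X.Opens} (h : U ≤ U) (a : AS A U) : resA A h a = a := by
  change A.obj.map (𝟙 (op U)) a = a
  rw [A.obj.map_id]
  rfl

variable {A} (φ : X.ringCatSheaf ⟶ A)

/-- the structure map on sections -/
noncomputable def phiV (V : X.Opens) : Γ(X, V) →+* AS A V := (φ.hom.app (op V)).hom

lemma resA_phiV {U V : X.Opens} (h : V ≤ U) (r : Γ(X, U)) :
    resA A h (phiV φ U r) = phiV φ V (X.presheaf.map (homOfLE h).op r) :=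
  (ConcreteCategory.congr_hom (φ.hom.naturality (homOfLE h).op) r).symm

/-- A local frame of `A` at `x`. -/
structure Frame (x : X) where
  U : X.Opens
  mem : x ∈ U
  n : ℕ
  e : Fin n → AS A U
  bij : ∀ (V : X.Opens) (h : V ≤ U),
    Function.Bijective fun r : Fin n → Γ(X, V) => ∑ i, phiV φ V (r i) * resA A h (e i)

theorem nonempty_frame
    (hA : FlatMod.IsFinLocFree (X := X) ((SheafOfModules.restrictScalars φ).obj (SheafOfModules.unit A)))
    (x : X) : Nonempty (Frame φ x) := by
  obtain ⟨U, n, s, hx, hs⟩ := Groth.PicAux.exists_basis_of_isFinLocFree hA x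
  exact ⟨⟨U, hx, n, s, fun V h => hs V h⟩⟩

variable {φ} {x : X} (F : Frame φ x)

/-- coordinates in the frame -/
noncomputable def coord (V : X.Opens) (h : V ≤ F.U) (a : AS A V) : Fin F.n → Γ(X, V) :=
  (Equiv.ofBijective _ (F.bij V h)).symm a

lemma sum_coord (V : X.Opens) (h : V ≤ F.U) (a : AS A V) :
    ∑ i, phiV φ V (coord F V h a i) * resA A h (F.e i) = a :=
  (Equiv.ofBijective _ (F.bij V h)).apply_symm_apply a

lemma coord_eq (V : X.Opens) (h : V ≤ F.U) (a : AS A V) (c : Fin F.n → Γ(X, V))
    (hc : ∑ i, phiV φ V (c i) * resA A h (F.e i) = a) : coord F V h a = c :=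
  (Equiv.ofBijective _ (F.bij V h)).injective ((sum_coord F V h a).trans hc.symm)

/-- germs of the coordinates -/
noncomputable def kap (V : X.Opens) (h : V ≤ F.U) (hx : x ∈ V) (a : AS A V) :
    Fin F.n → X.presheaf.stalk x :=
  fun i => X.presheaf.germ V x hx (coord F V h a i)

lemma kap_res {V V' : X.Opens} (h : V ≤ F.U) (hV : V' ≤ V) (hx : x ∈ V') (a : AS A V) :
    kap F V' (hV.trans h) hx (resA A hV a) = kap F V h (hV hx) a := by
  funext i
  have : coord F V' (hV.trans h) (resA A hV a) =
      fun i => X.presheaf.map (homOfLE hV).op (coord F V h a i) := by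
    refine coord_eq F V' _ _ _ ?_
    conv_rhs => rw [← sum_coord F V h a, map_sum]
    refine Finset.sum_congr rfl fun j _ => ?_
    rw [map_mul, resA_phiV, resA_resA]
  unfold kap
  rw [this]
  exact TopCat.Presheaf.germ_res_apply X.presheaf (homOfLE hV) x hx _

lemma kap_eq (V : X.Opens) (h : V ≤ F.U) (hx : x ∈ V) (a : AS A V) (c : Fin F.n → Γ(X, V))
    (hc : ∑ i, phiV φ V (c i) * resA A h (F.e i) = a) :
    kap F V h hx a = fun i => X.presheaf.germ V x hx (c i) := by
  unfold kap
  rw [coord_eq F V h a c hc]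

lemma kap_add (V : X.Opens) (h : V ≤ F.U) (hx : x ∈ V) (a b : AS A V) :
    kap F V h hx (a + b) = kap F V h hx a + kap F V h hx b := by
  rw [kap_eq F V h hx (a + b) (coord F V h a + coord F V h b)]
  · funext i
    exact map_add _ _ _
  · simp only [Pi.add_apply, map_add, add_mul, Finset.sum_add_distrib, sum_coord]

lemma kap_zero (V : X.Opens) (h : V ≤ F.U) (hx : x ∈ V) : kap F V h hx 0 = 0 := by
  rw [kap_eq F V h hx 0 0]
  · funext i
    exact map_zero _
  · simp

lemma kap_sum {κ : Type*} (t : Finset κ) (V : X.Opens) (h : V ≤ F.U) (hx : x ∈ V) (a : κ → AS A V)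
    (i : Fin F.n) : kap F V h hx (∑ k ∈ t, a k) i = ∑ k ∈ t, kap F V h hx (a k) i := by
  classical
  induction t using Finset.induction with
  | empty => simp [kap_zero]
  | insert k t hk ih => rw [Finset.sum_insert hk, Finset.sum_insert hk, kap_add, Pi.add_apply, ih]

lemma kap_phi_mul (V : X.Opens) (h : V ≤ F.U) (hx : x ∈ V) (r : Γ(X, V)) (a : AS A V) (i : Fin F.n) :
    kap F V h hx (phiV φ V r * a) i = X.presheaf.germ V x hx r * kap F V h hx a i := by
  rw [kap_eq F V h hx (phiV φ V r * a) (fun i => r * coord F V h a i)]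
  · exact map_mul _ _ _
  · conv_rhs => rw [← sum_coord F V h a, Finset.mul_sum]
    simp only [map_mul, mul_assoc]

lemma kap_e (V : X.Opens) (h : V ≤ F.U) (hx : x ∈ V) (i j : Fin F.n) :
    kap F V h hx (resA A h (F.e i)) j = if i = j then 1 else 0 := by
  classical
  rw [kap_eq F V h hx (resA A h (F.e i)) (fun j => if i = j then 1 else 0)]
  · dsimp only
    split <;> simp
  · refine (Finset.sum_eq_single i (fun b _ hb => ?_) (fun hi => absurd (Finset.mem_univ i) hi)).trans ?_
    · simp [Ne.symm hb]
    · simp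

/-- coordinates of a product -/
lemma kap_mul (V : X.Opens) (h : V ≤ F.U) (hx : x ∈ V) (a b : AS A V) (k : Fin F.n) :
    kap F V h hx (a * b) k =
      ∑ j, kap F V h hx a j * kap F V h hx (resA A h (F.e j) * b) k := by
  conv_lhs => rw [← sum_coord F V h a, Finset.sum_mul, kap_sum]
  refine Finset.sum_congr rfl fun j _ => ?_
  rw [mul_assoc, kap_phi_mul]
  rfl

/-- the matrix of right multiplication, at `x` -/
noncomputable def rho (W : X.Opens) (hx : x ∈ W) (b : AS A W) (i j : Fin F.n) : X.presheaf.stalk x :=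
  kap F (W ⊓ F.U) inf_le_right ⟨hx, F.mem⟩
    (resA A inf_le_right (F.e i) * resA A inf_le_left b) j

lemma rho_eq {W V : X.Opens} (hVW : V ≤ W) (h : V ≤ F.U) (hxV : x ∈ V) (b : AS A W) (i j : Fin F.n) :
    rho F W (hVW hxV) b i j = kap F V h hxV (resA A h (F.e i) * resA A hVW b) j := by
  unfold rho
  rw [← kap_res F inf_le_right (le_inf hVW h) hxV, map_mul, resA_resA, resA_resA]

lemma rho_res {W W' : X.Opens} (hW : W' ≤ W) (hx : x ∈ W') (b : AS A W) (i j : Fin F.n) :
    rho F W' hx (resA A hW b) i j = rho F W (hW hx) b i j := by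
  rw [rho_eq F (inf_le_left.trans hW) (inf_le_right : W' ⊓ F.U ≤ F.U) ⟨hx, F.mem⟩ b, rho, resA_resA]

lemma rho_add (W : X.Opens) (hx : x ∈ W) (b b' : AS A W) (i j : Fin F.n) :
    rho F W hx (b + b') i j = rho F W hx b i j + rho F W hx b' i j := by
  simp only [rho, map_add, mul_add, kap_add, Pi.add_apply]

lemma rho_zero (W : X.Opens) (hx : x ∈ W) (i j : Fin F.n) : rho F W hx 0 i j = 0 := by
  simp [rho, kap_zero]

lemma rho_one (W : X.Opens) (hx : x ∈ W) (i j : Fin F.n) :
    rho F W hx 1 i j = if i = j then 1 else 0 := by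
  simp [rho, kap_e]

lemma rho_mul (W : X.Opens) (hx : x ∈ W) (b b' : AS A W) (i k : Fin F.n) :
    rho F W hx (b * b') i k = ∑ j, rho F W hx b i j * rho F W hx b' j k := by
  simp only [rho, map_mul]
  rw [← mul_assoc, kap_mul]

section Central

variable (hcen : ∀ (U : (Opens X)ᵒᵖ) (s : X.ringCatSheaf.obj.obj U) (a : A.obj.obj U),
  φ.hom.app U s * a = a * φ.hom.app U s)
include hcen

lemma rho_phi (W : X.Opens) (hx : x ∈ W) (r : Γ(X, W)) (i j : Fin F.n) :
    rho F W hx (phiV φ W r) i j = if i = j then X.presheaf.germ W x hx r else 0 := by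
  unfold rho
  rw [resA_phiV]
  rw [show resA A (inf_le_right : W ⊓ F.U ≤ F.U) (F.e i) *
      phiV φ (W ⊓ F.U) (X.presheaf.map (homOfLE inf_le_left).op r) =
      phiV φ (W ⊓ F.U) (X.presheaf.map (homOfLE inf_le_left).op r) * resA A inf_le_right (F.e i)
    from (hcen (op (W ⊓ F.U)) _ _).symm, kap_phi_mul, kap_e]
  split
  · rw [mul_one]
    exact TopCat.Presheaf.germ_res_apply X.presheaf _ x _ r
  · rw [mul_zero]

end Central

/-! ### The skyscraper -/

variable (E : Type u) [AddCommGroup E] [Module (X.presheaf.stalk x) E]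

/-- sections of the skyscraper -/
abbrev SkyA (W : X.Opens) : Type u := PLift.{0} (x ∈ W) → (Fin F.n → E)

/-- the action on sections -/
noncomputable instance skyAModule (W : X.Opens) : Module (AS A W) (SkyA F E W) where
  smul b s := fun h i => ∑ j, rho F W h.down b i j • s h j
  one_smul s := funext fun h => funext fun i => by
    show ∑ j, rho F W h.down 1 i j • s h j = s h i
    simp [rho_one]
  mul_smul b b' s := funext fun h => funext fun i => by
    show ∑ j, rho F W h.down (b * b') i j • s h j =
      ∑ j, rho F W h.down b i j • ∑ k, rho F W h.down b' j k • s h k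
    simp only [rho_mul, Finset.sum_smul, Finset.smul_sum, mul_smul]
    exact Finset.sum_comm
  smul_zero b := funext fun h => funext fun i => by
    show ∑ j, rho F W h.down b i j • (0 : E) = 0
    simp
  smul_add b s s' := funext fun h => funext fun i => by
    show ∑ j, rho F W h.down b i j • (s h j + s' h j) =
      (∑ j, rho F W h.down b i j • s h j) + ∑ j, rho F W h.down b i j • s' h j
    simp [Finset.sum_add_distrib]
  add_smul b b' s := funext fun h => funext fun i => by
    show ∑ j, rho F W h.down (b + b') i j • s h j =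
      (∑ j, rho F W h.down b i j • s h j) + ∑ j, rho F W h.down b' i j • s h j
    simp [rho_add, add_smul, Finset.sum_add_distrib]
  zero_smul s := funext fun h => funext fun i => by
    show ∑ j, rho F W h.down 0 i j • s h j = 0
    simp [rho_zero]

lemma skyA_smul_apply (W : X.Opens) (b : AS A W) (s : SkyA F E W) (h : PLift.{0} (x ∈ W))
    (i : Fin F.n) : (b • s) h i = ∑ j, rho F W h.down b i j • s h j := rfl

noncomputable instance (W : (Opens X)ᵒᵖ) : Module (A.obj.obj W) (SkyA F E W.unop) :=
  skyAModule F E W.unop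

/-- the skyscraper as a presheaf of modules -/
noncomputable def skyAPre : PresheafOfModules.{u} A.obj where
  obj W := ModuleCat.of _ (SkyA F E W.unop)
  map {W W'} i := ModuleCat.ofHom
      (Y := (ModuleCat.restrictScalars (A.obj.map i).hom).obj
        (ModuleCat.of _ (SkyA F E W'.unop)))
    { toFun := fun s h => s ⟨leOfHom i.unop h.down⟩
      map_add' := fun _ _ => rfl
      map_smul' := fun b s => funext fun h => funext fun k => by
        show ∑ j, rho F W.unop _ b k j • _ =
          ∑ j, rho F W'.unop h.down (resA A (leOfHom i.unop) b) k j • _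
        simp only [rho_res] }
  map_id U := by ext; rfl
  map_comp i j := by ext; rfl

lemma skyAPre_isSheaf :
    Presheaf.IsSheaf (Opens.grothendieckTopology X) (skyAPre F E).presheaf := by
  change TopCat.Presheaf.IsSheaf (X := X.toPresheafedSpace) (skyAPre F E).presheaf
  rw [TopCat.Presheaf.isSheaf_iff_isSheafUniqueGluing]
  intro ι U sf hsf
  classical
  refine ⟨fun h ↦ ?_, fun i ↦ ?_, fun s hs ↦ ?_⟩
  · have hi := Opens.mem_iSup.mp h.down
    exact sf hi.choose ⟨hi.choose_spec⟩
  · funext h
    have hi : ∃ j, x ∈ U j := ⟨i, h.down⟩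
    exact (congrFun (hsf i hi.choose) ⟨⟨h.down, hi.choose_spec⟩⟩).symm
  · funext h
    have hi := Opens.mem_iSup.mp h.down
    exact congrFun (hs hi.choose) ⟨hi.choose_spec⟩

/-- the skyscraper `A`-module -/
noncomputable def skyA : SheafOfModules.{u} A where
  val := skyAPre F E
  isSheaf := skyAPre_isSheaf F E

/-! ### Maps to the skyscraper -/

variable {F E}

/-- sections of an `A`-module -/
abbrev MS (P : SheafOfModules.{u} A) (W : X.Opens) : Type u := P.val.obj (op W)

/-- restriction in an `A`-module -/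
noncomputable def resM (P : SheafOfModules.{u} A) {U V : X.Opens} (h : V ≤ U) :
    MS P U →+ MS P V :=
  AddMonoidHom.mk' (fun m => P.val.map (homOfLE h).op m) fun a b => map_add (P.val.map _).hom a b

lemma resM_smul (P : SheafOfModules.{u} A) {U V : X.Opens} (h : V ≤ U) (b : AS A U) (m : MS P U) :
    resM P h (b • m) = resA A h b • resM P h m :=
  P.val.map_smul (homOfLE h).op b m

lemma resM_resM (P : SheafOfModules.{u} A) {U V W : X.Opens} (h : V ≤ U) (h' : W ≤ V) (m : MS P U) :
    resM P h' (resM P h m) = resM P (h'.trans h) m :=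
  (P.val.map_comp_apply (homOfLE h).op (homOfLE h').op m).symm

/-- An `O`-semilinear compatible family of maps to `E`. -/
structure Fun (P : SheafOfModules.{u} A) (E : Type u) [AddCommGroup E]
    [Module (X.presheaf.stalk x) E] where
  t : ∀ (W : X.Opens), x ∈ W → (MS P W →+ E)
  res : ∀ (W V : X.Opens) (h : V ≤ W) (hx : x ∈ V) (m : MS P W), t V hx (resM P h m) = t W (h hx) m
  smul : ∀ (W : X.Opens) (hx : x ∈ W) (r : Γ(X, W)) (m : MS P W),
    t W hx (phiV φ W r • m) = X.presheaf.germ W x hx r • t W hx m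

variable (F) in
/-- the coordinates of the map to the skyscraper -/
noncomputable def toComp {P : SheafOfModules.{u} A} (t : Fun (φ := φ) (x := x) P E) (W : X.Opens)
    (hx : x ∈ W) (m : MS P W) (i : Fin F.n) : E :=
  t.t (W ⊓ F.U) ⟨hx, F.mem⟩
    (resA A (inf_le_right : W ⊓ F.U ≤ F.U) (F.e i) • resM P (inf_le_left : W ⊓ F.U ≤ W) m)

lemma toComp_eq {P : SheafOfModules.{u} A} (t : Fun (φ := φ) (x := x) P E) {W V : X.Opens}
    (hVW : V ≤ W) (h : V ≤ F.U) (hxV : x ∈ V) (m : MS P W) (i : Fin F.n) :
    toComp F t W (hVW hxV) m i = t.t V hxV (resA A h (F.e i) • resM P hVW m) := by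
  unfold toComp
  rw [← t.res _ V (le_inf hVW h) hxV, resM_smul, resA_resA, resM_resM]

lemma toComp_smul {P : SheafOfModules.{u} A} (t : Fun (φ := φ) (x := x) P E) (W : X.Opens)
    (hx : x ∈ W) (b : AS A W) (m : MS P W) (i : Fin F.n) :
    toComp F t W hx (b • m) i = ∑ j, rho F W hx b i j • toComp F t W hx m j := by
  unfold toComp
  rw [resM_smul, smul_smul]
  conv_lhs => rw [← sum_coord F (W ⊓ F.U) inf_le_right
    (resA A inf_le_right (F.e i) * resA A inf_le_left b), Finset.sum_smul, map_sum]
  refine Finset.sum_congr rfl fun j _ => ?_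
  rw [mul_smul, t.smul]
  rfl

/-- the map to the skyscraper attached to a family -/
noncomputable def toSkyA {P : SheafOfModules.{u} A} (t : Fun (φ := φ) (x := x) P E) :
    P ⟶ skyA F E :=
  ⟨{ app := fun W ↦ ModuleCat.ofHom (X := P.val.obj W) (Y := SkyA F E W.unop)
      { toFun := fun m h i => toComp F t W.unop h.down m i
        map_add' := fun m m' => funext fun h => funext fun i => by
          show toComp F t W.unop h.down (m + m') i = _ + _
          simp only [toComp, map_add, smul_add]
        map_smul' := fun b m => funext fun h => funext fun i => toComp_smul t W.unop h.down b m i }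
     naturality := fun {U V} i => by
      ext m
      funext h k
      show toComp F t V.unop h.down (resM P (leOfHom i.unop) m) k =
        toComp F t U.unop (leOfHom i.unop h.down) m k
      rw [toComp, resM_resM,
        toComp_eq t (inf_le_left.trans (leOfHom i.unop)) inf_le_right ⟨h.down, F.mem⟩] }⟩

/-- the components of a map to the skyscraper -/
noncomputable def appS {P : SheafOfModules.{u} A} (g : P ⟶ skyA F E) (W : X.Opens) (m : MS P W) :
    SkyA F E W :=
  g.val.app (op W) m

lemma appS_res {P : SheafOfModules.{u} A} (g : P ⟶ skyA F E) {W V : X.Opens} (h : V ≤ W) (m : MS P W)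
    (hx : x ∈ V) : appS g V (resM P h m) ⟨hx⟩ = appS g W m ⟨h hx⟩ :=
  congrFun (PresheafOfModules.naturality_apply g.val (homOfLE h).op m) _

lemma appS_smul {P : SheafOfModules.{u} A} (g : P ⟶ skyA F E) (W : X.Opens) (b : AS A W) (m : MS P W) :
    appS g W (b • m) = b • appS g W m :=
  map_smul (g.val.app (op W)).hom b m

lemma appS_toSkyA {P : SheafOfModules.{u} A} (t : Fun (φ := φ) (x := x) P E) (W : X.Opens)
    (m : MS P W) (h : PLift.{0} (x ∈ W)) (i : Fin F.n) :
    appS (toSkyA (F := F) t) W m h i = toComp F t W h.down m i := rfl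

variable (F) in
/-- the coordinates of `1` at `x` -/
noncomputable def oneC : Fin F.n → X.presheaf.stalk x := kap F F.U le_rfl F.mem 1

lemma oneC_eq (V : X.Opens) (h : V ≤ F.U) (hx : x ∈ V) : kap F V h hx 1 = oneC F := by
  rw [oneC, ← kap_res F le_rfl h hx, map_one]

lemma sum_oneC_rho (V : X.Opens) (h : V ≤ F.U) (hx : x ∈ V) (i k : Fin F.n) :
    ∑ j, oneC F j * rho F V hx (resA A h (F.e i)) j k = if i = k then 1 else 0 := by
  rw [← kap_e F V h hx i k]
  conv_rhs => rw [← one_mul (resA A h (F.e i)), kap_mul]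
  refine Finset.sum_congr rfl fun j _ => ?_
  rw [oneC_eq V h hx, rho_eq F le_rfl h hx, resA_self]

/-- a map to the skyscraper is recovered from the family it defines -/
lemma eq_toComp {P : SheafOfModules.{u} A} (g : P ⟶ skyA F E) (t : Fun (φ := φ) (x := x) P E)
    (ht : ∀ (W : X.Opens) (hx : x ∈ W) (m : MS P W), t.t W hx m = ∑ j, oneC F j • appS g W m ⟨hx⟩ j)
    (W : X.Opens) (hx : x ∈ W) (m : MS P W) (i : Fin F.n) :
    toComp F t W hx m i = appS g W m ⟨hx⟩ i := by
  rw [toComp, ht, appS_smul]
  simp only [skyA_smul_apply, Finset.smul_sum, smul_smul]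
  rw [Finset.sum_comm]
  simp only [← Finset.sum_smul, sum_oneC_rho, appS_res, ite_smul, one_smul, zero_smul,
    Finset.sum_ite_eq, Finset.mem_univ, if_true]

/-- the value at `1` -/
lemma sum_oneC_toComp {P : SheafOfModules.{u} A} (t : Fun (φ := φ) (x := x) P E) (W : X.Opens)
    (hx : x ∈ W) (m : MS P W) : ∑ j, oneC F j • toComp F t W hx m j = t.t W hx m := by
  have hxV : x ∈ W ⊓ F.U := ⟨hx, F.mem⟩
  calc ∑ j, oneC F j • toComp F t W hx m j
      = t.t (W ⊓ F.U) hxV ((∑ j, phiV φ _ (coord F (W ⊓ F.U) inf_le_right 1 j) *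
          resA A inf_le_right (F.e j)) • resM P inf_le_left m) := by
        rw [Finset.sum_smul, map_sum]
        refine Finset.sum_congr rfl fun j _ => ?_
        rw [mul_smul, t.smul, toComp, ← oneC_eq (W ⊓ F.U) inf_le_right hxV]
        rfl
    _ = t.t W hx m := by rw [sum_coord, one_smul, t.res]

end Groth.Misc8.CentralAlg
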