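import Mathlib.Algebra.MvPolynomial.Rename
import Mathlib.Algebra.MvPolynomial.Degrees
import Mathlib.RingTheory.Ideal.Quotient.Operations
import Mathlib.Tactic

/-! A monic form in the ideal generated by homogenised translates. -/

namespace Groth.Misc8.ChartShift

open Finset

universe u

variable {k : Type u} [CommRing k] {d n : ℕ}

noncomputable def shift (u : MvPolynomial (Fin d) k) (v : Fin d → k) (s N : ℕ)
    (f : MvPolynomial (Fin d ⊕ Fin n) k) : Polynomial (MvPolynomial (Fin d ⊕ Fin n) k) :=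
  ∑ m ∈ f.support,
    Polynomial.C (MvPolynomial.C (MvPolynomial.coeff m f)) *
      Polynomial.X ^ (N - ∑ i : Fin d, m (Sum.inl i)) *
      (∏ i : Fin d, (Polynomial.X * Polynomial.C (MvPolynomial.X (Sum.inl i)) +
          Polynomial.C (MvPolynomial.rename Sum.inl u ^ s * MvPolynomial.C (v i))) ^ m (Sum.inl i)) *
      ∏ j : Fin n, Polynomial.C (MvPolynomial.X (Sum.inr j)) ^ m (Sum.inr j)

theorem monomial_eq (f : MvPolynomial (Fin d ⊕ Fin n) k) (m : Fin d ⊕ Fin n →₀ ℕ) :
    MvPolynomial.monomial m (MvPolynomial.coeff m f) = MvPolynomial.C (MvPolynomial.coeff m f) *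
      ((∏ i : Fin d, MvPolynomial.X (Sum.inl i) ^ m (Sum.inl i)) * ∏ j : Fin n, MvPolynomial.X (Sum.inr j) ^ m (Sum.inr j)) := by
  rw [MvPolynomial.monomial_eq, Finsupp.prod_fintype _ _ (fun i => pow_zero _), Fintype.prod_sum_type]

theorem shift_sub_mem (u : MvPolynomial (Fin d) k) (v : Fin d → k) (s N : ℕ)
    (f : MvPolynomial (Fin d ⊕ Fin n) k) (hdeg : ∀ m ∈ f.support, ∑ i : Fin d, m (Sum.inl i) ≤ N) :
    shift u v s N f - Polynomial.X ^ N * Polynomial.C f ∈
      Ideal.span {Polynomial.C (MvPolynomial.rename Sum.inl u ^ s)} ∧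
    (N = 0 → shift u v s N f = Polynomial.C f) := by
  classical
  have hC : Polynomial.C f = ∑ m ∈ f.support, Polynomial.C (MvPolynomial.C (MvPolynomial.coeff m f)) *
      ((∏ i : Fin d, Polynomial.C (MvPolynomial.X (Sum.inl i)) ^ m (Sum.inl i)) *
        ∏ j : Fin n, Polynomial.C (MvPolynomial.X (Sum.inr j)) ^ m (Sum.inr j)) := by
    conv_lhs => rw [f.as_sum]
    simp [monomial_eq, map_sum, map_prod]
  refine ⟨?_, ?_⟩
  · have key : ∀ (S : Type u) [CommRing S] (φ : Polynomial (MvPolynomial (Fin d ⊕ Fin n) k) →+* S),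
        φ (Polynomial.C (MvPolynomial.rename Sum.inl u ^ s)) = 0 →
          φ (shift u v s N f) = φ (Polynomial.X ^ N * Polynomial.C f) := by
      intro S _ φ hz
      rw [hC, Finset.mul_sum, shift, map_sum, map_sum]
      refine Finset.sum_congr rfl fun m hm => ?_
      simp only [map_mul, map_prod, map_pow, map_add] at hz ⊢
      simp only [hz, zero_mul, add_zero, mul_pow, Finset.prod_mul_distrib, Finset.prod_pow_eq_pow_sum]
      obtain ⟨a, ha⟩ := Nat.exists_eq_add_of_le (hdeg m hm)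
      rw [ha, Nat.add_sub_cancel_left, pow_add]
      ring
    rw [← Ideal.Quotient.eq_zero_iff_mem, map_sub, sub_eq_zero]
    exact key (Polynomial (MvPolynomial (Fin d ⊕ Fin n) k) ⧸
        Ideal.span {Polynomial.C (MvPolynomial.rename Sum.inl u ^ s)}) (Ideal.Quotient.mk _)
      (Ideal.Quotient.eq_zero_iff_mem.mpr (Ideal.mem_span_singleton_self _))
  · intro hN
    subst hN
    rw [shift, hC]
    refine Finset.sum_congr rfl fun m hm => ?_
    have h0 : ∀ i : Fin d, m (Sum.inl i) = 0 := fun i =>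
      Nat.le_zero.mp ((Finset.single_le_sum (f := fun i => m (Sum.inl i)) (fun _ _ => Nat.zero_le _) (Finset.mem_univ i)).trans (hdeg m hm))
    simp [h0]

theorem exists_monic_form (u : MvPolynomial (Fin d) k) (v : Fin d → k) (N s : ℕ) (hs : N ≤ s)
    {Λ : Type u} [Fintype Λ] (f : Λ → MvPolynomial (Fin d ⊕ Fin n) k)
    (hdeg : ∀ l, ∀ m ∈ (f l).support, ∑ i : Fin d, m (Sum.inl i) ≤ N)
    (ζ : MvPolynomial (Fin d ⊕ Fin n) k) (c : ℕ → MvPolynomial (Fin d ⊕ Fin n) k)
    (hE : ζ ^ N + ∑ i ∈ Finset.Icc 1 N, c i * ζ ^ (N - i) * MvPolynomial.rename Sum.inl u ^ i ∈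
      Ideal.span (Set.range f)) :
    ∃ c' : ℕ → Polynomial (MvPolynomial (Fin d ⊕ Fin n) k),
      (Polynomial.X * Polynomial.C ζ) ^ N +
        ∑ i ∈ Finset.Icc 1 N, c' i * (Polynomial.X * Polynomial.C ζ) ^ (N - i) *
            Polynomial.C (MvPolynomial.rename Sum.inl u) ^ i ∈
      Ideal.span (Set.range fun l : Λ => shift u v s N (f l)) := by
  classical
  obtain ⟨b, hb⟩ := Ideal.mem_span_range_iff_exists_fun.mp hE
  set U : Polynomial (MvPolynomial (Fin d ⊕ Fin n) k) := Polynomial.C (MvPolynomial.rename Sum.inl u)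
  have hC := congrArg (Polynomial.C : MvPolynomial (Fin d ⊕ Fin n) k → _) hb
  rw [map_sum, map_add, map_sum, map_pow] at hC
  simp only [map_mul, map_pow] at hC
  change _ = Polynomial.C ζ ^ N + ∑ i ∈ Finset.Icc 1 N, Polynomial.C (c i) * Polynomial.C ζ ^ (N - i) * U ^ i at hC
  rcases Nat.eq_zero_or_pos N with rfl | hN
  · refine ⟨fun _ => 0, ?_⟩
    simp only [pow_zero, Finset.Icc_eq_empty_of_lt Nat.zero_lt_one, Finset.sum_empty, add_zero] at hC ⊢
    rw [← hC]
    refine Ideal.sum_mem _ fun l _ => Ideal.mul_mem_left _ _ ?_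
    rw [← (shift_sub_mem u v s 0 (f l) (hdeg l)).2 rfl]
    exact Ideal.subset_span ⟨l, rfl⟩
  choose R hR using fun l => Ideal.mem_span_singleton'.mp (shift_sub_mem u v s N (f l) (hdeg l)).1
  refine ⟨fun i => Polynomial.X ^ i * Polynomial.C (c i) +
    if i = N then (∑ l, Polynomial.C (b l) * R l) * U ^ (s - N) else 0, ?_⟩
  have hcalc : (Polynomial.X * Polynomial.C ζ) ^ N +
      ∑ i ∈ Finset.Icc 1 N, (Polynomial.X ^ i * Polynomial.C (c i) +
        if i = N then (∑ l, Polynomial.C (b l) * R l) * U ^ (s - N) else 0) *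
          (Polynomial.X * Polynomial.C ζ) ^ (N - i) * U ^ i =
      ∑ l, Polynomial.C (b l) * shift u v s N (f l) := by
    simp only [add_mul, Finset.sum_add_distrib, ite_mul, zero_mul, Finset.sum_ite_eq']
    rw [if_pos (Finset.mem_Icc.mpr ⟨hN, le_rfl⟩), Nat.sub_self, pow_zero, mul_one,
      mul_assoc (∑ l, Polynomial.C (b l) * R l) (U ^ (s - N)) (U ^ N), ← pow_add,
      Nat.sub_add_cancel hs, Finset.sum_mul, ← add_assoc]
    have e1 : (Polynomial.X * Polynomial.C ζ) ^ N +
        ∑ i ∈ Finset.Icc 1 N, Polynomial.X ^ i * Polynomial.C (c i) * (Polynomial.X * Polynomial.C ζ) ^ (N - i) * U ^ i =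
        Polynomial.X ^ N * ∑ l, Polynomial.C (b l) * Polynomial.C (f l) := by
      rw [hC, mul_add, Finset.mul_sum, mul_pow]
      refine congrArg₂ (· + ·) rfl ?_
      refine Finset.sum_congr rfl fun i hi => ?_
      obtain ⟨a, ha⟩ := Nat.exists_eq_add_of_le (Finset.mem_Icc.mp hi).2
      rw [ha, Nat.add_sub_cancel_left, mul_pow, pow_add]
      ring
    rw [e1, Finset.mul_sum, ← Finset.sum_add_distrib]
    refine Finset.sum_congr rfl fun l _ => ?_
    have := hR l
    rw [map_pow] at this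
    linear_combination Polynomial.C (b l) * this
  rw [hcalc]
  exact Ideal.sum_mem _ fun l _ => Ideal.mul_mem_left _ _ (Ideal.subset_span ⟨l, rfl⟩)

end Groth.Misc8.ChartShift
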