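import Groth.Agent.Misc8.CoactInertia
import Mathlib.RingTheory.Support
import Mathlib.RingTheory.LocalRing.ResidueField.Fiber
import Mathlib.AlgebraicGeometry.Morphisms.FinitePresentation

/-! The locus of free orbits of a coaction is open in the quotient. -/

set_option autoImplicit false
set_option linter.style.haveILetI false

universe u

open CategoryTheory MonoidalCategory CartesianMonoidalCategory MonObj AlgebraicGeometry TensorProduct

noncomputable section

namespace Groth.Misc8.CoactInertia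

open CoactBr Groth.Misc8

variable {R A B : Type u} [CommRing R] [CommRing A] [HopfAlgebra R A] [CommRing B] [Algebra R B]
  [HopfRep.Comod R A B] [GLin.IsCoactAlg R A B] [Module.Finite R A] [Module.Projective R A]

/-- Transfer of triviality of inertia between points with the same image in the quotient. -/
theorem Triv.transfer' {K₁ K₂ : Type u} [Field K₁] [Algebra R K₁] [Field K₂] [Algebra R K₂]
    {x₁ : B →ₐ[R] K₁} (h₁ : Triv A x₁) (x₂ : B →ₐ[R] K₂)
    (hq : RingHom.ker (x₁.toRingHom.comp (GLin.invariants R A B).val.toRingHom) =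
      RingHom.ker (x₂.toRingHom.comp (GLin.invariants R A B).val.toRingHom)) : Triv A x₂ := by
  let C := GLin.invariants R A B
  letI : Algebra C K₁ := (x₁.toRingHom.comp C.val.toRingHom).toAlgebra
  letI : Algebra C K₂ := (x₂.toRingHom.comp C.val.toRingHom).toAlgebra
  obtain ⟨Ω, _, _, iΩ, ⟨ψ₁⟩, ⟨ψ₂⟩⟩ := exists_common_field (R := C) (K₁ := K₁) (K₂ := K₂) hq
  letI : Algebra R Ω := ((algebraMap C Ω).comp (algebraMap R C)).toAlgebra
  let φ₁ : K₁ →ₐ[R] Ω := { ψ₁.toRingHom with
    commutes' := fun r => by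
      show ψ₁ (algebraMap R K₁ r) = algebraMap C Ω (algebraMap R C r)
      rw [← ψ₁.commutes, ← x₁.commutes r]
      rfl }
  let φ₂ : K₂ →ₐ[R] Ω := { ψ₂.toRingHom with
    commutes' := fun r => by
      show ψ₂ (algebraMap R K₂ r) = algebraMap C Ω (algebraMap R C r)
      rw [← ψ₂.commutes, ← x₂.commutes r]
      rfl }
  obtain ⟨g, hg⟩ := Coact.exists_moving' (φ₁.comp x₁) (φ₂.comp x₂)
    (fun b hb => (ψ₂.commutes ⟨b, hb⟩).trans (ψ₁.commutes ⟨b, hb⟩).symm)
  exact Triv.descend φ₂ ((h₁.comp φ₁).move (g := pt g) (by rw [lift_pt_ract, hg]))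

/-- Elements of the annihilator of the cokernel of `B` in the universal fixed pair. -/
theorem eq_counit_of_smul_mem {C : Type u} [CommRing C] [Algebra R C] {y : B →ₐ[R] C} {g : A →ₐ[R] C}
    (hg : (Algebra.TensorProduct.lift y g fun _ _ => .all _ _).comp (GLin.coactAlgHom R A B) = y) {s : B}
    (hs : ∀ z : B ⊗[R] A, s • z ∈ LinearMap.range (Algebra.linearMap B (B ⊗[R] A)) ⊔ (fixIdeal R A B).restrictScalars B)
    (hu : IsUnit (y s)) : g = (Algebra.ofId R C).comp (Bialgebra.counitAlgHom R A) := by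
  apply AlgHom.ext
  intro a
  obtain ⟨_, ⟨c, rfl⟩, w, hw, hcw⟩ := Submodule.mem_sup.mp (hs ((1 : B) ⊗ₜ[R] a))
  let π : B ⊗[R] A →ₐ[R] B := Algebra.TensorProduct.lift (AlgHom.id R B)
    ((Algebra.ofId R B).comp (Bialgebra.counitAlgHom R A)) fun _ _ => .all _ _
  have hπ : fixIdeal R A B ≤ RingHom.ker π := by
    refine fixIdeal_le_ker (C := B) (y := AlgHom.id R B) ?_
    apply pt_injective
    rw [← lift_pt_ract, ← one_eq_pt, lift_one_ract]
  have hπw : π w = 0 := RingHom.mem_ker.mp (hπ hw)
  have hlw : Algebra.TensorProduct.lift y g (fun _ _ => .all _ _) w = 0 := RingHom.mem_ker.mp (fixIdeal_le_ker hg hw)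
  have e1 := congrArg π hcw
  have e2 := congrArg (Algebra.TensorProduct.lift y g (fun _ _ => .all _ _)) hcw
  rw [map_add, hπw, add_zero] at e1
  rw [map_add, hlw, add_zero] at e2
  simp [π, Algebra.TensorProduct.algebraMap_apply, smul_tmul'] at e1 e2 ⊢
  refine hu.mul_left_cancel ?_
  rw [← e2, e1, map_mul]
  congr 1
  exact y.commutes _

/-- An invariant cutting out a free neighbourhood of a point with trivial inertia. -/
theorem exists_invariant_free {K : Type u} [Field K] [Algebra R K] {x : B →ₐ[R] K} (hx : Triv A x) :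
    ∃ f : GLin.invariants R A B, x (f : B) ≠ 0 ∧
      ∀ (C : Type u) [CommRing C] [Algebra R C] (y : B →ₐ[R] C) (g : A →ₐ[R] C),
        (Algebra.TensorProduct.lift y g fun _ _ => .all _ _).comp (GLin.coactAlgHom R A B) = y →
        IsUnit (y (f : B)) → g = (Algebra.ofId R C).comp (Bialgebra.counitAlgHom R A) := by
  let S := GLin.invariants R A B
  let N : Submodule B (B ⊗[R] A) :=
    LinearMap.range (Algebra.linearMap B (B ⊗[R] A)) ⊔ (fixIdeal R A B).restrictScalars B
  let a : Ideal B := Module.annihilator B ((B ⊗[R] A) ⧸ N)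
  suffices h : ¬ a.comap S.val.toRingHom ≤ RingHom.ker (x.toRingHom.comp S.val.toRingHom) by
    obtain ⟨f, hfa, hfx⟩ := SetLike.not_le_iff_exists.mp h
    refine ⟨f, hfx, fun C _ _ y g hg hu => eq_counit_of_smul_mem hg (fun z => ?_) hu⟩
    have := Module.mem_annihilator.mp (show (f : B) ∈ a from hfa) (N.mkQ z)
    rwa [← map_smul, Submodule.mkQ_apply, Submodule.Quotient.mk_eq_zero] at this
  intro hle
  letI : Algebra S B := S.val.toRingHom.toAlgebra
  haveI : Algebra.IsIntegral S B := ⟨Coact.isIntegral_val⟩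
  haveI : (RingHom.ker (x.toRingHom.comp S.val.toRingHom)).IsPrime := RingHom.ker_isPrime _
  obtain ⟨p, hap, hp, hpc⟩ := Ideal.exists_ideal_over_prime_of_isIntegral
    (RingHom.ker (x.toRingHom.comp S.val.toRingHom)) a hle
  let xp : B →ₐ[R] p.ResidueField := IsScalarTower.toAlgHom R B p.ResidueField
  have hxp : Triv A xp := Triv.transfer' hx xp (by
    rw [show RingHom.ker (xp.toRingHom.comp S.val.toRingHom) = (RingHom.ker (algebraMap B p.ResidueField)).comap S.val.toRingHom
      from (RingHom.comap_ker _ _).symm, Ideal.ker_algebraMap_residueField]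
    exact hpc.symm)
  have hsupp : (⟨p, hp⟩ : PrimeSpectrum B) ∈ Module.support B ((B ⊗[R] A) ⧸ N) := by
    rw [Module.support_eq_zeroLocus]
    exact hap
  have hnt : Nontrivial (p.ResidueField ⊗[B] ((B ⊗[R] A) ⧸ N)) :=
    (Module.mem_support_iff_nontrivial_residueField_tensorProduct (R := B) (M := (B ⊗[R] A) ⧸ N) ⟨p, hp⟩).mp hsupp
  let D := (B ⊗[R] A) ⧸ fixIdeal R A B
  let ψ : p.ResidueField →ₐ[R] p.ResidueField ⊗[B] D := Algebra.TensorProduct.includeLeft
  let mkD : B ⊗[R] A →ₐ[R] p.ResidueField ⊗[B] D :=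
    ((Algebra.TensorProduct.includeRight : D →ₐ[B] p.ResidueField ⊗[B] D).restrictScalars R).comp
      (Ideal.Quotient.mkₐ R (fixIdeal R A B))
  have hxψ : ∀ b : B, ψ (xp b) = mkD (b ⊗ₜ[R] (1 : A)) := fun b =>
    ((Algebra.TensorProduct.includeRight : D →ₐ[B] p.ResidueField ⊗[B] D).commutes b).symm
  have hl : Algebra.TensorProduct.lift (ψ.comp xp) (mkD.comp Algebra.TensorProduct.includeRight)
      (fun u v => mul_comm (G := p.ResidueField ⊗[B] D) _ _) = mkD := by
    apply Algebra.TensorProduct.ext'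
    intro b c
    rw [Algebra.TensorProduct.lift_tmul, AlgHom.comp_apply, AlgHom.comp_apply, hxψ, ← map_mul]
    simp
  have he := Triv.eq_counit (C := p.ResidueField ⊗[B] D) hxp ψ (mkD.comp Algebra.TensorProduct.includeRight) (by
    rw [hl]
    refine AlgHom.ext fun b => ?_
    refine Eq.trans ?_ (hxψ b).symm
    exact congrArg (Algebra.TensorProduct.includeRight : D →ₐ[B] p.ResidueField ⊗[B] D)
      (Ideal.Quotient.eq.mpr (Ideal.subset_span ⟨b, rfl⟩)))
  let q : D →ₗ[B] (B ⊗[R] A) ⧸ N := Submodule.liftQ ((fixIdeal R A B).restrictScalars B) N.mkQ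
    (le_trans le_sup_right (Submodule.ker_mkQ N).ge)
  apply not_subsingleton (p.ResidueField ⊗[B] ((B ⊗[R] A) ⧸ N))
  refine subsingleton_of_forall_eq 0 fun z => ?_
  induction z using TensorProduct.induction_on with
  | zero => rfl
  | add u v hu hv => rw [hu, hv, add_zero]
  | tmul c d =>
    obtain ⟨d, rfl⟩ := Submodule.mkQ_surjective N d
    induction d using TensorProduct.induction_on with
    | zero => rw [map_zero, tmul_zero]
    | add u v hu hv => rw [map_add, tmul_add, hu, hv, add_zero]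
    | tmul b a =>
      have h1 := congrArg (LinearMap.lTensor p.ResidueField q) (DFunLike.congr_fun he a)
      have h2 : (LinearMap.lTensor p.ResidueField q)
          (ψ (algebraMap R p.ResidueField (Coalgebra.counit a))) = 0 := by
        show algebraMap R p.ResidueField _ ⊗ₜ[B] N.mkQ (1 : B ⊗[R] A) = 0
        rw [show N.mkQ (1 : B ⊗[R] A) = 0 from (Submodule.Quotient.mk_eq_zero _).mpr
          (Submodule.mem_sup_left ⟨1, map_one (algebraMap B (B ⊗[R] A))⟩), tmul_zero]
      have h3 : (1 : p.ResidueField) ⊗ₜ[B] N.mkQ ((1 : B) ⊗ₜ[R] a) = 0 :=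
        h1.trans ((congrArg (LinearMap.lTensor p.ResidueField q) (ψ.commutes (Coalgebra.counit a)).symm).trans h2)
      have h4 := congrArg ((c * algebraMap B p.ResidueField b) • ·) h3
      simp only [smul_zero] at h4
      rw [← h4, smul_tmul', smul_eq_mul, _root_.mul_one, mul_comm c, ← Algebra.smul_def, smul_tmul, ← map_smul,
        smul_tmul', smul_eq_mul, _root_.mul_one]

end Groth.Misc8.CoactInertia
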