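import Mathlib.Algebra.Homology.DerivedCategory.Ext.Map
import Mathlib.Algebra.Homology.DerivedCategory.Ext.EnoughInjectives
import Mathlib.Algebra.Homology.DerivedCategory.Ext.ExactSequences
import Mathlib.CategoryTheory.Preadditive.Injective.Basic
import Mathlib.CategoryTheory.Adjunction.Additive
import Mathlib.Algebra.Homology.ShortComplex.ExactFunctor

/-!
The adjunction isomorphism on Ext groups, given by the exact right adjoint and the unit, when the
left adjoint preserves monomorphisms.
-/

set_option autoImplicit false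

universe w w' v v' u u'

open CategoryTheory CategoryTheory.Limits CategoryTheory.Abelian

namespace Groth.Misc8.ExtAdjUnit

variable {C : Type u} [Category.{v} C] [Abelian C] [HasExt.{w} C]
  {D : Type u'} [Category.{v'} D] [Abelian D] [HasExt.{w'} D]
  {F : C ⥤ D} {G : D ⥤ C} [G.Additive] [PreservesFiniteLimits G] [PreservesFiniteColimits G]

/-- The comparison map on Ext groups. -/
noncomputable abbrev cmp (adj : F ⊣ G) (M : C) {n : ℕ} {N : D} (e : Ext (F.obj M) N n) :
    Ext M (G.obj N) n :=
  (Ext.mk₀ (adj.unit.app M)).comp (e.mapExactFunctor G) (zero_add n)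

lemma cmp_comp (adj : F ⊣ G) (M : C) {n m l : ℕ} {N N' : D} (e : Ext (F.obj M) N n) (c : Ext N N' m)
    (h : n + m = l) : cmp adj M (e.comp c h) = (cmp adj M e).comp (c.mapExactFunctor G) h := by
  rw [cmp, cmp, Ext.mapExactFunctor_comp G e c h,
    Ext.comp_assoc _ _ _ (zero_add n) h (by omega)]

lemma cmp_sub (adj : F ⊣ G) (M : C) {n : ℕ} {N : D} (e e' : Ext (F.obj M) N n) :
    cmp adj M (e - e') = cmp adj M e - cmp adj M e' := by
  have h : (e - e').mapExactFunctor G = e.mapExactFunctor G - e'.mapExactFunctor G :=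
    map_sub (G.mapExtAddHom (F.obj M) N n) e e'
  unfold cmp
  rw [h]
  exact map_sub (AddMonoidHom.mk' (fun z => (Ext.mk₀ (adj.unit.app M)).comp z (zero_add n))
    fun a b => by simp) _ _

theorem cmp_zero_bijective (adj : F ⊣ G) (M : C) (N : D) :
    Function.Bijective (cmp adj M : Ext (F.obj M) N 0 → Ext M (G.obj N) 0) := by
  have key : ∀ f : F.obj M ⟶ N, cmp adj M (Ext.mk₀ f) = Ext.mk₀ (adj.homEquiv M N f) := fun f => by
    rw [cmp, Ext.mapExactFunctor_mk₀, Ext.mk₀_comp_mk₀, Adjunction.homEquiv_unit]
  constructor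
  · intro e e' h
    obtain ⟨f, rfl⟩ := (Ext.mk₀_bijective _ _).2 e
    obtain ⟨f', rfl⟩ := (Ext.mk₀_bijective _ _).2 e'
    rw [key, key] at h
    exact congrArg Ext.mk₀ ((adj.homEquiv M N).injective ((Ext.mk₀_bijective _ _).1 h))
  · intro y
    obtain ⟨g, rfl⟩ := (Ext.mk₀_bijective _ _).2 y
    exact ⟨Ext.mk₀ ((adj.homEquiv M N).symm g), by rw [key, Equiv.apply_symm_apply]⟩

/-- Ext of `F M` is Ext of `M` if `F` preserves monomorphisms and `G` is exact. -/
theorem cmp_bijective [EnoughInjectives D] [F.PreservesMonomorphisms] (adj : F ⊣ G) (M : C) :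
    ∀ (n : ℕ) (N : D), Function.Bijective (cmp adj M : Ext (F.obj M) N n → Ext M (G.obj N) n) := by
  intro n
  induction n with
  | zero => exact cmp_zero_bijective adj M
  | succ n ih =>
    intro N
    let S : ShortComplex D := ShortComplex.mk (Injective.ι N) (cokernel.π _) (cokernel.condition _)
    have hS : S.ShortExact :=
      { exact := ShortComplex.exact_of_g_is_cokernel _ (cokernelIsCokernel _)
        mono_f := inferInstanceAs (Mono (Injective.ι N))
        epi_g := inferInstanceAs (Epi (cokernel.π _)) }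
    have hI : Injective S.X₂ := inferInstanceAs (Injective (Injective.under N))
    have hGS := hS.map_of_exact G
    have hGI : Injective (S.map G).X₂ := Injective.injective_of_adjoint adj S.X₂
    have hc : hS.extClass.mapExactFunctor G = hGS.extClass := Ext.mapExactFunctor_extClass G hS
    have surj : ∀ x : Ext (F.obj M) N (n + 1), ∃ a : Ext (F.obj M) S.X₃ n,
        a.comp hS.extClass rfl = x := fun x =>
      Ext.covariant_sequence_exact₁ (F.obj M) hS x
        (@Subsingleton.elim _ (Ext.subsingleton_of_injective _ _ n) _ _) (n₀ := n) rfl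
    refine ⟨fun x x' hxx => ?_, fun y => ?_⟩
    · obtain ⟨a, ha⟩ := surj (x - x')
      have hx0 : cmp adj M (a.comp hS.extClass rfl) = 0 := by
        rw [ha]
        exact (cmp_sub adj M x x').trans (sub_eq_zero.2 hxx)
      have h0 : (cmp adj M a).comp hGS.extClass rfl = 0 :=
        (congrArg (fun z => (cmp adj M a).comp z rfl) hc.symm).trans
          ((cmp_comp adj M a hS.extClass rfl).symm.trans hx0)
      obtain ⟨c, hcc⟩ := Ext.covariant_sequence_exact₃ M hGS (cmp adj M a) rfl h0
      obtain ⟨c', rfl⟩ := (ih S.X₂).2 c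
      have hca : a = c'.comp (Ext.mk₀ S.g) (add_zero n) := (ih S.X₃).1 (by
        rw [cmp_comp, Ext.mapExactFunctor_mk₀]
        exact hcc.symm)
      refine sub_eq_zero.1 (ha.symm.trans ?_)
      rw [hca, Ext.comp_assoc_of_second_deg_zero, ShortComplex.ShortExact.comp_extClass, Ext.comp_zero]
    · obtain ⟨b, hb⟩ := Ext.covariant_sequence_exact₁ M hGS y
        (@Subsingleton.elim _ (Ext.subsingleton_of_injective _ _ n) _ _) (n₀ := n) rfl
      obtain ⟨a, rfl⟩ := (ih S.X₃).2 b
      exact ⟨a.comp hS.extClass rfl, (cmp_comp adj M a hS.extClass rfl).trans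
        ((congrArg (fun z => (cmp adj M a).comp z rfl) hc).trans hb)⟩

end Groth.Misc8.ExtAdjUnit
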