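import Mathlib.RingTheory.FormalGroup.Basic
import Mathlib.RingTheory.MvPowerSeries.Order
import Mathlib.RingTheory.PowerSeries.Order
import Mathlib.Tactic

/-! Inverse series of a formal group law. -/

namespace Groth.Misc8.FGInverse

open Finsupp

variable {R : Type*} [CommRing R] (F : MvPowerSeries (Fin 2) R)

theorem hasSubst {g : PowerSeries R} (hg : g.constantCoeff = 0) :
    MvPowerSeries.HasSubst ![PowerSeries.X, g] := by
  refine MvPowerSeries.hasSubst_of_constantCoeff_zero fun i => ?_
  fin_cases i
  · exact PowerSeries.constantCoeff_X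
  · exact hg

theorem coeff_diff (h01 : MvPowerSeries.coeff (single 1 1) F = 1) {g h : PowerSeries R}
    (hg : g.constantCoeff = 0) (hh : h.constantCoeff = 0) (n : ℕ)
    (heq : ∀ k, k < n → PowerSeries.coeff k g = PowerSeries.coeff k h) :
    PowerSeries.coeff n (F.subst ![PowerSeries.X, g]) =
      PowerSeries.coeff n (F.subst ![PowerSeries.X, h]) + (PowerSeries.coeff n g - PowerSeries.coeff n h) := by
  classical
  rw [← sub_eq_iff_eq_add']
  change MvPowerSeries.coeff (single () n) _ - MvPowerSeries.coeff (single () n) _ = _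
  rw [MvPowerSeries.coeff_subst (hasSubst hg), MvPowerSeries.coeff_subst (hasSubst hh),
    ← finsum_sub_distrib (MvPowerSeries.coeff_subst_finite (hasSubst hg) F _)
      (MvPowerSeries.coeff_subst_finite (hasSubst hh) F _), finsum_eq_single _ (single 1 1)]
  · rw [Finsupp.prod_single_index (h := fun s e => (![PowerSeries.X, g] s) ^ e) (pow_zero _),
      Finsupp.prod_single_index (h := fun s e => (![PowerSeries.X, h] s) ^ e) (pow_zero _), h01]
    simp [PowerSeries.coeff]
  · intro d hd
    rw [← smul_sub, ← map_sub]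
    simp only [Finsupp.prod_fintype _ _ (fun i => pow_zero _), Fin.prod_univ_two, Matrix.cons_val_zero,
      Matrix.cons_val_one, Matrix.cons_val_fin_one, ← mul_sub]
    have key : PowerSeries.coeff n ((PowerSeries.X : PowerSeries R) ^ d 0 * (g ^ d 1 - h ^ d 1)) = 0 := by
      by_cases h1 : d 1 = 0
      · simp [h1]
      have hgh : ((n : ℕ) : ℕ∞) ≤ (g - h).order :=
        PowerSeries.nat_le_order _ _ fun k hk => by rw [map_sub, heq k hk, sub_self]
      rw [PowerSeries.coeff_X_pow_mul']
      split_ifs with hle
      · rw [← geom_sum₂_mul]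
        apply PowerSeries.coeff_of_lt_order
        refine lt_of_lt_of_le ?_ (PowerSeries.le_order_mul _ _)
        by_cases h0 : d 0 = 0
        · have h2 : 2 ≤ d 1 := by
            by_contra hc
            apply hd
            ext i
            fin_cases i <;> simp <;> omega
          have hs : ((1 : ℕ) : ℕ∞) ≤ (∑ i ∈ Finset.range (d 1), g ^ i * h ^ (d 1 - 1 - i)).order := by
            refine PowerSeries.nat_le_order _ _ fun k hk => ?_
            rw [Nat.lt_one_iff.mp hk, PowerSeries.coeff_zero_eq_constantCoeff_apply, map_sum]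
            refine Finset.sum_eq_zero fun i hi => ?_
            rw [Finset.mem_range] at hi
            rcases Nat.eq_zero_or_pos i with rfl | hi0
            · simp [hh, zero_pow (show d 1 - 1 ≠ 0 by omega)]
            · simp [hg, zero_pow hi0.ne']
          calc ((n - d 0 : ℕ) : ℕ∞) < ((1 + n : ℕ) : ℕ∞) := by exact_mod_cast (show n - d 0 < 1 + n by omega)
            _ = ((1 : ℕ) : ℕ∞) + ((n : ℕ) : ℕ∞) := by push_cast; rfl
            _ ≤ _ := add_le_add hs hgh
        · rcases Nat.eq_zero_or_pos n with hn | hn
          · omega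
          calc ((n - d 0 : ℕ) : ℕ∞) < ((n : ℕ) : ℕ∞) := by exact_mod_cast (show n - d 0 < n by omega)
            _ ≤ (g - h).order := hgh
            _ ≤ _ := le_add_self
      · rfl
    change MvPowerSeries.coeff d F • PowerSeries.coeff n ((PowerSeries.X : PowerSeries R) ^ d 0 * (g ^ d 1 - h ^ d 1)) = 0
    rw [key, smul_zero]

theorem existsUnique (h00 : F.constantCoeff = 0) (h01 : MvPowerSeries.coeff (single 1 1) F = 1) :
    ∃! g : PowerSeries R, g.constantCoeff = 0 ∧ F.subst ![PowerSeries.X, g] = (0 : PowerSeries R) := by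
  classical
  have hc : ∀ g : PowerSeries R, g.constantCoeff = 0 →
      PowerSeries.coeff 0 (F.subst ![PowerSeries.X, g]) = 0 := by
    intro g hg
    rw [PowerSeries.coeff_zero_eq_constantCoeff_apply]
    refine MvPowerSeries.constantCoeff_subst_eq_zero (hasSubst hg) (fun i => ?_) h00
    fin_cases i
    · exact PowerSeries.constantCoeff_X
    · exact hg
  let s : ℕ → PowerSeries R := Nat.rec 0 fun n p =>
    PowerSeries.mk fun k => if k = n + 1 then -PowerSeries.coeff k (F.subst ![PowerSeries.X, p]) else PowerSeries.coeff k p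
  have hs : ∀ n k, PowerSeries.coeff k (s (n + 1)) =
      if k = n + 1 then -PowerSeries.coeff k (F.subst ![PowerSeries.X, s n]) else PowerSeries.coeff k (s n) :=
    fun n k => PowerSeries.coeff_mk _ _
  have hhi : ∀ n k, n < k → PowerSeries.coeff k (s n) = 0 := by
    intro n
    induction n with
    | zero => intro k _; exact map_zero _
    | succ n ih => intro k hk; rw [hs, if_neg (by omega), ih k (by omega)]
  have hstab : ∀ n j k, k ≤ n → PowerSeries.coeff k (s (n + j)) = PowerSeries.coeff k (s n) := by
    intro n j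
    induction j with
    | zero => intro k _; rfl
    | succ j ih => intro k hk; rw [← add_assoc, hs, if_neg (by omega), ih k hk]
  let g : PowerSeries R := PowerSeries.mk fun k => PowerSeries.coeff k (s k)
  have hgs : ∀ n k, k ≤ n → PowerSeries.coeff k g = PowerSeries.coeff k (s n) := by
    intro n k hk
    obtain ⟨j, rfl⟩ := Nat.exists_eq_add_of_le hk
    rw [PowerSeries.coeff_mk, hstab k j k le_rfl]
  have hs0 : ∀ n, (s n).constantCoeff = 0 := fun n => by
    rw [← PowerSeries.coeff_zero_eq_constantCoeff_apply, ← Nat.zero_add n, hstab 0 n 0 le_rfl]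
    exact map_zero _
  have hg0 : g.constantCoeff = 0 := by
    rw [← PowerSeries.coeff_zero_eq_constantCoeff_apply, hgs 0 0 le_rfl]
    exact map_zero _
  have hg : F.subst ![PowerSeries.X, g] = (0 : PowerSeries R) := by
    ext n
    rw [map_zero]
    cases n with
    | zero => exact hc g hg0
    | succ n =>
      rw [coeff_diff F h01 hg0 (hs0 n) (n + 1) (fun k hk => hgs n k (by omega)), hhi n (n + 1) (by omega),
        hgs (n + 1) (n + 1) le_rfl, hs, if_pos rfl]
      ring
  refine ⟨g, ⟨hg0, hg⟩, fun k ⟨hk0, hk⟩ => ?_⟩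
  ext n
  induction n using Nat.strong_induction_on with
  | _ n ih =>
    have := coeff_diff F h01 hk0 hg0 n ih
    rw [hk, hg, map_zero, zero_add, eq_comm, sub_eq_zero] at this
    exact this

theorem exists_inverse (F : FormalGroup R) :
    ∃ g : PowerSeries R, g.constantCoeff = 0 ∧
      F.toPowerSeries.subst ![PowerSeries.X, g] = (0 : PowerSeries R) ∧
      F.toPowerSeries.subst ![g, PowerSeries.X] = (0 : PowerSeries R) ∧
      ∀ k : PowerSeries R, k.constantCoeff = 0 →
        (F.toPowerSeries.subst ![PowerSeries.X, k] = (0 : PowerSeries R) ∨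
          F.toPowerSeries.subst ![k, PowerSeries.X] = (0 : PowerSeries R)) → k = g := by
  set G : MvPowerSeries (Fin 2) R := F.toPowerSeries.subst ![MvPowerSeries.X 1, MvPowerSeries.X 0] with hG
  have hGs : ∀ k : PowerSeries R, k.constantCoeff = 0 →
      G.subst ![PowerSeries.X, k] = F.toPowerSeries.subst ![k, PowerSeries.X] := by
    intro k hk
    rw [hG, MvPowerSeries.subst_comp_subst_apply MvPowerSeries.HasSubst.X_X (hasSubst hk)]
    congr 1
    funext i
    fin_cases i <;> simp [MvPowerSeries.subst_X (hasSubst hk)]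
  have hG0 : G.constantCoeff = 0 :=
    MvPowerSeries.constantCoeff_subst_eq_zero MvPowerSeries.HasSubst.X_X
      (fun i => by fin_cases i <;> simp) F.zero_constantCoeff
  have hG1 : MvPowerSeries.coeff (single 1 1) G = 1 := by
    classical
    rw [hG, MvPowerSeries.coeff_subst MvPowerSeries.HasSubst.X_X, finsum_eq_single _ (single 0 1)]
    · simp [F.lin_coeff_X, MvPowerSeries.coeff_index_single_X]
    · intro d hd
      simp only [Finsupp.prod_fintype _ _ (fun i => pow_zero _), Fin.prod_univ_two, Matrix.cons_val_zero,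
        Matrix.cons_val_one, Matrix.cons_val_fin_one, MvPowerSeries.X_pow_eq, MvPowerSeries.monomial_mul_monomial,
        MvPowerSeries.coeff_monomial]
      rw [if_neg, smul_zero]
      intro h
      apply hd
      ext i
      have h0 := DFunLike.congr_fun h 0
      have h1 := DFunLike.congr_fun h 1
      simp at h0 h1
      fin_cases i <;> simp <;> omega
  obtain ⟨g, ⟨hg0, hg⟩, hgu⟩ := existsUnique F.toPowerSeries F.zero_constantCoeff F.lin_coeff_Y
  obtain ⟨l, ⟨hl0, hl⟩, hlu⟩ := existsUnique G hG0 hG1
  rw [hGs l hl0] at hl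
  have heq : l = g := by
    let x : F.Point Unit := ⟨PowerSeries.X, PowerSeries.HasSubst.X'⟩
    let lp : F.Point Unit := ⟨l, PowerSeries.HasSubst.of_constantCoeff_zero' hl0⟩
    let gp : F.Point Unit := ⟨g, PowerSeries.HasSubst.of_constantCoeff_zero' hg0⟩
    exact congrArg Subtype.val (left_neg_eq_right_neg (a := x) (b := lp) (c := gp) (Subtype.ext hl) (Subtype.ext hg))
  refine ⟨g, hg0, hg, heq ▸ hl, ?_⟩
  rintro k hk (h | h)
  · exact hgu k ⟨hk, h⟩
  · rw [← heq]; exact hlu k ⟨hk, by rw [hGs k hk, h]⟩

end Groth.Misc8.FGInverse
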