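import Mathlib.RingTheory.Flat.EquationalCriterion
import Mathlib.LinearAlgebra.TensorProduct.Vanishing
import Mathlib.LinearAlgebra.PiTensorProduct.Basic
import Mathlib.LinearAlgebra.Multilinear.Curry
import Mathlib.LinearAlgebra.PiTensorProduct.Basis
import Mathlib.Tactic

/-! Tensor powers of a flat module: finite free factorisations. -/

namespace Groth.Misc8.FlatTensor

open scoped TensorProduct
open PiTensorProduct

universe u

variable {R : Type u} [CommRing R] {M : Type u} [AddCommGroup M] [Module R M]

abbrev T (R : Type u) [CommRing R] (n : ℕ) (M : Type u) [AddCommGroup M] [Module R M] := ⨂[R] _ : Fin n, M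

noncomputable abbrev Tmap {N : Type u} [AddCommGroup N] [Module R N] (n : ℕ) (f : M →ₗ[R] N) :
    T R n M →ₗ[R] T R n N := PiTensorProduct.map (fun _ => f)

theorem Tmap_comp {N P : Type u} [AddCommGroup N] [Module R N] [AddCommGroup P] [Module R P] (n : ℕ)
    (g : N →ₗ[R] P) (f : M →ₗ[R] N) (z : T R n M) : Tmap n (g ∘ₗ f) z = Tmap n g (Tmap n f z) := by
  rw [← LinearMap.comp_apply, ← PiTensorProduct.map_comp]

noncomputable def split (n : ℕ) (M : Type u) [AddCommGroup M] [Module R M] :
    T R (n + 1) M →ₗ[R] M ⊗[R] T R n M :=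
  PiTensorProduct.lift (LinearMap.uncurryLeft (M := fun _ : Fin (n + 1) => M)
    { toFun := fun m => (TensorProduct.mk R M (T R n M) m).compMultilinearMap (tprod R)
      map_add' := fun a b => by ext; simp [TensorProduct.add_tmul]
      map_smul' := fun c a => by ext; simp [TensorProduct.smul_tmul'] })

theorem split_tprod (n : ℕ) (f : Fin (n + 1) → M) :
    split (R := R) n M (tprod R f) = f 0 ⊗ₜ[R] tprod R (Fin.tail f) := by
  simp [split]

noncomputable def join (n : ℕ) (M : Type u) [AddCommGroup M] [Module R M] :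
    M ⊗[R] T R n M →ₗ[R] T R (n + 1) M :=
  TensorProduct.lift
    ((PiTensorProduct.lift (R := R)).toLinearMap ∘ₗ (MultilinearMap.curryLeft (tprod R (s := fun _ : Fin (n + 1) => M))))

theorem join_tmul (n : ℕ) (m : M) (f : Fin n → M) :
    join (R := R) n M (m ⊗ₜ[R] tprod R f) = tprod R (Fin.cons m f) := by
  simp [join]

theorem join_split (n : ℕ) (z : T R (n + 1) M) : join n M (split n M z) = z := by
  induction z using PiTensorProduct.induction_on with
  | add a b ha hb => simp [ha, hb]
  | smul_tprod c f => simp [split_tprod, join_tmul]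

theorem split_map {N : Type u} [AddCommGroup N] [Module R N] (n : ℕ) (f : M →ₗ[R] N) (z : T R (n + 1) M) :
    split n N (Tmap (n + 1) f z) = TensorProduct.map f (Tmap n f) (split n M z) := by
  induction z using PiTensorProduct.induction_on with
  | add a b ha hb => simp [ha, hb]
  | smul_tprod c g =>
    simp only [map_smul, PiTensorProduct.map_tprod, split_tprod, TensorProduct.map_tmul]
    rfl

theorem eq_sum_single {l : ℕ} {W : Type u} [AddCommGroup W] [Module R W] (z : (Fin l → R) ⊗[R] W) :
    ∃ w : Fin l → W, z = ∑ i, (Pi.single i (1 : R) : Fin l → R) ⊗ₜ[R] w i := by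
  induction z using TensorProduct.induction_on with
  | zero => exact ⟨0, by simp⟩
  | tmul v w =>
    refine ⟨fun i => v i • w, ?_⟩
    conv_lhs => rw [pi_eq_sum_univ' v]
    simp [TensorProduct.sum_tmul, TensorProduct.smul_tmul]
  | add a b ha hb =>
    obtain ⟨wa, rfl⟩ := ha
    obtain ⟨wb, rfl⟩ := hb
    exact ⟨wa + wb, by simp [TensorProduct.tmul_add, Finset.sum_add_distrib]⟩

/-- Finitely many tensors killed by `x : Rˡ → M` are killed by a factor of `x`, for `M` flat. -/
theorem exists_factor [Module.Flat R M] :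
    ∀ (n : ℕ) {l : ℕ} (x : (Fin l → R) →ₗ[R] M) {ι : Type} (s : Finset ι) (z : ι → T R n (Fin l → R)),
      (∀ i ∈ s, Tmap n x (z i) = 0) → ∃ (l' : ℕ) (a : (Fin l → R) →ₗ[R] (Fin l' → R))
        (y : (Fin l' → R) →ₗ[R] M), x = y ∘ₗ a ∧ ∀ i ∈ s, Tmap n a (z i) = 0 := by
  classical
  intro n
  induction n with
  | zero =>
    intro l x ι s z hz
    refine ⟨l, LinearMap.id, x, rfl, fun i hi => ?_⟩
    have h := hz i hi
    have : Tmap 0 x (z i) = 0 → Tmap 0 (LinearMap.id : (Fin l → R) →ₗ[R] _) (z i) = 0 := by
      intro h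
      have e := congrArg (PiTensorProduct.isEmptyEquiv (R := R) (s := fun _ : Fin 0 => M) (Fin 0)) h
      apply (PiTensorProduct.isEmptyEquiv (R := R) (s := fun _ : Fin 0 => Fin l → R) (Fin 0)).injective
      rw [map_zero] at e ⊢
      refine Eq.trans ?_ e
      generalize z i = t
      induction t using PiTensorProduct.induction_on with
      | add a b ha hb => simp only [map_add, ha, hb]
      | smul_tprod c g => simp
    exact this h
  | succ n IH =>
    intro l x ι s
    induction s using Finset.induction_on generalizing l x with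
    | empty => exact fun z _ => ⟨l, LinearMap.id, x, rfl, by simp⟩
    | insert i₀ s hi₀ ih =>
      intro z hz
      obtain ⟨l₁, a₁, y₁, rfl, h₁⟩ := ih x z fun i hi => hz i (Finset.mem_insert_of_mem hi)
      obtain ⟨w, hw⟩ := eq_sum_single (split n _ (Tmap (n + 1) a₁ (z i₀)))
      have h0 : ∑ i, Tmap n y₁ (w i) ⊗ₜ[R] y₁ (Pi.single i 1) = 0 := by
        have h := split_map n y₁ (Tmap (n + 1) a₁ (z i₀))
        rw [← Tmap_comp, hz i₀ (Finset.mem_insert_self _ _), map_zero, hw] at h
        have h' := congrArg (TensorProduct.comm R M (T R n M)) h.symm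
        simpa using h'
      obtain ⟨k, b, y₂, hb1, hb2⟩ :=
        TensorProduct.vanishesTrivially_of_sum_tmul_eq_zero_of_rTensor_injective R
          (Module.Flat.rTensor_preserves_injective_linearMap _ Subtype.val_injective) h0
      let bl : (Fin l₁ → R) →ₗ[R] (Fin k → R) :=
        Fintype.linearCombination R (fun i => b i)
      let yl : (Fin k → R) →ₗ[R] M := Fintype.linearCombination R y₂
      have hy₁ : y₁ = yl ∘ₗ bl := by
        refine LinearMap.pi_ext' fun i => LinearMap.ext_ring ?_
        simp [bl, yl, hb1 i, Fintype.linearCombination_apply]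
      have hw' : ∀ p : Fin k, Tmap n yl (∑ i, b i p • Tmap n bl (w i)) = 0 := by
        intro p
        simp only [map_sum, map_smul, ← Tmap_comp, ← hy₁]
        exact hb2 p
      obtain ⟨l₃, a₃, y₃, hy₃, h₃⟩ := IH yl Finset.univ (fun p => ∑ i, b i p • Tmap n bl (w i))
        (fun p _ => hw' p)
      refine ⟨l₃, a₃ ∘ₗ bl ∘ₗ a₁, y₃, ?_, fun i hi => ?_⟩
      · rw [← LinearMap.comp_assoc, ← hy₃, ← LinearMap.comp_assoc, ← hy₁]
      · rcases Finset.mem_insert.mp hi with rfl | hi
        · rw [← LinearMap.comp_assoc, Tmap_comp]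
          apply (show Function.Injective (split n (Fin l₃ → R)) from
            Function.LeftInverse.injective (g := join n _) (join_split n))
          rw [map_zero, split_map, hw, map_sum]
          simp only [TensorProduct.map_tmul, Tmap_comp, LinearMap.comp_apply]
          have hbl : ∀ i, bl (Pi.single i 1) = ∑ p, b i p • Pi.single p 1 := by
            intro i
            rw [← pi_eq_sum_univ' (b i)]
            simp [bl]
          simp only [hbl, map_sum, map_smul, TensorProduct.sum_tmul, TensorProduct.smul_tmul]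
          rw [Finset.sum_comm]
          refine Finset.sum_eq_zero fun p _ => ?_
          rw [← TensorProduct.tmul_sum]
          have := h₃ p (Finset.mem_univ _)
          simp only [map_sum, map_smul] at this
          rw [this, TensorProduct.tmul_zero]
        · rw [← LinearMap.comp_assoc, Tmap_comp, h₁ i hi, map_zero]

/-- Finitely many tensors over `M` come from a common finite free module. -/
theorem exists_lift (n : ℕ) {ι : Type} [Finite ι] (t : ι → T R n M) :
    ∃ (l : ℕ) (x : (Fin l → R) →ₗ[R] M) (s : ι → T R n (Fin l → R)), ∀ i, Tmap n x (s i) = t i := by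
  classical
  have hone : ∀ u : T R n M, ∃ S : Finset M, ∀ S' : Finset M, S ⊆ S' →
      ∃ s : T R n (S' → R), Tmap n (Fintype.linearCombination R (fun m : S' => (m : M))) s = u := by
    intro u
    induction u using PiTensorProduct.induction_on with
    | smul_tprod c f =>
      refine ⟨Finset.univ.image f, fun S' h => ⟨c • tprod R (fun j => Pi.single ⟨f j, h (by simp)⟩ 1), ?_⟩⟩
      simp [Tmap, PiTensorProduct.map_tprod]
    | add a b ha hb =>
      obtain ⟨Sa, ha⟩ := ha
      obtain ⟨Sb, hb⟩ := hb
      refine ⟨Sa ∪ Sb, fun S' h => ?_⟩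
      obtain ⟨sa, hsa⟩ := ha S' (Finset.union_subset_left h)
      obtain ⟨sb, hsb⟩ := hb S' (Finset.union_subset_right h)
      exact ⟨sa + sb, by rw [map_add, hsa, hsb]⟩
  choose S hS using hone
  have := Fintype.ofFinite ι
  let S' := Finset.univ.biUnion fun i => S (t i)
  have h : ∀ i, ∃ s : T R n (S' → R), Tmap n (Fintype.linearCombination R (fun m : S' => (m : M))) s = t i :=
    fun i => hS (t i) S' (Finset.subset_biUnion_of_mem (fun i => S (t i)) (Finset.mem_univ i))
  choose s hs using h
  let e : (S' → R) ≃ₗ[R] (Fin S'.card → R) := LinearEquiv.funCongrLeft R R S'.equivFin.symm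
  refine ⟨_, Fintype.linearCombination R (fun m : S' => (m : M)) ∘ₗ e.symm.toLinearMap,
    fun i => Tmap n e.toLinearMap (s i), fun i => ?_⟩
  rw [← Tmap_comp, LinearMap.comp_assoc, LinearEquiv.comp_coe, LinearEquiv.self_trans_symm,
    LinearEquiv.refl_toLinearMap, LinearMap.comp_id, hs]

end Groth.Misc8.FlatTensor
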