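import Mathlib
import Groth.Prelude.Def_AlgSpRep

/-!
# Zariski sheaves covered fppf locally by subsheaves
-/

set_option autoImplicit false
set_option backward.isDefEq.respectTransparency.types false

universe v u

open CategoryTheory CategoryTheory.Limits AlgebraicGeometry Opposite AlgSp

namespace Groth.Misc8.FppfSubCover

variable {S : Scheme.{u}}

/-- A sieve containing flat maps, locally of finite presentation, jointly covering every point. -/
theorem mem_J_of_forall {X : Over S} {R : Sieve X}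
    (h : ∀ x : X.left, ∃ (V : Over S) (f : V ⟶ X), Flat f.left ∧ LocallyOfFinitePresentation f.left ∧
      x ∈ Set.range f.left ∧ R f) : R ∈ J S X := by
  rw [J_eq, GrothendieckTopology.mem_over_iff]
  choose V f hf hf' hx hR using h
  have hC : Presieve.ofArrows (fun x => (V x).left) (fun x => (f x).left) ∈
      Scheme.fppfPrecoverage X.left := by
    rw [Scheme.fppfPrecoverage, Scheme.ofArrows_mem_precoverage_iff]
    exact ⟨fun x => ⟨x, (hx x).choose, (hx x).choose_spec⟩, fun x => ⟨hf x, hf' x⟩⟩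
  refine GrothendieckTopology.superset_covering _ ?_ (Precoverage.generate_mem_toGrothendieck hC)
  rw [Sieve.generate_le_iff]
  rintro _ _ ⟨x⟩
  rw [Sieve.overEquiv_iff]
  convert R.downward_closed (hR x) (Over.homMk (𝟙 (V x).left) (by simp) : Over.mk ((f x).left ≫ X.hom) ⟶ V x) using 1
  ext : 1
  simp

/-- Every point is in the image of a flat map, locally of finite presentation, of a covering sieve. -/
theorem exists_of_mem_J {X : Over S} {R : Sieve X} (hR : R ∈ J S X) (x : X.left) :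
    ∃ (V : Over S) (f : V ⟶ X), Flat f.left ∧ LocallyOfFinitePresentation f.left ∧
      x ∈ Set.range f.left ∧ R f := by
  rw [J_eq, GrothendieckTopology.mem_over_iff] at hR
  change _ ∈ Precoverage.toGrothendieck Scheme.fppfPrecoverage _ at hR
  have : MorphismProperty.RespectsIso (@Flat ⊓ @LocallyOfFinitePresentation : MorphismProperty Scheme.{u}) :=
    inferInstance
  have : MorphismProperty.ContainsIdentities (@Flat ⊓ @LocallyOfFinitePresentation : MorphismProperty Scheme.{u}) :=
    ⟨fun X => ⟨(inferInstance : Flat (𝟙 X)), (inferInstance : LocallyOfFinitePresentation (𝟙 X))⟩⟩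
  rw [Scheme.fppfPrecoverage, Precoverage.mem_toGrothendieck_iff_of_isStableUnderComposition] at hR
  obtain ⟨T, hT, hle⟩ := hR
  obtain ⟨Y, g, hg, y, hy⟩ := hT.1 x
  obtain @⟨Z, g', hg'⟩ := hg
  refine ⟨Over.mk (g' ≫ X.hom), Over.homMk g', (hT.2 hg').1, (hT.2 hg').2, ⟨y, hy⟩, ?_⟩
  exact (Sieve.overEquiv_iff _ _).1 (hle _ _ hg')

variable {F G : PSp S}

/-- A monomorphism whose pullbacks to schemes are sheaves is closed under local membership. -/
theorem mem_range_of_locally (m : F ⟶ G) [Mono m] (hm : RepBySp m) {T : Over S} (x : G.obj (op T))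
    {R : Sieve T} (hR : R ∈ J S T)
    (h : ∀ ⦃T' : Over S⦄ (f : T' ⟶ T), R f → G.map f.op x ∈ Set.range (m.app (op T'))) :
    x ∈ Set.range (m.app (op T)) := by
  obtain ⟨hW, -⟩ := hm (uliftYonedaEquiv.symm x) (pullback.fst _ _) (pullback.snd _ _)
    (IsPullback.of_hasPullback m (uliftYonedaEquiv.symm x))
  set p₁ := pullback.fst m (uliftYonedaEquiv.{u + 1}.symm x)
  set p₂ := pullback.snd m (uliftYonedaEquiv.{u + 1}.symm x)
  have hin : ∀ {T' : Over S} (w : (pullback m (uliftYonedaEquiv.{u + 1}.symm x)).obj (op T')) (f : T' ⟶ T),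
      p₂.app _ w = ULift.up f → m.app _ (p₁.app _ w) = G.map f.op x := by
    intro T' w f hw
    refine (congrArg (fun φ : pullback m (uliftYonedaEquiv.{u + 1}.symm x) ⟶ G => φ.app (op T') w)
      pullback.condition).trans ?_
    show (uliftYonedaEquiv.{u + 1}.symm x).app _ (p₂.app _ w) = _
    rw [hw]
    rfl
  have hinj : ∀ {T' : Over S} (w w' : (pullback m (uliftYonedaEquiv.{u + 1}.symm x)).obj (op T')),
      p₂.app _ w = p₂.app _ w' → w = w' := by
    intro T' w w' hw
    exact (mono_iff_injective (p₂.app (op T'))).1 inferInstance hw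
  have hex : ∀ {T' : Over S} (f : T' ⟶ T), G.map f.op x ∈ Set.range (m.app (op T')) →
      ∃ w : (pullback m (uliftYonedaEquiv.{u + 1}.symm x)).obj (op T'), p₂.app _ w = ULift.up f := by
    rintro T' f ⟨y, hy⟩
    refine ⟨uliftYonedaEquiv (pullback.lift (uliftYonedaEquiv.symm y) ((pyon S).map f) ?_), ?_⟩
    · apply uliftYonedaEquiv.injective
      rw [uliftYonedaEquiv_comp, Equiv.apply_symm_apply, uliftYonedaEquiv_comp, hy]
      show G.map f.op x = (uliftYonedaEquiv.{u + 1}.symm x).app _ (uliftYonedaEquiv ((pyon S).map f))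
      rw [uliftYonedaEquiv_uliftYoneda_map]
      rfl
    · rw [← uliftYonedaEquiv_comp, pullback.lift_snd]
      exact uliftYonedaEquiv_uliftYoneda_map f
  choose w hw using fun {T' : Over S} (f : T' ⟶ T) (hf : R f) => hex f (h f hf)
  let fam : Presieve.FamilyOfElements (pullback m (uliftYonedaEquiv.{u + 1}.symm x)) R.arrows :=
    fun _ f hf => w f hf
  have hfam : fam.Compatible := by
    intro Y₁ Y₂ Z g₁ g₂ f₁ f₂ h₁ h₂ e
    apply hinj
    rw [NatTrans.naturality_apply p₂, NatTrans.naturality_apply p₂, hw, hw]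
    exact congrArg ULift.up e
  obtain ⟨t, ht, -⟩ := (isSheaf_iff_isSheaf_of_type _ _).1 hW R hR fam hfam
  refine ⟨p₁.app _ t, ?_⟩
  have hsnd : p₂.app _ t = ULift.up (𝟙 T) := by
    have hsep := (isSheaf_iff_isSheaf_of_type _ _).1 ((yon S).obj T).property R hR
    refine hsep.isSeparatedFor.ext fun Y f hf => ?_
    show ((pyon S).obj T).map f.op (p₂.app _ t) = ((pyon S).obj T).map f.op (ULift.up (𝟙 T))
    rw [← NatTrans.naturality_apply p₂, ht f hf, hw]
    exact congrArg ULift.up (Category.comp_id f).symm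
  exact (hin t (𝟙 T) hsnd).trans (by simp)

section

variable {ι : Type v} {Fi : ι → PSp S} (m : ∀ i, Fi i ⟶ F) [∀ i, Mono (m i)]
  (ha : ∀ i, Presheaf.IsSheaf (J S) (Fi i)) (hb : ∀ i, RepBySp (m i))
  (hc : ∀ (T : Over S) (x : F.obj (op T)), ∃ R ∈ J S T,
    ∀ ⦃T' : Over S⦄ (f : T' ⟶ T), R.arrows f → ∃ i, F.map f.op x ∈ Set.range ((m i).app (op T')))

/-- The open subscheme as an object over the base. -/
noncomputable abbrev opn {T : Over S} (V : T.left.Opens) : Over S := Over.mk (V.ι ≫ T.hom)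

/-- The inclusion of an open subscheme. -/
noncomputable abbrev inc {T : Over S} (V : T.left.Opens) : opn V ⟶ T := Over.homMk V.ι

include hc hb ha in
/-- Compatible local sections lie, Zariski locally on the target, in one of the subsheaves. -/
theorem exists_open {T : Over S} {R : Sieve T} (hR : R ∈ J S T)
    (s : Presieve.FamilyOfElements F R.arrows) (hs : s.Compatible) (x : T.left) :
    ∃ (V : T.left.Opens) (i : ι) (z : (Fi i).obj (op (opn V))), x ∈ V ∧
      ∀ ⦃Z : Over S⦄ (h : Z ⟶ opn V) (hh : R (h ≫ inc V)),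
        (m i).app _ ((Fi i).map h.op z) = s (h ≫ inc V) hh := by
  obtain ⟨T₁, f₁, hf₁, hf₁', ⟨t, rfl⟩, hRf₁⟩ := exists_of_mem_J hR x
  obtain ⟨R₁, hR₁, hc₁⟩ := hc T₁ (s f₁ hRf₁)
  obtain ⟨T₂, f₂, hf₂, hf₂', ⟨t₂, rfl⟩, hRf₂⟩ := exists_of_mem_J hR₁ t
  obtain ⟨i, hi⟩ := hc₁ f₂ hRf₂
  have : Flat (f₂ ≫ f₁).left := by
    rw [Over.comp_left]
    infer_instance
  have : LocallyOfFinitePresentation (f₂ ≫ f₁).left := by
    rw [Over.comp_left]
    infer_instance
  let V : T.left.Opens := ⟨_, (f₂ ≫ f₁).left.isOpenMap.isOpen_range⟩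
  have hR₂ : R (f₂ ≫ f₁) := R.downward_closed hRf₁ f₂
  have hi' : s (f₂ ≫ f₁) hR₂ ∈ Set.range ((m i).app (op T₂)) := by
    have := hs.to_sieveCompatible f₁ f₂ hRf₁
    rw [this]
    exact hi
  let g : T₂ ⟶ opn V := Over.homMk (IsOpenImmersion.lift V.ι (f₂ ≫ f₁).left (by
      rw [Scheme.Opens.range_ι]
      exact subset_rfl)) (by
    show _ ≫ V.ι ≫ T.hom = _
    rw [IsOpenImmersion.lift_fac_assoc, Over.w])
  have hg : g ≫ inc V = f₂ ≫ f₁ := by
    ext : 1
    exact IsOpenImmersion.lift_fac _ _ _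
  let Q : Sieve (opn V) := R.pullback (inc V)
  have hmem : ∀ ⦃Z : Over S⦄ (h : Z ⟶ opn V) (hh : Q h), s (h ≫ inc V) hh ∈ Set.range ((m i).app (op Z)) := by
    intro Z h hh
    have hcov : Sieve.pullback h (Sieve.generate (Presieve.singleton g)) ∈ J S Z := by
      refine (J S).pullback_stable h (mem_J_of_forall fun v => ?_)
      have hgl : g.left ≫ V.ι = (f₂ ≫ f₁).left := congrArg Over.Hom.left hg
      have : Flat (g.left ≫ V.ι) := by rw [hgl]; infer_instance
      have : LocallyOfFinitePresentation (g.left ≫ V.ι) := by rw [hgl]; infer_instance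
      obtain ⟨a, ha⟩ := v.2
      have sq : IsPullback (𝟙 _) g.left (g.left ≫ V.ι) V.ι :=
        IsPullback.of_horiz_isIso_mono ⟨by simp⟩
      refine ⟨T₂, g, MorphismProperty.of_isPullback sq ‹_›, MorphismProperty.of_isPullback sq ‹_›, ⟨a, ?_⟩,
        Sieve.le_generate _ _ _ (Presieve.singleton_self g)⟩
      apply V.ι.isOpenEmbedding.injective
      show (g.left ≫ V.ι) a = _
      rw [hgl]
      exact ha
    refine mem_range_of_locally (m i) (hb i) _ hcov fun W k hk => ?_
    obtain ⟨_, l, _, hl, e⟩ := hk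
    cases hl
    obtain ⟨y, hy⟩ := hi'
    refine ⟨(Fi i).map l.op y, ?_⟩
    rw [NatTrans.naturality_apply, hy]
    exact hs l k hR₂ hh (by rw [← hg, reassoc_of% e])
  choose y hy using hmem
  have hyc : Presieve.FamilyOfElements.Compatible (P := Fi i) (fun Z h hh => y h hh) (R := Q.arrows) := by
    intro Y₁ Y₂ Z g₁ g₂ h₁ h₂ hh₁ hh₂ e
    apply (mono_iff_injective ((m i).app (op Z))).1 inferInstance
    rw [NatTrans.naturality_apply, NatTrans.naturality_apply, hy, hy]
    exact hs g₁ g₂ hh₁ hh₂ (by rw [reassoc_of% e])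
  obtain ⟨z, hz, -⟩ := (isSheaf_iff_isSheaf_of_type _ _).1 (ha i) Q ((J S).pullback_stable _ hR) _ hyc
  exact ⟨V, i, z, ⟨t₂, rfl⟩, fun Z h hh => by rw [hz h hh, hy]⟩

/-- Sections agreeing Zariski locally are equal. -/
theorem zariski_ext (h1 : Presheaf.IsSheaf (QuotSh.J Scheme.zariskiPrecoverage S) F) {T : Over S}
    {x y : F.obj (op T)}
    (h : ∀ p : T.left, ∃ V : T.left.Opens, p ∈ V ∧ F.map (inc V).op x = F.map (inc V).op y) : x = y := by
  let R : Sieve T := { arrows := fun _ f => F.map f.op x = F.map f.op y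
                       downward_closed := fun hf g => by simp only [op_comp, Functor.map_comp, types_comp_apply, hf] }
  exact ((isSheaf_iff_isSheaf_of_type _ _).1 h1 R (mem_zariski_of_forall h)).isSeparatedFor.ext fun _ _ hf => hf
where
  mem_zariski_of_forall {T : Over S} {R : Sieve T}
      (h : ∀ p : T.left, ∃ V : T.left.Opens, p ∈ V ∧ R (inc V)) :
      R ∈ QuotSh.J Scheme.zariskiPrecoverage S T := by
    rw [GrothendieckTopology.mem_over_iff]
    choose V hV hR using h
    have hC : Presieve.ofArrows (fun p => (V p : Scheme.{u})) (fun p => (V p).ι) ∈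
        Scheme.zariskiPrecoverage T.left := by
      rw [Scheme.zariskiPrecoverage, Scheme.ofArrows_mem_precoverage_iff]
      exact ⟨fun p => ⟨p, ⟨p, hV p⟩, rfl⟩, fun p => (inferInstance : IsOpenImmersion (V p).ι)⟩
    refine GrothendieckTopology.superset_covering _ ?_ (Precoverage.generate_mem_toGrothendieck hC)
    rw [Sieve.generate_le_iff]
    rintro _ _ ⟨p⟩
    rw [Sieve.overEquiv_iff]
    exact hR p

include hc hb ha in
/-- Such a presheaf is separated. -/
theorem separated (h1 : Presheaf.IsSheaf (QuotSh.J Scheme.zariskiPrecoverage S) F) {T : Over S}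
    {R : Sieve T} (hR : R ∈ J S T) {x y : F.obj (op T)}
    (h : ∀ ⦃Z : Over S⦄ (f : Z ⟶ T), R f → F.map f.op x = F.map f.op y) : x = y := by
  refine zariski_ext h1 fun p => ?_
  obtain ⟨T₁, f₁, hf₁, hf₁', ⟨t, rfl⟩, -⟩ := exists_of_mem_J (hc T x).choose_spec.1 p
  obtain ⟨V, i, z, hpV, hz⟩ := exists_open m ha hb hc ((J S).top_mem T)
    (fun _ f _ => F.map f.op x) (fun _ _ _ g₁ g₂ f₁ f₂ _ _ e => by
      show F.map g₁.op (F.map f₁.op x) = F.map g₂.op (F.map f₂.op x)
      rw [← types_comp_apply (F.map f₁.op) (F.map g₁.op), ← types_comp_apply (F.map f₂.op) (F.map g₂.op),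
        ← Functor.map_comp, ← Functor.map_comp, ← op_comp, ← op_comp, e]) (f₁.left t)
  refine ⟨V, hpV, ?_⟩
  have hxV : (m i).app _ z = F.map (inc V).op x := by simpa using hz (𝟙 _) trivial
  have hyV : F.map (inc V).op y ∈ Set.range ((m i).app (op (opn V))) := by
    refine mem_range_of_locally (m i) (hb i) _ ((J S).pullback_stable (inc V) hR) fun W k hk => ?_
    refine ⟨(Fi i).map k.op z, ?_⟩
    rw [NatTrans.naturality_apply, hxV]
    simpa using h (k ≫ inc V) hk
  obtain ⟨z', hz'⟩ := hyV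
  rw [← hxV, ← hz']
  congr 1
  refine ((isSheaf_iff_isSheaf_of_type _ _).1 (ha i) _ ((J S).pullback_stable (inc V) hR)).isSeparatedFor.ext
    fun W k hk => ?_
  apply (mono_iff_injective ((m i).app (op W))).1 inferInstance
  rw [NatTrans.naturality_apply, NatTrans.naturality_apply, hxV, hz']
  simpa using h (k ≫ inc V) hk

include hc hb ha in
/-- Bootstrap: such a presheaf is an fppf sheaf. -/
theorem isSheaf (h1 : Presheaf.IsSheaf (QuotSh.J Scheme.zariskiPrecoverage S) F) :
    Presheaf.IsSheaf (J S) F := by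
  rw [isSheaf_iff_isSheaf_of_type]
  intro T R hR s hs
  choose V i z hV hz using fun p => exists_open m ha hb hc hR s hs p
  let Rz : Sieve T := Sieve.generate (Presieve.ofArrows (fun p => opn (V p)) (fun p => inc (V p)))
  have hRz : Rz ∈ QuotSh.J Scheme.zariskiPrecoverage S T := zariski_ext.mem_zariski_of_forall fun p =>
    ⟨V p, hV p, Sieve.le_generate _ _ _ ⟨p⟩⟩
  have hfamp : ∀ p, ∀ ⦃Z : Over S⦄ (h : Z ⟶ opn (V p)) (hh : R (h ≫ inc (V p))),
      F.map h.op ((m (i p)).app _ (z p)) = s (h ≫ inc (V p)) hh := fun p Z h hh => by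
    rw [← NatTrans.naturality_apply, hz p h hh]
  let x₀ : ∀ p, F.obj (op (opn (V p))) := fun p => (m (i p)).app _ (z p)
  have hx₀ : Presieve.Arrows.Compatible F (fun p => inc (V p)) x₀ := by
    intro p q Z g₁ g₂ e
    refine separated m ha hb hc h1 ((J S).pullback_stable (g₁ ≫ inc (V p)) hR) fun W k hk => ?_
    have hp := hfamp p (k ≫ g₁) (by rwa [Category.assoc])
    have hq := hfamp q (k ≫ g₂) (by rw [Category.assoc, ← e]; exact hk)
    simp only [op_comp, Functor.map_comp, types_comp_apply] at hp hq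
    rw [hp, hq]
    congr 1
    · rw [Category.assoc, Category.assoc, e]
  have hsh := (Presieve.isSheafFor_iff_generate _).2 ((isSheaf_iff_isSheaf_of_type _ _).1 h1 Rz hRz)
  obtain ⟨x, hx, -⟩ := (Presieve.isSheafFor_arrows_iff _ _).1 hsh x₀ hx₀
  have hxs : ∀ ⦃Z : Over S⦄ (f : Z ⟶ T) (hf : R f), F.map f.op x = s f hf := by
    intro Z f hf
    refine zariski_ext h1 fun q => ?_
    refine ⟨f.left ⁻¹ᵁ V (f.left q), hV (f.left q), ?_⟩
    set p := f.left q
    let h : opn (f.left ⁻¹ᵁ V p) ⟶ opn (V p) := Over.homMk (f.left ∣_ V p) (by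
      show _ ≫ (V p).ι ≫ T.hom = _ ≫ Z.hom
      rw [morphismRestrict_ι_assoc, Over.w])
    have hh : inc (f.left ⁻¹ᵁ V p) ≫ f = h ≫ inc (V p) := by
      ext : 1
      exact (morphismRestrict_ι f.left (V p)).symm
    have hh' : R (h ≫ inc (V p)) := hh ▸ R.downward_closed hf _
    calc F.map (inc _).op (F.map f.op x) = F.map (inc (f.left ⁻¹ᵁ V p) ≫ f).op x := by simp
      _ = F.map h.op (F.map (inc (V p)).op x) := by rw [hh]; simp
      _ = s (h ≫ inc (V p)) hh' := by rw [hx p]; exact hfamp p h hh'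
      _ = F.map (inc _).op (s f hf) := by
        rw [← hs.to_sieveCompatible f (inc (f.left ⁻¹ᵁ V p)) hf]
        congr 1
        exact hh.symm
  exact ⟨x, hxs, fun y hy => separated m ha hb hc h1 hR fun Z f hf => by rw [hy f hf, hxs f hf]⟩

end

end Groth.Misc8.FppfSubCover
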