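import Groth.Agent.EtaleAlgebra.GlueDescent
import Groth.Agent.EtaleAlgebra.GlueFP
import Groth.Agent.EtaleAlgebra.GluePair
import Mathlib.RingTheory.Flat.TorsionFree

/-!
# Beauville–Laszlo glueing of flat algebras over a domain

For a domain `R`, `r ≠ 0`, an `R`-algebra `R'` flat with `R/rⁿ = R'/rⁿ` and `L = R_r`: flat `R`-algebras are
fibre products of their base changes to `R'` and `L`, and algebras glue along an automorphism.
-/

set_option autoImplicit false
set_option linter.style.haveILetI false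

universe u

open TensorProduct Algebra.TensorProduct

namespace Groth.Misc8.GSGlue

variable {R : Type u} [CommRing R] [IsDomain R] {R' L : Type u} [CommRing R'] [CommRing L]
  [Algebra R R'] [Algebra R L]

/-- The hypotheses on `R'`: a compatible family of retractions modulo powers of `r`, with the expected kernels. -/
structure Pair (R' : Type u) [CommRing R'] [Algebra R R'] (r : R) : Prop where
  flat : Module.Flat R R'
  retract : ∀ n : ℕ, ∃ q : R' →ₐ[R] R ⧸ Ideal.span {r ^ n},
    ∀ x, q x = 0 → ∃ y, x = algebraMap R R' (r ^ n) * y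

theorem smul_cancel {M : Type u} [AddCommGroup M] [Module R M] [Module.Flat R M] {r : R} (hr : r ≠ 0)
    (n : ℕ) {x y : M} (h : r ^ n • x = r ^ n • y) : x = y :=
  Module.Flat.isSMulRegular_of_nonZeroDivisors (mem_nonZeroDivisors_of_ne_zero (pow_ne_zero n hr)) h

theorem Pair.isGlueingPair {r : R} (h : Pair R' r) (hr : r ≠ 0) : EtGlue.IsGlueingPair R R' r := by
  haveI := h.flat
  refine Groth.EtaleAlgebra.Glue.isGlueingPair_of (fun n _ => ?_) (fun x hx _ => ?_) (fun x hx => ?_)
  · obtain ⟨q, hq⟩ := h.retract n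
    constructor
    · rw [injective_iff_map_eq_zero]
      intro a ha
      obtain ⟨a, rfl⟩ := Ideal.Quotient.mk_surjective a
      rw [Ideal.quotientMap_mk, Ideal.Quotient.eq_zero_iff_mem, Ideal.map_span, Set.image_singleton,
        Ideal.mem_span_singleton] at ha
      obtain ⟨c, hc⟩ := ha
      have := congrArg q hc
      rw [map_mul, AlgHom.commutes, AlgHom.commutes, Ideal.Quotient.algebraMap_eq,
        Ideal.Quotient.eq_zero_iff_mem.mpr (Ideal.mem_span_singleton_self _), zero_mul] at this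
      exact this
    · intro b
      obtain ⟨b, rfl⟩ := Ideal.Quotient.mk_surjective b
      obtain ⟨a, ha⟩ := Ideal.Quotient.mk_surjective (q b)
      refine ⟨Ideal.Quotient.mk _ a, ?_⟩
      rw [Ideal.quotientMap_mk, Ideal.Quotient.eq, Ideal.map_span, Set.image_singleton, Ideal.mem_span_singleton]
      obtain ⟨c, hc⟩ := hq (algebraMap R R' a - b) (by rw [map_sub, AlgHom.commutes, ← ha]; exact sub_self _)
      exact ⟨c, hc⟩
  · obtain ⟨n, hn⟩ := hx
    exact smul_cancel hr n (by rw [hn, smul_zero])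
  · obtain ⟨n, hn⟩ := hx
    refine ⟨0, ⟨0, smul_zero _⟩, ?_⟩
    rw [map_zero]
    exact (smul_cancel hr n (by rw [hn, smul_zero])).symm

variable (R' L) in
/-- The map `R' ⊗ C → R' ⊗ (L ⊗ C)`. -/
noncomputable def iP (C : Type u) [CommRing C] [Algebra R C] : R' ⊗[R] C →ₐ[R'] R' ⊗[R] (L ⊗[R] C) :=
  Algebra.TensorProduct.map (AlgHom.id R' R') includeRight

variable (R' L) in
/-- The map `L ⊗ C → R' ⊗ (L ⊗ C)`. -/
noncomputable def iL (C : Type u) [CommRing C] [Algebra R C] : L ⊗[R] C →ₐ[R] R' ⊗[R] (L ⊗[R] C) :=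
  includeRight

@[simp] theorem iP_tmul (C : Type u) [CommRing C] [Algebra R C] (x : R') (c : C) :
    iP R' L C (x ⊗ₜ[R] c) = x ⊗ₜ[R] ((1 : L) ⊗ₜ[R] c) := rfl

@[simp] theorem iL_apply (C : Type u) [CommRing C] [Algebra R C] (x : L ⊗[R] C) :
    iL R' L C x = (1 : R') ⊗ₜ[R] x := rfl

theorem iP_naturality {C D : Type u} [CommRing C] [Algebra R C] [CommRing D] [Algebra R D] (φ : C →ₐ[R] D)
    (x : R' ⊗[R] C) :
    Algebra.TensorProduct.map (AlgHom.id R' R') (Algebra.TensorProduct.map (AlgHom.id R L) φ) (iP R' L C x) =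
      iP R' L D (Algebra.TensorProduct.map (AlgHom.id R' R') φ x) := by
  induction x with
  | zero => simp
  | tmul a c => rfl
  | add x y hx hy => simp only [map_add, hx, hy]

section loc

variable {r : R} [IsLocalization.Away r L] (hr : r ≠ 0)
include hr

theorem includeRight_injective (C : Type u) [CommRing C] [Algebra R C] [Module.Flat R C] :
    Function.Injective (includeRight : C →ₐ[R] L ⊗[R] C) := by
  have h1 : Function.Injective (algebraMap R L) :=
    IsLocalization.injective L (Submonoid.powers_le.mpr (mem_nonZeroDivisors_of_ne_zero hr) : Submonoid.powers r ≤ _)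
  have h2 : Function.Injective (LinearMap.rTensor C (Algebra.linearMap R L)) :=
    Module.Flat.rTensor_preserves_injective_linearMap _ h1
  intro a b hab
  apply (TensorProduct.lid R C).symm.injective
  apply h2
  simpa using hab

theorem iP_injective (hR' : Module.Flat R R') (C : Type u) [CommRing C] [Algebra R C] [Module.Flat R C] :
    Function.Injective (iP (R := R) R' L C) := by
  have := Module.Flat.lTensor_preserves_injective_linearMap (M := R') (AlgHom.toLinearMap (includeRight : C →ₐ[R] L ⊗[R] C))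
    (includeRight_injective (L := L) hr C)
  intro a b hab
  apply this
  have key : ∀ x, iP R' L C x = (AlgHom.toLinearMap (includeRight : C →ₐ[R] L ⊗[R] C)).lTensor R' x := fun x => by
    induction x with
    | zero => simp
    | tmul s c => rfl
    | add x y hx hy => simp only [map_add, hx, hy]
  rw [← key, ← key, hab]

/-- A flat algebra is the fibre product of its base changes. -/
theorem exists_glue (hP : Pair R' r) (C : Type u) [CommRing C] [Algebra R C] [Module.Flat R C]
    (z' : R' ⊗[R] C) (z₁ : L ⊗[R] C) (h : iP R' L C z' = iL R' L C z₁) :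
    ∃ c : C, (1 : R') ⊗ₜ[R] c = z' ∧ (1 : L) ⊗ₜ[R] c = z₁ := by
  haveI := hP.flat
  obtain ⟨n, c₀, hc⟩ : ∃ (n : ℕ) (c₀ : C), r ^ n • z₁ = (1 : L) ⊗ₜ[R] c₀ := by
    obtain ⟨⟨c₀, ⟨_, n, rfl⟩⟩, hc⟩ :=
      ((isLocalizedModule_iff_isBaseChange (Submonoid.powers r) L _).2 (TensorProduct.isBaseChange R C L)).surj z₁
    exact ⟨n, c₀, hc⟩
  have h1 : r ^ n • z' = (1 : R') ⊗ₜ[R] c₀ := by
    apply iP_injective (L := L) hr hP.flat C
    rw [← algebraMap_smul R' (r ^ n) z', map_smul, algebraMap_smul, h, ← map_smul, hc]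
    rfl
  obtain ⟨q, -⟩ := hP.retract n
  have h2 : (Ideal.Quotient.mk (Ideal.span {r ^ n}) 1) ⊗ₜ[R] c₀ = (0 : (R ⧸ Ideal.span {r ^ n}) ⊗[R] C) := by
    have := congrArg (LinearMap.rTensor C q.toLinearMap) h1
    rw [map_smul, LinearMap.rTensor_tmul, AlgHom.toLinearMap_apply, map_one] at this
    rw [map_one, ← this]
    have hz : ∀ y : (R ⧸ Ideal.span {r ^ n}) ⊗[R] C, r ^ n • y = 0 := fun y => by
      induction y with
      | zero => simp
      | tmul a c =>
        rw [TensorProduct.smul_tmul', Algebra.smul_def, Ideal.Quotient.algebraMap_eq,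
          Ideal.Quotient.eq_zero_iff_mem.mpr (Ideal.mem_span_singleton_self _), zero_mul, TensorProduct.zero_tmul]
      | add x y hx hy => rw [smul_add, hx, hy, add_zero]
    exact hz _
  have h3 := congrArg (TensorProduct.quotTensorEquivQuotSMul C (Ideal.span {r ^ n})) h2
  rw [TensorProduct.quotTensorEquivQuotSMul_mk_tmul, map_zero, one_smul, Submodule.Quotient.mk_eq_zero,
    Submodule.ideal_span_singleton_smul] at h3
  obtain ⟨c, -, rfl⟩ := (Submodule.mem_smul_pointwise_iff_exists _ _ _).mp h3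
  rw [TensorProduct.tmul_smul] at h1 hc
  haveI : Module.Flat R L := IsLocalization.flat L (Submonoid.powers r)
  exact ⟨c, (smul_cancel hr n h1).symm, (smul_cancel hr n hc.symm)⟩

/-- Algebra maps glue. -/
theorem exists_algHom (hP : Pair R' r) {C : Type u} [CommRing C] [Algebra R C] [Module.Flat R C]
    {D : Type u} [CommRing D] [Algebra R D] (f' : D →ₐ[R] R' ⊗[R] C) (f₁ : D →ₐ[R] L ⊗[R] C)
    (h : ∀ d, iP R' L C (f' d) = iL R' L C (f₁ d)) :
    ∃ φ : D →ₐ[R] C, (includeRight.comp φ = f') ∧ (includeRight.comp φ = f₁) := by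
  choose φ h' h1 using fun d => exists_glue hr hP C (f' d) (f₁ d) (h d)
  have inj := includeRight_injective (L := L) hr C
  let ψ : D →ₐ[R] C :=
    { toFun := φ
      map_one' := inj (by show (1 : L) ⊗ₜ[R] φ 1 = 1 ⊗ₜ 1; rw [h1, map_one]; rfl)
      map_mul' := fun a b => inj (by
        rw [map_mul]
        show (1 : L) ⊗ₜ[R] φ (a * b) = ((1 : L) ⊗ₜ[R] φ a) * ((1 : L) ⊗ₜ[R] φ b)
        rw [h1, h1, h1, map_mul])
      map_zero' := inj (by show (1 : L) ⊗ₜ[R] φ 0 = includeRight (0 : C); rw [h1, map_zero, map_zero])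
      map_add' := fun a b => inj (by
        rw [map_add]
        show (1 : L) ⊗ₜ[R] φ (a + b) = ((1 : L) ⊗ₜ[R] φ a) + ((1 : L) ⊗ₜ[R] φ b)
        rw [h1, h1, h1, map_add])
      commutes' := fun a => inj (by
        show (1 : L) ⊗ₜ[R] φ (algebraMap R D a) = includeRight (algebraMap R C a)
        rw [h1, AlgHom.commutes, AlgHom.commutes]) }
  exact ⟨ψ, AlgHom.ext h', AlgHom.ext h1⟩

theorem algHom_ext {C D : Type u} [CommRing C] [Algebra R C] [Module.Flat R C] [CommRing D] [Algebra R D]
    {φ ψ : D →ₐ[R] C}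
    (h : (includeRight.comp φ : D →ₐ[R] L ⊗[R] C) = includeRight.comp ψ) : φ = ψ :=
  AlgHom.ext fun d => includeRight_injective hr C (AlgHom.congr_fun h d)

/-- Glueing an algebra along an automorphism over `R' ⊗ L`. -/
theorem exists_algebra (hP : Pair R' r) (B : Type u) [CommRing B] [Algebra R B] [Algebra.FinitePresentation R B]
    [Module.Flat R B] (τ : R' ⊗[R] (L ⊗[R] B) ≃ₐ[R'] R' ⊗[R] (L ⊗[R] B)) :
    ∃ (A : Type u) (_ : CommRing A) (_ : Algebra R A) (ψ' : R' ⊗[R] A ≃ₐ[R'] R' ⊗[R] B)
      (ψ₁ : L ⊗[R] A ≃ₐ[R] L ⊗[R] B), Algebra.FinitePresentation R A ∧ Module.Flat R A ∧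
      ∀ a : A, τ (iP R' L B (ψ' ((1 : R') ⊗ₜ a))) = iL R' L B (ψ₁ ((1 : L) ⊗ₜ a)) := by
  haveI := hP.flat
  have hG := hP.isGlueingPair hr
  let gA : R' ⊗[R] B →ₐ[R] R' ⊗[R] (L ⊗[R] B) := (τ.toAlgHom.comp (iP R' L B)).restrictScalars R
  let g : R' ⊗[R] B →ₗ[R'] R' ⊗[R] (L ⊗[R] B) := (τ.toAlgHom.comp (iP R' L B)).toLinearMap
  let P₁ := AlgHom.fst R (R' ⊗[R] B) (L ⊗[R] B)
  let P₂ := AlgHom.snd R (R' ⊗[R] B) (L ⊗[R] B)
  let S : Subalgebra R ((R' ⊗[R] B) × (L ⊗[R] B)) :=
    AlgHom.equalizer (gA.comp P₁) ((iL R' L B).comp P₂)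
  let p₁ : S →ₐ[R] R' ⊗[R] B := P₁.comp S.val
  let p₂ : S →ₐ[R] L ⊗[R] B := P₂.comp S.val
  have hu : ∀ n, IsUnit (algebraMap R L (r ^ n)) := fun n => IsLocalization.map_units L (⟨r ^ n, n, rfl⟩ : Submonoid.powers r)
  have hd : Groth.EtaleAlgebra.Glue.IsDatum r g p₁.toLinearMap p₂.toLinearMap := by
    refine ⟨?_, fun z => ?_, fun w hw => ⟨0, ?_⟩, fun m h1 h2 => Subtype.ext (Prod.ext h1 h2),
      fun x y hxy => ⟨⟨(x, y), hxy⟩, rfl, rfl⟩, fun m => m.2⟩
    · have h1 := hu 1
      rw [pow_one] at h1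
      obtain ⟨v, hv⟩ := h1.map (algebraMap L (L ⊗[R] B))
      rw [← IsScalarTower.algebraMap_apply] at hv
      refine ⟨fun a b hab => ?_, fun b => ⟨(↑v⁻¹ : L ⊗[R] B) * b, ?_⟩⟩
      · simpa [Algebra.smul_def, ← hv] using hab
      · simp [Algebra.smul_def, ← hv]
    · obtain ⟨⟨w, ⟨_, n, rfl⟩⟩, hw⟩ := ((isLocalizedModule_iff_isBaseChange (Submonoid.powers r) L
        (TensorProduct.mk R L (R' ⊗[R] B) 1)).2 (TensorProduct.isBaseChange R _ L)).surj
        (TensorProduct.leftComm R R' L B (τ.symm z))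
      refine ⟨n, w, ?_⟩
      show r ^ n • z = τ (iP R' L B w)
      apply τ.symm.injective
      rw [τ.symm_apply_apply, ← algebraMap_smul R' (r ^ n) z, map_smul, algebraMap_smul]
      apply (TensorProduct.leftComm R R' L B).injective
      rw [map_smul, show r ^ n • TensorProduct.leftComm R R' L B (τ.symm z) = (1 : L) ⊗ₜ w from hw]
      clear hw
      induction w with
      | zero => simp
      | tmul a b => simp
      | add x y hx hy => simp only [map_add, TensorProduct.tmul_add, hx, hy]
    · rw [pow_zero, one_smul]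
      exact iP_injective (L := L) hr hP.flat B (τ.injective (hw.trans (by rw [map_zero, map_zero])))
  let ψ : R' ⊗[R] S →ₐ[R'] R' ⊗[R] B := lift (Algebra.ofId R' _) p₁ (fun _ _ => Commute.all _ _)
  have hψ : ∀ z, ψ z = p₁.toLinearMap.liftBaseChange R' z := by
    intro z
    induction z with
    | zero => simp
    | tmul s m => simp [ψ, Algebra.smul_def]
    | add x y hx hy => simp only [map_add, hx, hy]
  have hbij : Function.Bijective ψ := by
    rw [show ⇑ψ = ⇑(p₁.toLinearMap.liftBaseChange R') from funext hψ]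
    exact hd.bijective_liftBaseChange hG
  let χ : L ⊗[R] S →ₐ[L] L ⊗[R] B := lift (Algebra.ofId L _) p₂ (fun _ _ => Commute.all _ _)
  have hbc : IsBaseChange L p₂.toLinearMap :=
    (isLocalizedModule_iff_isBaseChange (Submonoid.powers r) L _).1 hd.isLocalizedModule
  have hbij₁ : Function.Bijective χ := by
    rw [show (χ : L ⊗[R] S → L ⊗[R] B) = hbc.equiv from funext fun z => by
      induction z with
      | zero => simp
      | tmul s m => simp [χ, Algebra.smul_def, IsBaseChange.equiv_tmul]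
      | add x y hx hy => simp only [map_add, hx, hy]]
    exact hbc.equiv.bijective
  let e' := AlgEquiv.ofBijective ψ hbij
  let e₁ := AlgEquiv.ofBijective χ hbij₁
  have h1 : Algebra.FinitePresentation R' (R' ⊗[R] S) := Algebra.FinitePresentation.equiv e'.symm
  haveI i2 : Algebra.FinitePresentation (Localization.Away r) (Localization.Away r ⊗[R] S) := by
    let el : Localization.Away r ≃ₐ[R] L := IsLocalization.algEquiv (Submonoid.powers r) _ _
    let eL : Localization.Away r ⊗[R] B ≃ₐ[R] L ⊗[R] B := Algebra.TensorProduct.congr el AlgEquiv.refl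
    let e : Localization.Away r ⊗[R] S →ₐ[R] Localization.Away r ⊗[R] B :=
      eL.symm.toAlgHom.comp ((e₁.toAlgHom.restrictScalars R).comp (Algebra.TensorProduct.congr el AlgEquiv.refl).toAlgHom)
    have he : Function.Bijective e :=
      eL.symm.bijective.comp (e₁.bijective.comp (Algebra.TensorProduct.congr el AlgEquiv.refl).bijective)
    let E : Localization.Away r ⊗[R] S →ₐ[Localization.Away r] Localization.Away r ⊗[R] B :=
      e.extendScalarsOfIsLocalization (Localization.Away r) (Submonoid.powers r)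
    exact Algebra.FinitePresentation.equiv (AlgEquiv.ofBijective E he).symm
  have h3 : Module.Flat R S := by
    haveI : Module.Flat R' (R' ⊗[R] S) := Module.Flat.of_linearEquiv e'.toLinearEquiv
    haveI : Module.Flat R L := IsLocalization.flat L (Submonoid.powers r)
    haveI : Module.Flat R (L ⊗[R] B) := inferInstance
    haveI : Module.Flat R (L ⊗[R] S) := Module.Flat.of_linearEquiv (e₁.restrictScalars R).toLinearEquiv
    let el : Localization.Away r ≃ₐ[R] L := IsLocalization.algEquiv (Submonoid.powers r) _ _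
    haveI : Module.Flat R (Localization.Away r ⊗[R] S) :=
      Module.Flat.of_linearEquiv (LinearEquiv.rTensor S el.toLinearEquiv)
    exact Groth.EtaleAlgebra.Glue.flat_of_local hG
  haveI := h1
  haveI : Module.Flat R (Localization.Away r ⊗[R] S) := inferInstance
  refine ⟨S, inferInstance, inferInstance, e', e₁.restrictScalars R,
    Groth.EtaleAlgebra.Glue.finitePresentation_algebra_of_local hG S, h3, fun a => ?_⟩
  simp only [e', e₁, ψ, χ, AlgEquiv.coe_ofBijective, AlgEquiv.restrictScalars_apply, lift_tmul, map_one, one_mul]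
  exact a.2

end loc

end Groth.Misc8.GSGlue
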