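import Mathlib.AlgebraicGeometry.Pullbacks
import Mathlib.AlgebraicGeometry.AffineScheme
import Mathlib.CategoryTheory.Monoidal.Cartesian.Over
import Mathlib.CategoryTheory.Monoidal.Cartesian.Grp

/-!
# Affine points over a base ring
-/

set_option autoImplicit false
set_option linter.style.haveILetI false

universe u

open CategoryTheory Limits MonoidalCategory CartesianMonoidalCategory AlgebraicGeometry
open scoped TensorProduct

namespace Groth.Misc8.GSGlue

variable {R : Type u} [CommRing R]

/-- An algebra as an object over the base. -/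
noncomputable abbrev E (C : Type u) [CommRing C] [Algebra R C] : Over (Spec (CommRingCat.of R)) :=
  Over.mk (Spec.map (CommRingCat.ofHom (algebraMap R C)))

/-- An algebra map as a morphism over the base. -/
noncomputable def Eh {C D : Type u} [CommRing C] [Algebra R C] [CommRing D] [Algebra R D] (φ : C →ₐ[R] D) :
    E (R := R) D ⟶ E C :=
  Over.homMk (Spec.map (CommRingCat.ofHom φ.toRingHom))
    (by
      show Spec.map (CommRingCat.ofHom φ.toRingHom) ≫ Spec.map (CommRingCat.ofHom (algebraMap R C)) = _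
      rw [← Spec.map_comp, ← CommRingCat.ofHom_comp, show φ.toRingHom.comp (algebraMap R C) = algebraMap R D from φ.comp_algebraMap]
      rfl)

@[simp] theorem Eh_left {C D : Type u} [CommRing C] [Algebra R C] [CommRing D] [Algebra R D] (φ : C →ₐ[R] D) :
    (Eh φ).left = Spec.map (CommRingCat.ofHom φ.toRingHom) := rfl

theorem Eh_id (C : Type u) [CommRing C] [Algebra R C] : Eh (AlgHom.id R C) = 𝟙 (E C) :=
  Over.OverMorphism.ext (Spec.map_id _)

@[reassoc]
theorem Eh_comp {A B C : Type u} [CommRing A] [Algebra R A] [CommRing B] [Algebra R B] [CommRing C] [Algebra R C]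
    (φ : A →ₐ[R] B) (ψ : B →ₐ[R] C) : Eh ψ ≫ Eh φ = Eh (ψ.comp φ) :=
  Over.OverMorphism.ext (by
    rw [Over.comp_left, Eh_left, Eh_left, Eh_left, ← Spec.map_comp, ← CommRingCat.ofHom_comp]
    rfl)

theorem Eh_injective {C D : Type u} [CommRing C] [Algebra R C] [CommRing D] [Algebra R D] {φ ψ : C →ₐ[R] D}
    (h : Eh φ = Eh ψ) : φ = ψ := by
  have h1 := Spec.map_injective (congrArg CommaMorphism.left h)
  exact AlgHom.ext fun x => congr($(congrArg CommRingCat.Hom.hom h1) x)

theorem Eh_surjective {C D : Type u} [CommRing C] [Algebra R C] [CommRing D] [Algebra R D]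
    (f : E (R := R) D ⟶ E C) : ∃ φ : C →ₐ[R] D, Eh φ = f := by
  let ψ : CommRingCat.of C ⟶ CommRingCat.of D := Spec.preimage f.left
  have h : Spec.map ψ = f.left := Spec.map_preimage _
  have hw : CommRingCat.ofHom (algebraMap R C) ≫ ψ = CommRingCat.ofHom (algebraMap R D) := by
    apply Spec.map_injective
    rw [Spec.map_comp, h]
    exact Over.w f
  exact ⟨{ ψ.hom with commutes' := fun r => congr($(congrArg CommRingCat.Hom.hom hw) r) }, Over.OverMorphism.ext h⟩

instance {C D : Type u} [CommRing C] [Algebra R C] [CommRing D] [Algebra R D] (φ : C ≃ₐ[R] D) :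
    IsIso (Eh φ.toAlgHom) :=
  ⟨Eh φ.symm.toAlgHom, by rw [Eh_comp]; convert Eh_id (R := R) D; ext x; simp,
    by rw [Eh_comp]; convert Eh_id (R := R) C; ext x; simp⟩

/-- A product of affines is affine. -/
noncomputable def tensorE (C D : Type u) [CommRing C] [Algebra R C] [CommRing D] [Algebra R D] :
    E (R := R) (C ⊗[R] D) ≅ E C ⊗ E D :=
  Over.isoMk (pullbackSpecIso R C D).symm (by
    show (pullbackSpecIso R C D).inv ≫ pullback.fst _ _ ≫ Spec.map (CommRingCat.ofHom (algebraMap R C)) = _
    rw [pullbackSpecIso_inv_fst_assoc, ← Spec.map_comp, ← CommRingCat.ofHom_comp]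
    rfl)

@[reassoc]
theorem tensorE_fst (C D : Type u) [CommRing C] [Algebra R C] [CommRing D] [Algebra R D] :
    (tensorE (R := R) C D).hom ≫ fst _ _ = Eh Algebra.TensorProduct.includeLeft :=
  Over.OverMorphism.ext (by
    show (pullbackSpecIso R C D).inv ≫ pullback.fst _ _ = _
    rw [pullbackSpecIso_inv_fst]
    rfl)

@[reassoc]
theorem tensorE_snd (C D : Type u) [CommRing C] [Algebra R C] [CommRing D] [Algebra R D] :
    (tensorE (R := R) C D).hom ≫ snd _ _ = Eh Algebra.TensorProduct.includeRight :=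
  Over.OverMorphism.ext (by
    show (pullbackSpecIso R C D).inv ≫ pullback.snd _ _ = _
    rw [pullbackSpecIso_inv_snd]
    rfl)

theorem lift_Eh {C D T : Type u} [CommRing C] [Algebra R C] [CommRing D] [Algebra R D] [CommRing T] [Algebra R T]
    (φ : C →ₐ[R] T) (ψ : D →ₐ[R] T) :
    lift (Eh φ) (Eh ψ) = Eh (Algebra.TensorProduct.lift φ ψ (fun _ _ => Commute.all _ _)) ≫ (tensorE C D).hom := by
  apply CartesianMonoidalCategory.hom_ext
  · rw [lift_fst, Category.assoc, tensorE_fst, Eh_comp, Algebra.TensorProduct.lift_comp_includeLeft]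
  · rw [lift_snd, Category.assoc, tensorE_snd, Eh_comp]
    congr 1
    ext d
    simp

end Groth.Misc8.GSGlue
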