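import Groth.Prelude.Def_NonAbH2
import Groth.Agent.Misc8.GSGlueAlg
import Groth.Agent.Misc8.GSPoints
import Mathlib.AlgebraicGeometry.Morphisms.Flat
import Mathlib.AlgebraicGeometry.Morphisms.FinitePresentation
import Mathlib.AlgebraicGeometry.Sites.Fpqc

/-!
# The torsor glued from two trivial ones
-/

set_option autoImplicit false
set_option linter.style.haveILetI false

universe u

open CategoryTheory Limits MonoidalCategory CartesianMonoidalCategory AlgebraicGeometry MonObj
open scoped TensorProduct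
open Algebra.TensorProduct (includeLeft includeRight)

namespace Groth.Misc8.GSGlue

variable {R : Type u} [CommRing R] [IsDomain R] {R' L : Type u} [CommRing R'] [CommRing L]
  [Algebra R R'] [Algebra R L] {r : R} [IsLocalization.Away r L]

variable (R' L) in
/-- The constants `R' ⊗ L` inside `R' ⊗ (L ⊗ C)`. -/
noncomputable def wC (C : Type u) [CommRing C] [Algebra R C] : R' ⊗[R] L →ₐ[R] R' ⊗[R] (L ⊗[R] C) :=
  Algebra.TensorProduct.map (AlgHom.id R R') includeLeft

include r in
theorem subsingleton_algHom {D : Type u} [CommRing D] [Algebra R D] (φ ψ : L →ₐ[R] D) : φ = ψ :=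
  IsLocalization.algHom_ext (Submonoid.powers r) (by ext)

section points

variable {G : Over (Spec (CommRingCat.of R))} [GrpObj G]

include r in
/-- Points of an affine group with values in a flat algebra are determined after inverting `r`. -/
theorem point_ext (hr : r ≠ 0) {B : Type u} [CommRing B] [Algebra R B] (eG : E B ≅ G)
    {C : Type u} [CommRing C] [Algebra R C] [Module.Flat R C] {h k : E C ⟶ G}
    (e : Eh (includeRight : C →ₐ[R] L ⊗[R] C) ≫ h = Eh (includeRight : C →ₐ[R] L ⊗[R] C) ≫ k) : h = k := by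
  obtain ⟨a, ha⟩ := Eh_surjective (h ≫ eG.inv)
  obtain ⟨b, hb⟩ := Eh_surjective (k ≫ eG.inv)
  have : Eh ((includeRight : C →ₐ[R] L ⊗[R] C).comp a) = Eh ((includeRight : C →ₐ[R] L ⊗[R] C).comp b) := by
    rw [← Eh_comp, ← Eh_comp, ha, hb, ← Category.assoc, e, Category.assoc]
  have hab : a = b := algHom_ext (L := L) hr (Eh_injective this)
  rw [← cancel_mono eG.inv, ← ha, ← hb, hab]

end points

/-- The decomposition of points, from the Grothendieck–Serre property. -/
theorem exists_decomposition (hr : r ≠ 0) (hP : Pair R' r) {G : Over (Spec (CommRingCat.of R))} [GrpObj G]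
    (B : Type u) [CommRing B] [Algebra R B] [Algebra.FinitePresentation R B] [Module.Flat R B] (eG : E B ≅ G)
    (K : Type u) [CommRing K] [Algebra R K] (κ : L →ₐ[R] K)
    (hGS : ∀ (X : Over (Spec (CommRingCat.of R))) (a : AlgGrp.Action G X),
      NonAbH1.IsTorsorFor Scheme.fppfPrecoverage a →
      NonAbH1.HasSectionOver X (Spec.map (CommRingCat.ofHom (algebraMap R K))) →
      NonAbH1.HasSectionOver X (𝟙 (Spec (CommRingCat.of R))))
    (g : E (R' ⊗[R] L) ⟶ G) :
    ∃ (g₁ : E L ⟶ G) (g₂ : E R' ⟶ G),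
      g = (Eh (includeLeft : R' →ₐ[R] R' ⊗[R] L) ≫ g₂) * (Eh (includeRight : L →ₐ[R] R' ⊗[R] L) ≫ g₁) := by
  haveI := hP.flat
  let u := eG.hom
  -- constants and the universal point over `R' ⊗ (L ⊗ B)`
  let γ : ∀ (C : Type u) [CommRing C] [Algebra R C], E (R' ⊗[R] (L ⊗[R] C)) ⟶ G :=
    fun C _ _ => Eh (wC R' L C) ≫ g
  let inclB : B →ₐ[R] R' ⊗[R] (L ⊗[R] B) := (iL R' L B).comp includeRight
  let uQ : E (R' ⊗[R] (L ⊗[R] B)) ⟶ G := Eh inclB ≫ u
  have hpt : ∀ (h : E (R' ⊗[R] (L ⊗[R] B)) ⟶ G), ∃ t : B →ₐ[R] R' ⊗[R] (L ⊗[R] B), Eh t ≫ u = h :=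
    fun h => by
      obtain ⟨t, ht⟩ := Eh_surjective (h ≫ eG.inv)
      exact ⟨t, by rw [ht, Category.assoc, Iso.inv_hom_id, Category.comp_id]⟩
  obtain ⟨t₀, ht₀⟩ := hpt (uQ * (γ B)⁻¹)
  obtain ⟨s₀, hs₀⟩ := hpt (uQ * γ B)
  let mk : (B →ₐ[R] R' ⊗[R] (L ⊗[R] B)) → (R' ⊗[R] (L ⊗[R] B) →ₐ[R'] R' ⊗[R] (L ⊗[R] B)) := fun t =>
    Algebra.TensorProduct.lift (Algebra.ofId R' _)
      (Algebra.TensorProduct.lift ((iL R' L B).comp includeLeft) t (fun _ _ => Commute.all _ _))
      (fun _ _ => Commute.all _ _)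
  have mk_incl : ∀ t, ((mk t).restrictScalars R).comp inclB = t := fun t => by
    ext b
    simp [mk, inclB, ← Algebra.TensorProduct.one_def, Algebra.TensorProduct.includeLeft_apply, Algebra.TensorProduct.includeRight_apply, Algebra.TensorProduct.lift_tmul]
  have mk_w : ∀ t, ((mk t).restrictScalars R).comp (wC R' L B) = wC R' L B := fun t => by
    ext x <;> simp [mk, wC, ← Algebra.TensorProduct.one_def, Algebra.TensorProduct.includeLeft_apply, Algebra.TensorProduct.includeRight_apply, Algebra.TensorProduct.lift_tmul]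
  have mk_pt : ∀ t, Eh ((mk t).restrictScalars R) ≫ uQ = Eh t ≫ u ∧ Eh ((mk t).restrictScalars R) ≫ γ B = γ B :=
    fun t => ⟨by rw [← Category.assoc, Eh_comp, mk_incl], by rw [← Category.assoc, Eh_comp, mk_w]⟩
  have hB_ext : ∀ φ ψ : R' ⊗[R] (L ⊗[R] B) →ₐ[R'] R' ⊗[R] (L ⊗[R] B),
      Eh ((φ.restrictScalars R).comp inclB) ≫ u = Eh ((ψ.restrictScalars R).comp inclB) ≫ u → φ = ψ := by
    intro φ ψ h
    rw [cancel_mono u] at h
    have h' := Eh_injective h
    refine Algebra.TensorProduct.ext (Subsingleton.elim _ _) (Algebra.TensorProduct.ext (subsingleton_algHom (r := r) _ _) ?_)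
    exact AlgHom.ext fun b => AlgHom.congr_fun h' b
  let τ : R' ⊗[R] (L ⊗[R] B) ≃ₐ[R'] R' ⊗[R] (L ⊗[R] B) :=
    AlgEquiv.ofAlgHom (mk t₀) (mk s₀)
      (hB_ext _ _ (by
        show Eh ((((mk t₀).restrictScalars R).comp ((mk s₀).restrictScalars R)).comp inclB) ≫ u = Eh inclB ≫ u
        rw [AlgHom.comp_assoc, mk_incl, ← Eh_comp, Category.assoc, hs₀, MonObj.comp_mul, (mk_pt t₀).1, (mk_pt t₀).2,
          ht₀, inv_mul_cancel_right]))
      (hB_ext _ _ (by
        show Eh ((((mk s₀).restrictScalars R).comp ((mk t₀).restrictScalars R)).comp inclB) ≫ u = Eh inclB ≫ u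
        rw [AlgHom.comp_assoc, mk_incl, ← Eh_comp, Category.assoc, ht₀, MonObj.comp_mul, GrpObj.comp_inv,
          (mk_pt s₀).1, (mk_pt s₀).2, hs₀, mul_inv_cancel_right]))
  obtain ⟨A, _, _, ψ', ψ₁, _, _, hA⟩ := exists_algebra (R' := R') (L := L) hr hP B τ
  -- the universal point of `A`
  let u'A : E (R' ⊗[R] A) ⟶ G := Eh ((ψ'.symm.toAlgHom.restrictScalars R).comp includeRight) ≫ u
  let u₁A : E (L ⊗[R] A) ⟶ G := Eh (ψ₁.symm.toAlgHom.comp includeRight) ≫ u
  let x' : ∀ {C : Type u} [CommRing C] [Algebra R C], (A →ₐ[R] C) → (E (R' ⊗[R] C) ⟶ G) := fun {C} _ _ φ =>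
    Eh (Algebra.TensorProduct.map (AlgHom.id R R') φ) ≫ u'A
  let x₁ : ∀ {C : Type u} [CommRing C] [Algebra R C], (A →ₐ[R] C) → (E (L ⊗[R] C) ⟶ G) := fun {C} _ _ φ =>
    Eh (Algebra.TensorProduct.map (AlgHom.id R L) φ) ≫ u₁A
  let res' : ∀ (C : Type u) [CommRing C] [Algebra R C], E (R' ⊗[R] (L ⊗[R] C)) ⟶ E (R' ⊗[R] C) :=
    fun C _ _ => Eh ((iP R' L C).restrictScalars R)
  let res₁ : ∀ (C : Type u) [CommRing C] [Algebra R C], E (R' ⊗[R] (L ⊗[R] C)) ⟶ E (L ⊗[R] C) :=
    fun C _ _ => Eh (iL R' L C)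
  -- compatibility over `A`
  have hcA : res₁ A ≫ u₁A = (res' A ≫ u'A) * γ A := by
    let Ψ : R' ⊗[R] (L ⊗[R] A) ≃ₐ[R] R' ⊗[R] (L ⊗[R] B) := Algebra.TensorProduct.congr AlgEquiv.refl ψ₁
    rw [← cancel_epi (Eh Ψ.toAlgHom)]
    have e1 : Eh Ψ.toAlgHom ≫ res₁ A ≫ u₁A = uQ := by
      simp only [res₁, u₁A, uQ, inclB, ← Category.assoc, Eh_comp]
      congr 2
      ext b
      simp [Ψ]
    have e2 : ∀ z, Ψ (iP R' L A z) = τ (iP R' L B (ψ' z)) := fun z => by
      induction z with
      | zero => simp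
      | tmul s a =>
        have : s ⊗ₜ[R] a = s • ((1 : R') ⊗ₜ[R] a) := by rw [TensorProduct.smul_tmul', smul_eq_mul, _root_.mul_one]
        conv_rhs => rw [this, map_smul, map_smul, map_smul, hA]
        simp [Ψ, TensorProduct.smul_tmul']
      | add x y hx hy => simp only [map_add, hx, hy]
    have e3 : Eh Ψ.toAlgHom ≫ res' A ≫ u'A = uQ * (γ B)⁻¹ := by
      rw [← ht₀]
      simp only [res', u'A, ← Category.assoc, Eh_comp]
      congr 2
      ext b
      show Ψ (iP R' L A (ψ'.symm (1 ⊗ₜ b))) = t₀ b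
      rw [e2, AlgEquiv.apply_symm_apply, ← AlgHom.congr_fun (mk_incl t₀) b]
      rfl
    have e4 : Eh Ψ.toAlgHom ≫ γ A = γ B := by
      simp only [γ, ← Category.assoc, Eh_comp]
      congr 2
      refine Algebra.TensorProduct.ext ?_ ?_
      · ext x; simp [Ψ, wC, ← Algebra.TensorProduct.one_def, Algebra.TensorProduct.includeLeft_apply, Algebra.TensorProduct.includeRight_apply, Algebra.TensorProduct.lift_tmul]
      · have := subsingleton_algHom (r := r) (ψ₁.toAlgHom.comp includeLeft) (includeLeft : L →ₐ[R] L ⊗[R] B)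
        ext l
        have := AlgHom.congr_fun this l
        simp only [AlgHom.comp_apply, Algebra.TensorProduct.includeLeft_apply] at this
        simp [Ψ, wC, this, ← Algebra.TensorProduct.one_def, Algebra.TensorProduct.includeLeft_apply, Algebra.TensorProduct.includeRight_apply, Algebra.TensorProduct.lift_tmul]
    rw [e1, MonObj.comp_mul, e3, e4, inv_mul_cancel_right]
  have nat_sq : ∀ {C : Type u} [CommRing C] [Algebra R C] (φ : A →ₐ[R] C),
      let Φ := Algebra.TensorProduct.map (AlgHom.id R R') (Algebra.TensorProduct.map (AlgHom.id R L) φ)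
      Eh Φ ≫ res₁ A = res₁ C ≫ Eh (Algebra.TensorProduct.map (AlgHom.id R L) φ) ∧
      Eh Φ ≫ res' A = res' C ≫ Eh (Algebra.TensorProduct.map (AlgHom.id R R') φ) ∧ Eh Φ ≫ γ A = γ C := by
    intro C _ _ φ
    refine ⟨?_, ?_, ?_⟩
    · simp only [res₁, Eh_comp]; congr 1; all_goals ext x <;> simp [iL]
    · simp only [res', Eh_comp]; congr 1; ext x <;> simp
    · simp only [γ, ← Category.assoc, Eh_comp]; congr 2; ext x <;> simp [wC, ← Algebra.TensorProduct.one_def, Algebra.TensorProduct.includeLeft_apply, Algebra.TensorProduct.includeRight_apply, Algebra.TensorProduct.lift_tmul]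
  have hcompat : ∀ {C : Type u} [CommRing C] [Algebra R C] (φ : A →ₐ[R] C),
      res₁ C ≫ x₁ φ = (res' C ≫ x' φ) * γ C := by
    intro C _ _ φ
    obtain ⟨n1, n2, n3⟩ := nat_sq φ
    simp only [x₁, x', ← Category.assoc, ← n1, ← n2, ← n3]
    simp only [Category.assoc, ← MonObj.comp_mul, hcA]
  have hext : ∀ {C : Type u} [CommRing C] [Algebra R C] [Module.Flat R C] (φ φ' : A →ₐ[R] C),
      x₁ φ = x₁ φ' → φ = φ' := by
    intro C _ _ _ φ φ' h
    simp only [x₁, u₁A, ← Category.assoc, Eh_comp, cancel_mono] at h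
    have h1 := Eh_injective h
    have h2 : (Algebra.TensorProduct.map (AlgHom.id R L) φ).comp ψ₁.symm.toAlgHom =
        (Algebra.TensorProduct.map (AlgHom.id R L) φ').comp ψ₁.symm.toAlgHom :=
      Algebra.TensorProduct.ext (subsingleton_algHom (r := r) _ _) (AlgHom.ext fun b => AlgHom.congr_fun h1 b)
    refine algHom_ext (L := L) hr (AlgHom.ext fun a => ?_)
    have h3 := AlgHom.congr_fun h2 (ψ₁ ((1 : L) ⊗ₜ a))
    simpa using h3
  have hexists : ∀ {C : Type u} [CommRing C] [Algebra R C] [Module.Flat R C] (y' : E (R' ⊗[R] C) ⟶ G)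
      (y₁ : E (L ⊗[R] C) ⟶ G), res₁ C ≫ y₁ = (res' C ≫ y') * γ C →
      ∃ φ : A →ₐ[R] C, x' φ = y' ∧ x₁ φ = y₁ := by
    intro C _ _ _ y' y₁ hy
    obtain ⟨b', hb'⟩ := Eh_surjective (y' ≫ eG.inv)
    obtain ⟨b₁, hb₁⟩ := Eh_surjective (y₁ ≫ eG.inv)
    have hb'u : Eh b' ≫ u = y' := by rw [hb', Category.assoc, Iso.inv_hom_id, Category.comp_id]
    have hb₁u : Eh b₁ ≫ u = y₁ := by rw [hb₁, Category.assoc, Iso.inv_hom_id, Category.comp_id]
    let a' : R' ⊗[R] B →ₐ[R'] R' ⊗[R] C :=
      Algebra.TensorProduct.lift (Algebra.ofId R' _) b' (fun _ _ => Commute.all _ _)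
    let a₁ : L ⊗[R] B →ₐ[R] L ⊗[R] C := Algebra.TensorProduct.lift includeLeft b₁ (fun _ _ => Commute.all _ _)
    let Φ : R' ⊗[R] (L ⊗[R] B) →ₐ[R'] R' ⊗[R] (L ⊗[R] C) := Algebra.TensorProduct.map (AlgHom.id R' R') a₁
    have hΦ : (Φ.comp (τ.toAlgHom.comp (iP R' L B))) = (iP R' L C).comp a' := by
      refine Algebra.TensorProduct.ext (Subsingleton.elim _ _) ?_
      have e : Eh ((Φ.restrictScalars R).comp t₀) ≫ u =
          Eh (((iP (R := R) R' L C).restrictScalars R).comp b') ≫ u := by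
        rw [← Eh_comp, ← Eh_comp, Category.assoc, Category.assoc, ht₀, hb'u, MonObj.comp_mul, GrpObj.comp_inv,
          mul_inv_eq_iff_eq_mul]
        have e1 : Eh (Φ.restrictScalars R) ≫ uQ = res₁ C ≫ y₁ := by
          rw [← hb₁u]
          simp only [uQ, res₁, inclB, ← Category.assoc, Eh_comp]
          congr 2
          ext b
          simp [Φ, a₁, iL, ← Algebra.TensorProduct.one_def, Algebra.TensorProduct.includeLeft_apply, Algebra.TensorProduct.includeRight_apply, Algebra.TensorProduct.lift_tmul]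
        have e2 : Eh (Φ.restrictScalars R) ≫ γ B = γ C := by
          simp only [γ, ← Category.assoc, Eh_comp]
          congr 2
          ext x <;> simp [Φ, a₁, wC, ← Algebra.TensorProduct.one_def, Algebra.TensorProduct.includeLeft_apply, Algebra.TensorProduct.includeRight_apply, Algebra.TensorProduct.lift_tmul]
        rw [e1, e2]
        exact hy
      rw [cancel_mono u] at e
      refine AlgHom.ext fun b => ?_
      have h := AlgHom.congr_fun (Eh_injective e) b
      rw [← mk_incl t₀] at h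
      simpa [τ, a', inclB, iL, ← Algebra.TensorProduct.one_def] using h
    obtain ⟨φ, h1, h2⟩ := exists_algHom (L := L) hr hP
      (((a'.comp ψ'.toAlgHom).restrictScalars R).comp includeRight) ((a₁.comp ψ₁.toAlgHom).comp includeRight)
      (fun a => by
        have h := AlgHom.congr_fun hΦ (ψ' ((1 : R') ⊗ₜ a))
        simp only [AlgHom.comp_apply, AlgEquiv.toAlgHom_apply] at h
        rw [hA] at h
        simpa [Φ, iL] using h.symm)
    refine ⟨φ, ?_, ?_⟩
    · rw [← hb'u]
      simp only [x', u'A, ← Category.assoc, Eh_comp]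
      congr 2
      have key : Algebra.TensorProduct.map (AlgHom.id R' R') φ = a'.comp ψ'.toAlgHom :=
        Algebra.TensorProduct.ext (Subsingleton.elim _ _) (AlgHom.ext fun a => AlgHom.congr_fun h1 a)
      refine AlgHom.ext fun b => ?_
      have := AlgHom.congr_fun key (ψ'.symm ((1 : R') ⊗ₜ b))
      simp [a', ← Algebra.TensorProduct.one_def, Algebra.TensorProduct.includeLeft_apply, Algebra.TensorProduct.includeRight_apply, Algebra.TensorProduct.lift_tmul] at this ⊢
      exact this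
    · rw [← hb₁u]
      simp only [x₁, u₁A, ← Category.assoc, Eh_comp]
      congr 2
      have key : Algebra.TensorProduct.map (AlgHom.id R L) φ = a₁.comp ψ₁.toAlgHom :=
        Algebra.TensorProduct.ext (subsingleton_algHom (r := r) _ _) (AlgHom.ext fun a => AlgHom.congr_fun h2 a)
      refine AlgHom.ext fun b => ?_
      have := AlgHom.congr_fun key (ψ₁.symm ((1 : L) ⊗ₜ b))
      simpa [a₁, ← Algebra.TensorProduct.one_def, Algebra.TensorProduct.includeLeft_apply, Algebra.TensorProduct.includeRight_apply, Algebra.TensorProduct.lift_tmul] using this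
  -- naturality of the two restrictions of points of `G`
  let p' : ∀ {C : Type u} [CommRing C] [Algebra R C], (E C ⟶ G) → (E (R' ⊗[R] C) ⟶ G) := fun {C} _ _ h =>
    Eh includeRight ≫ h
  let p₁ : ∀ {C : Type u} [CommRing C] [Algebra R C], (E C ⟶ G) → (E (L ⊗[R] C) ⟶ G) := fun {C} _ _ h =>
    Eh includeRight ≫ h
  have hp : ∀ {C : Type u} [CommRing C] [Algebra R C] (h : E C ⟶ G), res' C ≫ p' h = res₁ C ≫ p₁ h := by
    intro C _ _ h
    simp only [p', p₁, res', res₁, ← Category.assoc, Eh_comp]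
    congr 2
  -- the action
  let BA := B ⊗[R] A
  let uB : E BA ⟶ G := Eh (includeLeft : B →ₐ[R] BA) ≫ u
  obtain ⟨co, hco', hco₁⟩ := hexists (C := BA) (p' uB * x' includeRight) (p₁ uB * x₁ includeRight) (by
    rw [MonObj.comp_mul, MonObj.comp_mul, hcompat, hp, _root_.mul_assoc])
  let act : G ⊗ E A ⟶ E A := (eG.inv ▷ E A) ≫ (tensorE B A).inv ≫ Eh co
  have act_pt : ∀ {C : Type u} [CommRing C] [Algebra R C] [Module.Flat R C] (h : E C ⟶ G) (φ : A →ₐ[R] C),
      ∃ φ' : A →ₐ[R] C, lift h (Eh φ) ≫ act = Eh φ' ∧ x₁ φ' = p₁ h * x₁ φ := by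
    intro C _ _ _ h φ
    obtain ⟨β, hβ⟩ := Eh_surjective (h ≫ eG.inv)
    let χ : BA →ₐ[R] C := Algebra.TensorProduct.lift β φ (fun _ _ => Commute.all _ _)
    refine ⟨χ.comp co, ?_, ?_⟩
    · simp only [act]
      rw [lift_whiskerRight_assoc, ← hβ, lift_Eh, Category.assoc, Iso.hom_inv_id_assoc, Eh_comp]
    · have key : x₁ (χ.comp co) = Eh (Algebra.TensorProduct.map (AlgHom.id R L) χ) ≫ x₁ co := by
        simp only [x₁, ← Category.assoc, Eh_comp, ← Algebra.TensorProduct.map_comp, AlgHom.id_comp]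
      rw [key, hco₁, MonObj.comp_mul]
      congr 1
      · have hh : h = Eh β ≫ u := by rw [hβ, Category.assoc, Iso.inv_hom_id, Category.comp_id]
        rw [hh]
        simp only [p₁, uB, ← Category.assoc, Eh_comp]
        congr 2
        ext b
        simp [χ, BA, ← Algebra.TensorProduct.one_def, Algebra.TensorProduct.includeLeft_apply, Algebra.TensorProduct.includeRight_apply, Algebra.TensorProduct.lift_tmul]
      · simp only [x₁, ← Category.assoc, Eh_comp, ← Algebra.TensorProduct.map_comp, AlgHom.id_comp]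
        congr 3
        ext a
        simp [χ, BA, ← Algebra.TensorProduct.one_def, Algebra.TensorProduct.includeLeft_apply, Algebra.TensorProduct.includeRight_apply, Algebra.TensorProduct.lift_tmul]
  let action : AlgGrp.Action G (E A) :=
    { act := act
      one_act := by
        rw [← cancel_epi (λ_ (E A)).inv, Iso.inv_hom_id, show (λ_ (E (R := R) A)).inv = lift (toUnit _) (𝟙 _) from CartesianMonoidalCategory.hom_ext _ _ (toUnit_unique _ _) (by rw [lift_snd, leftUnitor_inv_snd]), lift_whiskerRight_assoc, ← Eh_id]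
        obtain ⟨φ', h1, h2⟩ := act_pt (toUnit _ ≫ η[G]) (AlgHom.id R A)
        rw [h1]
        congr 1
        refine hext _ _ (h2.trans ?_)
        simp only [p₁]
        rw [← Hom.one_def, MonObj.comp_one, _root_.one_mul]
      mul_act := by
        let p : E ((B ⊗[R] B) ⊗[R] A) ⟶ (G ⊗ G) ⊗ E A :=
          (tensorE (B ⊗[R] B) A).hom ≫ ((tensorE B B).hom ▷ E A) ≫ ((eG.hom ⊗ₘ eG.hom) ▷ E A)
        rw [← cancel_epi p]
        obtain ⟨φ, hφ⟩ := Eh_surjective (p ≫ snd _ _)
        have hpl : p = lift (lift (p ≫ fst _ _ ≫ fst _ _) (p ≫ fst _ _ ≫ snd _ _)) (Eh φ) := by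
          apply CartesianMonoidalCategory.hom_ext
          · rw [lift_fst]
            apply CartesianMonoidalCategory.hom_ext <;> simp
          · rw [lift_snd, hφ]
        rw [hpl]
        generalize (p ≫ fst _ _ ≫ fst _ _) = h
        generalize (p ≫ fst _ _ ≫ snd _ _) = k
        rw [lift_whiskerRight_assoc, ← Hom.mul_def, lift_lift_associator_hom_assoc, lift_whiskerLeft_assoc]
        obtain ⟨φ₁, a1, a2⟩ := act_pt (h * k) φ
        obtain ⟨φ₂, b1, b2⟩ := act_pt k φ
        obtain ⟨φ₃, c1, c2⟩ := act_pt h φ₂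
        rw [a1, b1, c1]
        congr 1
        refine hext _ _ ?_
        rw [a2, c2, b2, ← _root_.mul_assoc]
        simp only [p₁, MonObj.comp_mul] }
  -- pseudo-torsor
  let AA := A ⊗[R] A
  let α : A →ₐ[R] AA := includeLeft
  let β : A →ₐ[R] AA := includeRight
  obtain ⟨δ', hδ'⟩ := Eh_surjective ((x' α * (x' β)⁻¹) ≫ eG.inv)
  obtain ⟨δ₁, hδ₁⟩ := Eh_surjective ((x₁ α * (x₁ β)⁻¹) ≫ eG.inv)
  have hδ'u : Eh δ' ≫ u = x' α * (x' β)⁻¹ := by rw [hδ', Category.assoc, Iso.inv_hom_id, Category.comp_id]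
  have hδ₁u : Eh δ₁ ≫ u = x₁ α * (x₁ β)⁻¹ := by rw [hδ₁, Category.assoc, Iso.inv_hom_id, Category.comp_id]
  obtain ⟨δ, hd', hd₁⟩ := exists_algHom (L := L) hr hP δ' δ₁ (fun b => by
    have e : res' AA ≫ Eh δ' ≫ u = res₁ AA ≫ Eh δ₁ ≫ u := by
      rw [hδ'u, hδ₁u, MonObj.comp_mul, MonObj.comp_mul, GrpObj.comp_inv, GrpObj.comp_inv, hcompat, hcompat,
        mul_inv_rev, _root_.mul_assoc, mul_inv_cancel_left]
    simp only [res', res₁, ← Category.assoc, Eh_comp, cancel_mono] at e
    exact AlgHom.congr_fun (Eh_injective e) b)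
  let inv : E A ⊗ E A ⟶ G ⊗ E A := (tensorE A A).inv ≫ lift (Eh δ ≫ u) (Eh β)
  have htorsor : NonAbH1.IsPseudoTorsorSch action := by
    refine ⟨⟨inv, ?_, ?_⟩⟩
    · let p : E (B ⊗[R] A) ⟶ G ⊗ E A := (tensorE B A).hom ≫ (eG.hom ▷ E A)
      rw [← cancel_epi p, Category.comp_id]
      obtain ⟨φ, hφ⟩ := Eh_surjective (p ≫ snd _ _)
      have hpl : p = lift (p ≫ fst _ _) (Eh φ) := by
        apply CartesianMonoidalCategory.hom_ext <;> simp [hφ]
      rw [hpl]
      generalize (p ≫ fst _ _) = h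
      obtain ⟨φ', a1, a2⟩ := act_pt h φ
      have e0 : lift h (Eh φ) ≫ lift act (snd G (E A)) = lift (Eh φ') (Eh φ) := by
        rw [comp_lift, a1, lift_snd]
      show lift h (Eh φ) ≫ lift act (snd G (E A)) ≫ inv = _
      rw [reassoc_of% e0, lift_Eh]
      simp only [inv, Category.assoc, Iso.hom_inv_id_assoc]
      rw [comp_lift]
      congr 1
      · refine point_ext (L := L) (r := r) hr eG ?_
        have e1 : Eh (includeRight : B ⊗[R] A →ₐ[R] L ⊗[R] (B ⊗[R] A)) ≫
            Eh (Algebra.TensorProduct.lift φ' φ (fun _ _ => Commute.all _ _)) ≫ Eh δ ≫ u =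
            Eh (Algebra.TensorProduct.map (AlgHom.id R L) (Algebra.TensorProduct.lift φ' φ (fun _ _ => Commute.all _ _))) ≫
              Eh δ₁ ≫ u := by
          rw [← hd₁]
          simp only [← Category.assoc, Eh_comp]
          congr 2
        rw [e1, hδ₁u, MonObj.comp_mul, GrpObj.comp_inv]
        have e2 : ∀ ω : A →ₐ[R] AA, Eh (Algebra.TensorProduct.map (AlgHom.id R L)
            (Algebra.TensorProduct.lift φ' φ (fun _ _ => Commute.all _ _))) ≫ x₁ ω =
            x₁ ((Algebra.TensorProduct.lift φ' φ (fun _ _ => Commute.all _ _)).comp ω) := fun ω => by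
          simp only [x₁, ← Category.assoc, Eh_comp, ← Algebra.TensorProduct.map_comp, AlgHom.id_comp]
        rw [e2, e2]
        simp only [α, β, Algebra.TensorProduct.lift_comp_includeLeft, a2]
        rw [show (Algebra.TensorProduct.lift φ' φ (fun _ _ => Commute.all _ _)).comp
          (includeRight : A →ₐ[R] AA) = φ from AlgHom.ext fun x => by simp, mul_inv_cancel_right]
      · rw [Eh_comp]
        congr 1
        ext x
        simp [β, AA, ← Algebra.TensorProduct.one_def, Algebra.TensorProduct.includeLeft_apply, Algebra.TensorProduct.includeRight_apply, Algebra.TensorProduct.lift_tmul]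
    · show inv ≫ lift act (snd G (E A)) = 𝟙 _
      simp only [inv]
      rw [Category.assoc, comp_lift, lift_snd, ← cancel_epi (tensorE A A).hom, Iso.hom_inv_id_assoc, Category.comp_id]
      obtain ⟨φ', a1, a2⟩ := act_pt (Eh δ ≫ u) β
      rw [a1]
      have hφ' : φ' = α := hext _ _ (by
        rw [a2]
        simp only [p₁, ← Category.assoc, Eh_comp, hd₁]
        rw [hδ₁u, inv_mul_cancel_right])
      apply CartesianMonoidalCategory.hom_ext
      · rw [lift_fst, tensorE_fst, hφ']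
      · rw [lift_snd, tensorE_snd]
  -- local triviality
  obtain ⟨ε, hε⟩ := Eh_surjective ((η[G] : 𝟙_ _ ⟶ G) |> fun e => toUnit (E R) ≫ e ≫ eG.inv)
  let εL : A →ₐ[R] L :=
    ((Algebra.TensorProduct.lift (AlgHom.id R L) ((Algebra.ofId R L).comp ε) (fun _ _ => Commute.all _ _)).comp
      ψ₁.toAlgHom).comp includeRight
  obtain ⟨q, -⟩ := hP.retract 1
  let εq : A →ₐ[R] R ⧸ Ideal.span {r ^ 1} :=
    ((Algebra.TensorProduct.lift q ((Algebra.ofId R _).comp ε) (fun _ _ => Commute.all _ _)).comp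
      (ψ'.toAlgHom.restrictScalars R)).comp includeRight
  have hflat : Flat (E (R := R) A).hom := by
    show Flat (Spec.map _)
    rw [HasRingHomProperty.Spec_iff (P := @Flat)]
    exact RingHom.flat_algebraMap_iff.mpr inferInstance
  have hfp : LocallyOfFinitePresentation (E (R := R) A).hom := by
    show LocallyOfFinitePresentation (Spec.map _)
    rw [HasRingHomProperty.Spec_iff (P := @LocallyOfFinitePresentation)]
    exact RingHom.finitePresentation_algebraMap.mpr inferInstance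
  have hsurj : Surjective (E (R := R) A).hom := ⟨fun p => by
    have key : ∀ (D : Type u) [CommRing D] [Algebra R D] (φ : A →ₐ[R] D) (P : PrimeSpectrum D),
        PrimeSpectrum.comap (algebraMap R D) P = p → ∃ a, (E (R := R) A).hom.base a = p := fun D _ _ φ P hP => by
      refine ⟨PrimeSpectrum.comap φ.toRingHom P, ?_⟩
      show PrimeSpectrum.comap (algebraMap R A) (PrimeSpectrum.comap φ.toRingHom P) = p
      rw [← PrimeSpectrum.comap_comp_apply]
      rw [show φ.toRingHom.comp (algebraMap R A) = algebraMap R D from φ.comp_algebraMap]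
      exact hP
    by_cases hp : r ∈ PrimeSpectrum.asIdeal (R := R) p
    · obtain ⟨P, hP⟩ : p ∈ Set.range (PrimeSpectrum.comap (algebraMap R (R ⧸ Ideal.span {r ^ 1}))) := by
        rw [Ideal.Quotient.algebraMap_eq, range_comap_of_surjective _ _ Ideal.Quotient.mk_surjective,
          Ideal.mk_ker, pow_one, PrimeSpectrum.zeroLocus_span]
        exact (PrimeSpectrum.mem_zeroLocus _ _).mpr (Set.singleton_subset_iff.mpr hp)
      exact key _ εq P hP
    · obtain ⟨P, hP⟩ : p ∈ Set.range (PrimeSpectrum.comap (algebraMap R L)) := by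
        rw [PrimeSpectrum.localization_away_comap_range L r]
        exact hp
      exact key _ εL P hP⟩
  have hlt : NonAbH1.IsLocallyTrivialFor Scheme.fppfPrecoverage (E (R := R) A) := by
    refine ⟨Presieve.singleton (E (R := R) A).hom, ?_, ?_⟩
    · rw [Scheme.fppfPrecoverage, Scheme.singleton_mem_precoverage_iff]
      exact ⟨hsurj.surj, hflat, hfp⟩
    · rintro S' f ⟨⟩
      exact ⟨𝟙 _, Category.id_comp _⟩
  obtain ⟨s, hs⟩ := hGS (E A) action ⟨htorsor, hlt⟩ ⟨(Eh (κ.comp εL)).left, Over.w (Eh (κ.comp εL))⟩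
  let sO : E R ⟶ E A := Over.homMk s (by
    show s ≫ (E (R := R) A).hom = Spec.map (CommRingCat.ofHom (algebraMap R R))
    rw [hs, Algebra.algebraMap_self]
    exact (Spec.map_id _).symm)
  obtain ⟨φ, -⟩ := Eh_surjective sO
  let jL : L →ₐ[R] L ⊗[R] R := includeLeft
  let ridL : L ⊗[R] R →ₐ[R] L := (Algebra.TensorProduct.rid R R L).toAlgHom
  let ridP : R' ⊗[R] R →ₐ[R] R' := (Algebra.TensorProduct.rid R R R').toAlgHom
  refine ⟨Eh ridL ≫ x₁ φ, (Eh ridP ≫ x' φ)⁻¹, ?_⟩
  let Θ : R' ⊗[R] (L ⊗[R] R) →ₐ[R] R' ⊗[R] L := Algebra.TensorProduct.map (AlgHom.id R R') ridL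
  have h := congrArg (Eh Θ ≫ ·) (hcompat φ)
  simp only [MonObj.comp_mul] at h
  have e1 : Eh Θ ≫ res₁ R = Eh (includeRight : L →ₐ[R] R' ⊗[R] L) ≫ Eh ridL := by
    simp only [res₁, Eh_comp]; congr 1; all_goals ext x <;> simp [Θ, ridL, iL, ← Algebra.TensorProduct.one_def, Algebra.TensorProduct.includeLeft_apply, Algebra.TensorProduct.includeRight_apply, Algebra.TensorProduct.lift_tmul]
  have e2 : Eh Θ ≫ res' R = Eh (includeLeft : R' →ₐ[R] R' ⊗[R] L) ≫ Eh ridP := by
    simp only [res', Eh_comp]; congr 1; ext x <;> simp [Θ, ridP, ridL, ← Algebra.TensorProduct.one_def, Algebra.TensorProduct.includeLeft_apply, Algebra.TensorProduct.includeRight_apply, Algebra.TensorProduct.lift_tmul]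
  have e3 : Eh Θ ≫ γ R = g := by
    simp only [γ, ← Category.assoc, Eh_comp]
    rw [show Θ.comp (wC R' L R) = AlgHom.id R _ by ext x <;> simp [Θ, wC, ridL, ← Algebra.TensorProduct.one_def, Algebra.TensorProduct.includeLeft_apply, Algebra.TensorProduct.includeRight_apply, Algebra.TensorProduct.lift_tmul], Eh_id, Category.id_comp]
  simp only [← Category.assoc, e1, e2] at h
  rw [e3] at h
  simp only [Category.assoc] at h
  rw [GrpObj.comp_inv, h, inv_mul_cancel_left]

end Groth.Misc8.GSGlue
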