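import Groth.Prelude.Def_W4c2conddiscmodels
import Mathlib.Data.Rat.Lemmas
import Mathlib.RingTheory.Coprime.Lemmas
import Mathlib.Algebra.BigOperators.Field
import Mathlib.Tactic

/-! Continuants of Hirzebruch–Jung continued fractions. -/

namespace Groth.Misc8.HJ

open Finset

/-- continuant pair -/
def cont : List ℤ → ℤ × ℤ
  | [] => (1, 0)
  | b :: l => (b * (cont l).1 - (cont l).2, (cont l).1)

theorem cont_props : ∀ L : List ℤ, (∀ x ∈ L, 2 ≤ x) →
    0 ≤ (cont L).2 ∧ (cont L).2 < (cont L).1 ∧ IsCoprime (cont L).1 (cont L).2 ∧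
      HJFrac.hjVal L = ((cont L).1 : ℚ) / (cont L).2
  | [], _ => by simp [cont, HJFrac.hjVal, isCoprime_one_left]
  | b :: L, h => by
      obtain ⟨h1, h2, h3, h4⟩ := cont_props L (fun x hx => h x (List.mem_cons_of_mem _ hx))
      have hb : 2 ≤ b := h b (List.mem_cons_self ..)
      refine ⟨?_, ?_, ?_, ?_⟩
      · simp only [cont]; omega
      · simp only [cont]; nlinarith
      · simp only [cont]
        have := (h3.symm.neg_left).add_mul_right_left b
        simpa [sub_eq_add_neg, add_comm, mul_comm] using this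
      · have hp : ((cont L).1 : ℚ) ≠ 0 := by
          have : (cont L).1 ≠ 0 := by omega
          exact_mod_cast this
        simp only [cont, HJFrac.hjVal, h4, inv_div]
        push_cast
        field_simp

theorem key : ∀ (l : ℕ) (b μ : ℕ → ℤ), (∀ i, i ≤ l + 1 → 0 < μ i) →
    (∀ i, 1 ≤ i → i ≤ l → b i * μ i = μ (i - 1) + μ (i + 1)) →
    let c := cont ((List.range l).map fun i => b (i + 1))
    c.1 * μ 1 - c.2 * μ 0 = μ (l + 1) ∧
      (c.1 : ℚ) / (μ 0 : ℚ) =
        (μ (l + 1) : ℚ) * ∑ i ∈ Finset.range (l + 1), 1 / ((μ i : ℚ) * (μ (i + 1) : ℚ))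
  | 0, b, μ, hpos, _ => by
      have h0 : (μ 0 : ℚ) ≠ 0 := by exact_mod_cast (hpos 0 (by omega)).ne'
      have h1 : (μ 1 : ℚ) ≠ 0 := by exact_mod_cast (hpos 1 (by omega)).ne'
      refine ⟨by simp [cont], ?_⟩
      simp [cont]
      field_simp
  | l + 1, b, μ, hpos, hrec => by
      have ih := key l (fun i => b (i + 1)) (fun i => μ (i + 1)) (fun i hi => hpos _ (by omega))
        (fun i hi hi' => by
          have := hrec (i + 1) (by omega) (by omega)
          have e : i - 1 + 1 = i := by omega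
          simpa [e] using this)
      simp only at ih ⊢
      rw [List.range_succ_eq_map, List.map_cons, List.map_map]
      have e : ((fun i => b (i + 1)) ∘ Nat.succ) = fun i => b (i + 1 + 1) := rfl
      rw [e]
      simp only [cont]
      set c := cont ((List.range l).map fun i => b (i + 1 + 1))
      have hr := hrec 1 le_rfl (by omega)
      simp only [Nat.sub_self] at hr
      refine ⟨?_, ?_⟩
      · linear_combination ih.1 + c.1 * hr
      · rw [Finset.sum_range_succ' , mul_add, ← ih.2]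
        have h0 : (μ 0 : ℚ) ≠ 0 := by exact_mod_cast (hpos 0 (by omega)).ne'
        have h1 : (μ 1 : ℚ) ≠ 0 := by exact_mod_cast (hpos 1 (by omega)).ne'
        have ih1 : (c.1 : ℚ) * (μ 2 : ℚ) - (c.2 : ℚ) * μ 1 = μ (l + 1 + 1) := by exact_mod_cast ih.1
        have hr' : (b 1 : ℚ) * μ 1 = μ 0 + μ 2 := by exact_mod_cast hr
        simp only [zero_add] at *
        push_cast
        field_simp
        linear_combination ih1 + (c.1 : ℚ) * hr'

theorem eq_cont (l : ℕ) (hl : 1 ≤ l) (b : ℕ → ℤ) (hb : ∀ i, 1 ≤ i → i ≤ l → 2 ≤ b i)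
    (n r : ℕ) (hr : 0 < r) (hrn : r < n) (hcop : Nat.Coprime r n)
    (hhj : (n : ℚ) / r = HJFrac.hjVal ((List.range l).map fun i => b (i + 1))) :
    cont ((List.range l).map fun i => b (i + 1)) = ((n : ℤ), (r : ℤ)) := by
  obtain ⟨m, rfl⟩ : ∃ m, l = m + 1 := ⟨l - 1, by omega⟩
  have hL : ∀ x ∈ (List.range (m + 1)).map (fun i => b (i + 1)), 2 ≤ x := by
    intro x hx
    simp only [List.mem_map, List.mem_range] at hx
    obtain ⟨i, hi, rfl⟩ := hx
    exact hb _ (by omega) (by omega)
  obtain ⟨h1, h2, h3, h4⟩ := cont_props _ hL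
  set c := cont ((List.range (m + 1)).map fun i => b (i + 1)) with hc
  have hq : 0 < c.2 := by
    rcases eq_or_lt_of_le h1 with h | h
    · exfalso
      rw [← hhj, ← h] at h4
      have : (0 : ℚ) < (n : ℚ) / r := div_pos (by exact_mod_cast (by omega : 0 < n)) (by exact_mod_cast hr)
      simp at h4
      omega
    · exact h
  rw [← hhj] at h4
  have hcop' : Int.natAbs c.1 |>.Coprime (Int.natAbs c.2) := Int.isCoprime_iff_nat_coprime.mp h3
  have h5 : ((n : ℤ) : ℚ) / ((r : ℤ) : ℚ) = (c.1 : ℚ) / (c.2 : ℚ) := by simpa using h4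
  have := Rat.div_int_inj (a := (n : ℤ)) (b := (r : ℤ)) (c := c.1) (d := c.2) (by omega) hq
    (by simpa using hcop.symm) hcop' h5
  exact Prod.ext this.1.symm this.2.symm

theorem gcd_dvd (l : ℕ) (b μ : ℕ → ℤ) (g : ℤ) (h0 : g ∣ μ 0) (h1 : g ∣ μ 1)
    (hrec : ∀ i, 1 ≤ i → i ≤ l → b i * μ i = μ (i - 1) + μ (i + 1)) :
    ∀ i, i ≤ l + 1 → g ∣ μ i := by
  have h : ∀ i, i ≤ l → g ∣ μ i ∧ g ∣ μ (i + 1) := by
    intro i
    induction i with
    | zero => exact fun _ => ⟨h0, h1⟩
    | succ i ih =>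
      intro hi
      obtain ⟨ha, hb⟩ := ih (by omega)
      refine ⟨hb, ?_⟩
      have := hrec (i + 1) (by omega) hi
      have e : μ (i + 1 + 1) = b (i + 1) * μ (i + 1) - μ i := by simp at this; linarith
      rw [e]
      exact dvd_sub (Dvd.dvd.mul_left hb _) ha
  intro i hi
  cases i with
  | zero => exact h0
  | succ i => exact (h i (by omega)).2

end Groth.Misc8.HJ
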