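import Groth.Prelude.Def_HRes
import Groth.Agent.Misc8.ExtNat
import Mathlib.CategoryTheory.Abelian.GrothendieckAxioms.Sheaf
import Mathlib.CategoryTheory.Abelian.GrothendieckCategory.EnoughInjectives

/-! Compatibility of `HRes.pullConst` with identity and composition. -/

namespace Groth.Misc8.HResConst

open CategoryTheory CategoryTheory.Limits AlgebraicGeometry Opposite

universe u

variable (K : Precoverage Scheme.{u}) {S T T' : Scheme.{u}}

theorem pullConst_inv_hom (f : T ⟶ S) (M : AddCommGrpCat.{u + 1}) :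
    toSheafify (QuotSh.J K T) ((Functor.const _).obj M) ≫ (HRes.pullConst K f M).inv.hom =
      Functor.whiskerLeft (Over.map f).op (toSheafify (QuotSh.J K S) ((Functor.const _).obj M)) :=
  (Over.map f).toSheafify_pullbackSheafificationCompatibility AddCommGrpCat.{u + 1}
    (QuotSh.J K T) (QuotSh.J K S) ((Functor.const _).obj M)

theorem toSheafify_nat (M : AddCommGrpCat.{u + 1}) {U V : (Over S)ᵒᵖ} (i : U ⟶ V) :
    (toSheafify (QuotSh.J K S) ((Functor.const _).obj M)).app U ≫
      ((constantSheaf (QuotSh.J K S) AddCommGrpCat.{u + 1}).obj M).obj.map i =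
    (toSheafify (QuotSh.J K S) ((Functor.const _).obj M)).app V :=
  ((toSheafify (QuotSh.J K S) ((Functor.const _).obj M)).naturality i).symm.trans (Category.id_comp _)

theorem pullConst_app (f : T ⟶ S) (M : AddCommGrpCat.{u + 1}) (U : (Over T)ᵒᵖ) :
    (toSheafify (QuotSh.J K T) ((Functor.const _).obj M)).app U ≫ (HRes.pullConst K f M).inv.hom.app U =
      (toSheafify (QuotSh.J K S) ((Functor.const _).obj M)).app ((Over.map f).op.obj U) :=
  congrArg (fun a => a.app U) (pullConst_inv_hom K f M)

theorem hom_ext' {X : Sheaf (QuotSh.J K S) AddCommGrpCat.{u + 1}} (M : AddCommGrpCat.{u + 1})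
    {a b : (constantSheaf (QuotSh.J K S) AddCommGrpCat.{u + 1}).obj M ⟶ X}
    (h : ∀ U, (toSheafify (QuotSh.J K S) ((Functor.const _).obj M)).app U ≫ a.hom.app U =
      (toSheafify (QuotSh.J K S) ((Functor.const _).obj M)).app U ≫ b.hom.app U) : a = b :=
  ObjectProperty.hom_ext _ (sheafify_hom_ext _ _ _ X.property (by ext U : 2; exact h U))

theorem pullConst_id (M : AddCommGrpCat.{u + 1}) :
    (HRes.pullConst K (𝟙 S) M).inv ≫
      (K.toGrothendieck.overMapPullbackId AddCommGrpCat.{u + 1} S).hom.app
        ((constantSheaf (QuotSh.J K S) AddCommGrpCat.{u + 1}).obj M) = 𝟙 _ := by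
  refine hom_ext' K M fun U => ?_
  refine (Category.assoc _ _ _).symm.trans ?_
  refine (congrArg (fun a => a ≫ _) (pullConst_app K (𝟙 S) M U)).trans ?_
  refine (toSheafify_nat K M _).trans ?_
  exact (Category.comp_id _).symm

theorem pullConst_comp (f : T ⟶ S) (g : T' ⟶ T) (M : AddCommGrpCat.{u + 1}) :
    (HRes.pullConst K (g ≫ f) M).inv =
      (HRes.pullConst K g M).inv ≫
        (BigSite.pullBig K g AddCommGrpCat.{u + 1}).map (HRes.pullConst K f M).inv ≫
        (K.toGrothendieck.overMapPullbackComp AddCommGrpCat.{u + 1} g f).hom.app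
          ((constantSheaf (QuotSh.J K S) AddCommGrpCat.{u + 1}).obj M) := by
  refine hom_ext' K M fun U => ?_
  refine (pullConst_app K (g ≫ f) M U).trans ?_
  symm
  refine (Category.assoc _ _ _).symm.trans ?_
  refine (congrArg (fun a => a ≫ _) (pullConst_app K g M U)).trans ?_
  refine (Category.assoc _ _ _).symm.trans ?_
  refine (congrArg (fun a => a ≫ _) (pullConst_app K f M ((Over.map g).op.obj U))).trans ?_
  exact toSheafify_nat K M _

end Groth.Misc8.HResConst
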