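import Groth.Agent.Misc8.HopfOrder
import Groth.Agent.Sga3.SubHopfMap
import Mathlib.RingTheory.HopfAlgebra.TensorProduct
import Mathlib.RingTheory.HopfAlgebra.Quotient
import Mathlib.RingTheory.RootsOfUnity.CyclotomicUnits
import Mathlib.RingTheory.LocalRing.Module
import Mathlib.LinearAlgebra.Lagrange

/-!
Finite flat Hopf algebras over a DVR with generic fibre constant of order `p²`: the sub Hopf algebra of a
character of order `p` and the quotient by it.
-/

set_option autoImplicit false

open TensorProduct Polynomial SekSuwa WithConv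

namespace Groth.Misc8.HopfExt

universe u

variable {R : Type u} [CommRing R] [IsDomain R] [IsDiscreteValuationRing R]
  {H : Type u} [CommRing H] [HopfAlgebra R H] [Module.Finite R H] [Module.Free R H]
  {M : Type} [Group M] [Finite M]
  {p : ℕ} [Fact p.Prime] (ψ : M → (H →ₐ[R] R)) (χ : M → ZMod p) (σ : ZMod p → M) {ζ : R}

noncomputable def Φ : H ⊗[R] H →ₐ[R] (M × M → R) :=
  AlgHom.pi fun mn => Algebra.TensorProduct.lift (ψ mn.1) (ψ mn.2) fun _ _ => Commute.all _ _

theorem Φ_injective (hinj : ∀ h, (∀ m, ψ m h = 0) → h = 0) : Function.Injective (Φ ψ) := by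
  classical
  have := Fintype.ofFinite M
  let Ψ : H →ₗ[R] (M → R) := LinearMap.pi fun m => (ψ m).toLinearMap
  have hΨ : Function.Injective Ψ := (injective_iff_map_eq_zero Ψ).mpr fun h hh => hinj h (congrFun hh)
  have h1 : Function.Injective ((TensorProduct.piScalarRight R R H M).toLinearMap ∘ₗ Ψ.lTensor H) :=
    (TensorProduct.piScalarRight R R H M).injective.comp
      (Module.Flat.lTensor_preserves_injective_linearMap Ψ hΨ)
  refine (injective_iff_map_eq_zero _).mpr fun x hx => (map_eq_zero_iff _ h1).mp (funext fun n => hinj _ fun m => ?_)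
  have : ∀ x, ψ m (((TensorProduct.piScalarRight R R H M).toLinearMap ∘ₗ Ψ.lTensor H) x n) =
      Φ ψ x (m, n) := fun x => by
    induction x using TensorProduct.induction_on with
    | zero => simp
    | tmul a b => simp [Ψ, Φ, mul_comm]
    | add a b ha hb => simp only [map_add, Pi.add_apply, ha, hb]
  rw [this, hx, Pi.zero_apply]

theorem Φ_comul (hconv : ∀ m n, toConv (ψ (m * n)) = toConv (ψ m) * toConv (ψ n)) (m n : M) (h : H) :
    Φ ψ (Coalgebra.comul h) (m, n) = ψ (m * n) h := by
  have h1 := congrArg (fun f : WithConv (H →ₐ[R] R) => f.ofConv h) (hconv m n)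
  simp only [AlgHom.convMul_apply, WithConv.ofConv_toConv] at h1
  rw [h1]
  generalize Coalgebra.comul (R := R) h = z
  induction z using TensorProduct.induction_on with
  | zero => simp
  | tmul a b => simp [Φ]
  | add a b ha hb => simp [ha, hb]

/-- What is known about the coordinate ring. -/
structure Setup : Prop where
  conv : ∀ m n, toConv (ψ (m * n)) = toConv (ψ m) * toConv (ψ n)
  one : ∀ h, ψ 1 h = Coalgebra.counit h
  inj : ∀ h, (∀ m, ψ m h = 0) → h = 0
  gen : ∀ v : M → R, ∃ a : R, a ≠ 0 ∧ ∃ h : H, ∀ m, ψ m h = a * v m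
  χmul : ∀ m n, χ (m * n) = χ m + χ n
  sect : ∀ a, χ (σ a) = a
  prim : IsPrimitiveRoot ζ p

variable {ψ χ σ}

theorem exists_sub [CharP (IsLocalRing.ResidueField R) p] (S : Setup ψ χ σ (ζ := ζ)) :
    ∃ (lam : R) (hd : DivCond lam p) (j : AK R lam p hd →ₐc[R] H), lam ≠ 0 ∧
      (∀ m, lam * ψ m (j AK.t) = ζ ^ (χ m).val - 1) ∧
      aeval (j AK.t) (∏ a : ZMod p, (X - C (ψ (σ a) (j AK.t)))) = 0 ∧
      LinearIndependent (IsLocalRing.ResidueField R)
        (fun i : Fin p => ((1 : IsLocalRing.ResidueField R) ⊗ₜ[R] j AK.t) ^ (i : ℕ)) := by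
  classical
  obtain ⟨hconv, hzero, hinj, hgen, hχmul, hσ, hζ⟩ := S
  have hmul := Φ_comul ψ hconv
  have hχone : χ 1 = 0 := by simpa using hχmul 1 1
  have ht := hgen fun m => ζ ^ (χ m).val
  obtain ⟨a, ha, h, hh⟩ := ht
  have hΦinj := Φ_injective ψ hinj
  have hp : 0 < p := (Fact.out : p.Prime).pos
  have hζval : ∀ m n : M, ζ ^ (χ (m * n)).val = ζ ^ (χ m).val * ζ ^ (χ n).val := fun m n => by
    rw [hχmul, ← pow_add, ZMod.val_add, ← pow_mod_orderOf, ← pow_mod_orderOf ζ ((χ m).val + (χ n).val), ← hζ.eq_orderOf,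
      Nat.mod_mod]
  -- the group-like element
  have hcomul : h ⊗ₜ[R] h = a • Coalgebra.comul (R := R) h := hΦinj <| by
    ext ⟨m, n⟩
    rw [map_smul, Pi.smul_apply, hmul, hh]
    simp [Φ, hh, hζval]
    ring
  have hdvd : ∀ f : H →ₗ[R] R, a ∣ f h := fun f => by
    let F : ℕ → (H →ₗ[R] R) := fun k => k.rec f fun _ g =>
      (LinearMap.mul' R R) ∘ₗ TensorProduct.map f g ∘ₗ Coalgebra.comul
    have hF : ∀ k, a ^ k * F k h = f h ^ (k + 1) := fun k => by
      induction k with
      | zero => simp [F]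
      | succ k ih =>
        have : a * F (k + 1) h = f h * F k h := by
          show a * (LinearMap.mul' R R) (TensorProduct.map f (F k) (Coalgebra.comul h)) = _
          rw [← smul_eq_mul, ← map_smul, ← map_smul, ← hcomul]
          simp
        rw [pow_succ, mul_assoc, this, ← mul_left_comm, ih]
        ring
    exact HopfOrder.dvd_of_pow ha fun k => ⟨F k h, (hF k).symm⟩
  let b := Module.Free.chooseBasis R H
  choose c hc using fun i => hdvd (b.coord i)
  let t : H := ∑ i, c i • b i
  have htψ : ∀ m, ψ m t = ζ ^ (χ m).val := fun m => by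
    have : a • t = h := by
      conv_rhs => rw [← b.sum_repr h]
      simp only [t, Finset.smul_sum, smul_smul, ← hc]
      rfl
    have := congrArg (ψ m) this
    rw [map_smul, hh, smul_eq_mul] at this
    exact mul_left_cancel₀ ha this
  have htcomul : Coalgebra.comul (R := R) t = t ⊗ₜ[R] t := hΦinj <| by
    ext ⟨m, n⟩; rw [hmul]; simp [Φ, htψ, hζval]
  -- maximal power of the uniformiser dividing `t - 1`
  obtain ⟨π, hπ⟩ := IsDiscreteValuationRing.exists_irreducible R
  have hζ1 : ζ - 1 ≠ 0 := sub_ne_zero.mpr (hζ.ne_one (Fact.out : p.Prime).one_lt)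
  obtain ⟨n₀, v, hv⟩ := IsDiscreteValuationRing.eq_unit_mul_pow_irreducible hζ1 hπ
  let Q : ℕ → Prop := fun k => ∃ s : H, π ^ k • s = t - 1
  have hbound : ∀ k, Q k → k ≤ n₀ := fun k ⟨s, hs⟩ => by
    have h1 := congrArg (ψ (σ 1)) hs
    rw [map_smul, map_sub, htψ, map_one, hσ, ZMod.val_one, pow_one, smul_eq_mul, hv] at h1
    refine (pow_dvd_pow_iff hπ.ne_zero hπ.not_isUnit).mp ((IsUnit.dvd_mul_left v.isUnit).mp ⟨_, h1.symm⟩)
  have hex : ∃ k, Q k ∧ ¬ Q (k + 1) := by
    by_contra hne
    push Not at hne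
    have : ∀ k, Q k := fun k => by
      induction k with
      | zero => exact ⟨t - 1, by simp⟩
      | succ k ih => exact hne k ih
    exact absurd (hbound _ (this (n₀ + 1))) (by omega)
  obtain ⟨k, ⟨s, hs⟩, hk⟩ := hex
  set lam := π ^ k with hlamdef
  have hlam : lam ≠ 0 := pow_ne_zero _ hπ.ne_zero
  have hts : t = 1 + lam • s := by rw [hs]; abel
  have hsψ : ∀ m, lam * ψ m s = ζ ^ (χ m).val - 1 := fun m => by
    rw [← htψ, hts]; simp
  have hscomul : Coalgebra.comul (R := R) s = s ⊗ₜ[R] 1 + 1 ⊗ₜ[R] s + lam • (s ⊗ₜ[R] s) := hΦinj <| by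
    ext ⟨m, n⟩
    refine mul_left_cancel₀ hlam ?_
    rw [hmul, hsψ, hζval]
    simp only [Φ, map_add, map_smul, AlgHom.pi_apply, Pi.add_apply, Pi.smul_apply,
      Algebra.TensorProduct.lift_tmul, map_one, smul_eq_mul]
    linear_combination (-1 - lam * ψ n s) * hsψ m + (-ζ ^ (χ m).val) * hsψ n
  have hscounit : Coalgebra.counit (R := R) s = 0 := by
    rw [← hzero]
    refine mul_left_cancel₀ hlam ?_
    rw [hsψ, hχone, ZMod.val_zero, pow_zero, sub_self, mul_zero]
  have htpow : t ^ p = 1 := sub_eq_zero.mp <| hinj _ fun m => by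
    rw [map_sub, map_pow, htψ, map_one, ← pow_mul, mul_comm, pow_mul, hζ.pow_eq_one, one_pow, sub_self]
  -- the polynomial
  let P : R[X] := ∏ m : ZMod p, (X - C (ψ (σ m) s))
  have hP : C (lam ^ p) * P = (1 + C lam * X) ^ p - 1 := by
    have h1 : ((X : R[X]) ^ p - 1) = ∏ m : ZMod p, (X - C (ζ ^ m.val)) := by
      have := X_pow_sub_C_eq_prod (R := R) hζ (α := 1) hp (one_pow p)
      rw [map_one] at this
      rw [this]
      refine (Finset.prod_nbij (fun m : ZMod p => m.val) (fun m _ => by simp [ZMod.val_lt]) ?_ ?_ ?_).symm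
      · exact fun x _ y _ h => ZMod.val_injective p h
      · intro i hi
        exact ⟨(i : ZMod p), by simp, ZMod.val_cast_of_lt (by simpa using hi)⟩
      · intros; simp
    have h2 := congrArg (fun q : R[X] => q.comp (1 + C lam * X)) h1
    simp only [sub_comp, pow_comp, X_comp, one_comp, prod_comp, C_comp] at h2
    rw [h2, map_pow, show (C lam) ^ p = ∏ _m : ZMod p, C lam by simp, ← Finset.prod_mul_distrib]
    refine Finset.prod_congr rfl fun m _ => ?_
    rw [mul_sub, ← map_mul, hsψ, hσ, map_sub, map_one]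
    ring
  have hd : DivCond lam p := ⟨mem_nonZeroDivisors_of_ne_zero hlam, P, hP⟩
  have hPs : aeval s (psiPoly lam p hd) = 0 := hinj _ fun m => by
    rw [← psiPoly_unique hd hP, ← aeval_algHom_apply, Polynomial.coe_aeval_eq_eval, eval_prod]
    refine Finset.prod_eq_zero (Finset.mem_univ (χ m)) ?_
    rw [eval_sub, eval_X, eval_C, sub_eq_zero]
    exact mul_left_cancel₀ hlam (by rw [hsψ, hsψ, hσ])
  let j₀ : AK R lam p hd →ₐ[R] H :=
    (AdjoinRoot.liftAlgHom (psiPoly lam p hd) (Algebra.ofId R H) s (by exact hPs)).comp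
      (SekSuwaRing.equiv hp hd).symm.toAlgHom
  have hjt : j₀ AK.t = s := by
    show AdjoinRoot.liftAlgHom (psiPoly lam p hd) (Algebra.ofId R H) s hPs (SekSuwaRing.ofAK hp hd AK.t) = s
    rw [SekSuwaRing.ofAK_t, AdjoinRoot.liftAlgHom_root]
  have hjinv : j₀ AK.inv = t ^ (p - 1) := by
    rw [SekSuwaRing.inv_eq hp hd, map_pow, map_add, map_one, map_smul, hjt, hts]
  let j : AK R lam p hd →ₐc[R] H := BialgHom.ofAlgHom j₀
    (AK.algHom_ext
      (by show Coalgebra.counit (R := R) (j₀ AK.t) = Coalgebra.counit (R := R) (AK.t : AK R lam p hd)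
          rw [hjt, hscounit, AK.counit_t])
      (by show Bialgebra.counitAlgHom R H (j₀ AK.inv) = Coalgebra.counit (R := R) (AK.inv : AK R lam p hd)
          rw [hjinv, map_pow, AK.counit_inv]
          refine (congrArg (· ^ (p - 1)) ?_).trans (one_pow _)
          show Coalgebra.counit (R := R) t = 1
          rw [← hzero, htψ, hχone, ZMod.val_zero, pow_zero]))
    (AK.algHom_ext
      (by show Algebra.TensorProduct.map j₀ j₀ (Coalgebra.comul (R := R) (AK.t : AK R lam p hd)) =
            Coalgebra.comul (R := R) (j₀ AK.t)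
          rw [hjt, hscomul, AK.comul_t]
          simp [hjt])
      (by show Algebra.TensorProduct.map j₀ j₀ (Coalgebra.comul (R := R) (AK.inv : AK R lam p hd)) =
            Bialgebra.comulAlgHom R H (j₀ AK.inv)
          rw [AK.comul_inv, Algebra.TensorProduct.map_tmul, hjinv, map_pow, Bialgebra.comulAlgHom_apply, htcomul,
            Algebra.TensorProduct.tmul_pow]))
  let κ := IsLocalRing.ResidueField R
  let sκ : κ ⊗[R] H := 1 ⊗ₜ s
  have hres : ∀ {N : Type u} [AddCommMonoid N] [Module R N] [Module κ N] [IsScalarTower R κ N] (r : R) (y : N),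
      IsLocalRing.residue R r • y = r • y := fun r y => by
    rw [← IsLocalRing.ResidueField.algebraMap_eq, algebraMap_smul]
  have hsne : sκ ≠ 0 := fun h0 => hk <| by
    have hcoord : ∀ i, π ∣ b.repr s i := fun i => by
      have h1 : (Algebra.TensorProduct.basis κ b).repr sκ i = 0 := by rw [h0, map_zero]; rfl
      rw [Algebra.TensorProduct.basis_repr_tmul] at h1
      simp at h1
      have h2 : b.repr s i ∈ IsLocalRing.maximalIdeal R := (IsLocalRing.residue_eq_zero_iff _).mp h1
      rwa [hπ.maximalIdeal_eq, Ideal.mem_span_singleton] at h2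
    choose d hd' using hcoord
    refine ⟨∑ i, d i • b i, ?_⟩
    rw [← hs, pow_succ, mul_smul]
    congr 1
    conv_rhs => rw [← b.sum_repr s]
    simp only [Finset.smul_sum, smul_smul, ← hd']
  have hindep : LinearIndependent κ (fun i : Fin p => sκ ^ (i : ℕ)) := by
    refine HopfOrderField.linearIndependent_pow_of_comul p (Bialgebra.comulAlgHom κ (κ ⊗[R] H))
      sκ (IsLocalRing.residue R lam) ?_ hsne ?_
    · simp [sκ, hscomul, hres, TensorProduct.tmul_add, Algebra.TensorProduct.one_def]
      rw [← hres lam (((1 : κ) ⊗ₜ[κ] (1 : κ)) ⊗ₜ[R] (s ⊗ₜ[R] s)), map_smul, hres]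
      simp
    · have := congrArg (Algebra.TensorProduct.includeRight (R := R) (A := κ)) htpow
      rw [hts, map_pow, map_add, map_one, map_smul] at this
      rw [← this]
      congr 2
  refine ⟨lam, hd, j, hlam, fun m => ?_, ?_, ?_⟩
  · show lam * ψ m (j₀ AK.t) = _
    rw [hjt, hsψ]
  · show aeval (j₀ AK.t) (∏ a : ZMod p, (X - C (ψ (σ a) (j₀ AK.t)))) = 0
    rw [hjt]
    show aeval s P = 0
    rw [psiPoly_unique hd hP]
    exact hPs
  · show LinearIndependent κ (fun i : Fin p => ((1 : κ) ⊗ₜ[R] j₀ AK.t) ^ (i : ℕ))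
    rw [hjt]
    exact hindep

theorem finrank_eq_card (hinj : ∀ h, (∀ m, ψ m h = 0) → h = 0)
    (hgen : ∀ v : M → R, ∃ a : R, a ≠ 0 ∧ ∃ h : H, ∀ m, ψ m h = a * v m) : Module.finrank R H = Nat.card M := by
  classical
  have := Fintype.ofFinite M
  let Ψ : H →ₗ[R] (M → R) := LinearMap.pi fun m => (ψ m).toLinearMap
  have hΨ : Function.Injective Ψ := (injective_iff_map_eq_zero Ψ).mpr fun x hx => hinj x (congrFun hx)
  rw [Nat.card_eq_fintype_card]
  refine le_antisymm ?_ ?_
  · simpa using LinearMap.finrank_le_finrank_of_injective hΨ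
  · choose a ha h hh using fun m₀ : M => hgen (Pi.single m₀ 1)
    refine LinearIndependent.fintype_card_le_finrank (b := h) (Fintype.linearIndependent_iff.mpr fun g hg m => ?_)
    have h1 := congrArg (ψ m) hg
    rw [map_sum, map_zero, Finset.sum_eq_single m, map_smul, hh, Pi.single_eq_same, mul_one, smul_eq_mul] at h1
    · exact (mul_eq_zero.mp h1).resolve_right (ha m)
    · intro b _ hb
      rw [map_smul, hh, Pi.single_eq_of_ne (Ne.symm hb), mul_zero, smul_zero]
    · simp

theorem finrank_eq (S : Setup ψ χ σ (ζ := ζ)) : Module.finrank R H = Nat.card M :=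
  finrank_eq_card S.inj S.gen

theorem card_eq (S : Setup ψ χ σ (ζ := ζ)) (a : ZMod p) (hM : Nat.card M = p ^ 2) :
    Nat.card {m : M // χ m = a} = p := by
  classical
  have := Fintype.ofFinite M
  have hχone : χ 1 = 0 := by simpa using S.χmul 1 1
  have hinv : ∀ m, χ m⁻¹ = - χ m := fun m => eq_neg_of_add_eq_zero_left (by rw [← S.χmul, inv_mul_cancel, hχone])
  let e : M ≃ ZMod p × {m : M // χ m = a} :=
    { toFun := fun m => (χ m, ⟨m * (σ (χ m))⁻¹ * σ a, by rw [S.χmul, S.χmul, hinv, S.sect, S.sect]; abel⟩)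
      invFun := fun x => x.2.1 * (σ a)⁻¹ * σ x.1
      left_inv := fun m => by simp
      right_inv := fun x => by
        obtain ⟨c, m, hm⟩ := x
        have : χ (m * (σ a)⁻¹ * σ c) = c := by rw [S.χmul, S.χmul, hinv, hm, S.sect, S.sect]; abel
        ext <;> simp [this] }
  have h1 := Nat.card_congr e
  rw [hM, Nat.card_prod, Nat.card_zmod, pow_two] at h1
  exact (Nat.eq_of_mul_eq_mul_left (Fact.out : p.Prime).pos h1).symm

/-- `H` is free of rank `p` over the sub Hopf algebra. -/
theorem exists_basis [CharP (IsLocalRing.ResidueField R) p] (S : Setup ψ χ σ (ζ := ζ)) (hM : Nat.card M = p ^ 2)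
    {lam : R} {hd : DivCond lam p} (j : AK R lam p hd →ₐc[R] H) (hlam : lam ≠ 0)
    (hjψ : ∀ m, lam * ψ m (j AK.t) = ζ ^ (χ m).val - 1)
    (hP : aeval (j AK.t) (∏ a : ZMod p, (X - C (ψ (σ a) (j AK.t)))) = 0)
    (hindep : LinearIndependent (IsLocalRing.ResidueField R)
        (fun i : Fin p => ((1 : IsLocalRing.ResidueField R) ⊗ₜ[R] j AK.t) ^ (i : ℕ))) :
    ∃ g : Fin p → H, Function.Bijective (fun b : Fin p → AK R lam p hd => ∑ i, j (b i) * g i) := by
  classical
  have := Fintype.ofFinite M
  have hp : 0 < p := (Fact.out : p.Prime).pos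
  set s := j AK.t with hs
  suffices hsurj : ∃ g : Fin p → H, Function.Surjective (fun b : Fin p → AK R lam p hd => ∑ i, j (b i) * g i) by
    obtain ⟨g, hg⟩ := hsurj
    refine ⟨g, ?_, hg⟩
    haveI : Module.Finite R (AK R lam p hd) := Module.Finite.of_basis (SekSuwaRing.basis hp hd)
    haveI : Module.Free R (AK R lam p hd) := Module.Free.of_basis (SekSuwaRing.basis hp hd)
    let L : (Fin p → AK R lam p hd) →ₗ[R] H :=
      { toFun := fun b => ∑ i, j (b i) * g i
        map_add' := fun b c => by simp [add_mul, Finset.sum_add_distrib]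
        map_smul' := fun r b => by simp [Finset.smul_sum] }
    have hr : Module.finrank R (Fin p → AK R lam p hd) = Module.finrank R H := by
      rw [finrank_eq S, hM, Module.finrank_pi_fintype, Finset.sum_const, Finset.card_univ, Fintype.card_fin,
        Module.finrank_eq_card_basis (SekSuwaRing.basis hp hd), Fintype.card_fin, smul_eq_mul, pow_two]
    let e := LinearEquiv.ofFinrankEq H (Fin p → AK R lam p hd) hr.symm
    have h2 := OrzechProperty.injective_of_surjective_endomorphism (e.toLinearMap ∘ₗ L) (e.surjective.comp hg)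
    exact fun x y hxy => h2 (congrArg e hxy)
  let r : ZMod p → R := fun a => ψ (σ a) s
  have hr : ∀ a, lam * r a = ζ ^ a.val - 1 := fun a => by simp only [r, hjψ, S.sect]
  have hψs : ∀ m, ψ m s = r (χ m) := fun m => mul_left_cancel₀ hlam (by rw [hjψ, hr])
  by_cases hA : ∀ a, r a ∈ IsLocalRing.maximalIdeal R
  · -- the sub Hopf algebra is local modulo the maximal ideal
    let κ := IsLocalRing.ResidueField R
    let f : κ ⊗[R] AK R lam p hd →ₐc[κ] κ ⊗[R] H := Bialgebra.TensorProduct.map (BialgHom.id κ κ) j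
    let C : Subalgebra κ (κ ⊗[R] H) := (f : κ ⊗[R] AK R lam p hd →ₐ[κ] κ ⊗[R] H).range
    haveI : Module.FaithfullyFlat C (κ ⊗[R] H) := Sga3.SubHopfFlat.faithfullyFlat_range f
    let sC : C := ⟨(1 : κ) ⊗ₜ[R] s, ⟨(1 : κ) ⊗ₜ[R] AK.t, rfl⟩⟩
    have hnil : ((1 : κ) ⊗ₜ[R] s) ^ p = (0 : κ ⊗[R] H) := by
      have h1 := congrArg (Algebra.TensorProduct.includeRight (R := R) (A := κ)) hP
      rw [map_zero, ← aeval_algHom_apply, map_prod] at h1
      simp only [map_sub, aeval_X, aeval_C] at h1
      rw [← h1, Finset.prod_congr rfl (g := fun _ => (1 : κ) ⊗ₜ[R] s) fun a _ => ?_]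
      · simp
      · rw [show algebraMap R (κ ⊗[R] H) (r a) = algebraMap κ (κ ⊗[R] H) (algebraMap R κ (r a)) from
          IsScalarTower.algebraMap_apply R κ _ _, IsLocalRing.ResidueField.algebraMap_eq,
          (IsLocalRing.residue_eq_zero_iff _).mpr (hA a), map_zero, sub_zero]
        rfl
    have hsC : IsNilpotent sC := ⟨p, Subtype.ext (by rw [Subalgebra.coe_pow, Subalgebra.coe_zero]; exact hnil)⟩
    have hbasis : ∀ i, SekSuwaRing.basis hp hd i = AK.t ^ (i : ℕ) := fun i => by
      simp [SekSuwaRing.basis, SekSuwaRing.equiv, SekSuwaRing.toAK_root]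
    have hspanC : Subalgebra.toSubmodule C ≤ Submodule.span κ (Set.range fun i : Fin p => ((1 : κ) ⊗ₜ[R] s) ^ (i : ℕ)) := by
      rintro _ ⟨x, rfl⟩
      induction x using TensorProduct.induction_on with
      | zero => rw [map_zero]; exact Submodule.zero_mem _
      | tmul c z =>
        rw [show (f : κ ⊗[R] AK R lam p hd →ₐ[κ] κ ⊗[R] H).toRingHom (c ⊗ₜ[R] z) = c ⊗ₜ[R] j z from rfl,
          ← (SekSuwaRing.basis hp hd).sum_repr z, map_sum, TensorProduct.tmul_sum]
        refine Submodule.sum_mem _ fun i _ => ?_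
        have : c ⊗ₜ[R] j ((SekSuwaRing.basis hp hd).repr z i • SekSuwaRing.basis hp hd i) =
            (c * IsLocalRing.residue R ((SekSuwaRing.basis hp hd).repr z i)) • ((1 : κ) ⊗ₜ[R] s) ^ (i : ℕ) := by
          rw [map_smul, hbasis, map_pow, Algebra.TensorProduct.tmul_pow, one_pow,
            TensorProduct.tmul_smul, TensorProduct.smul_tmul', TensorProduct.smul_tmul', smul_eq_mul, mul_one,
            Algebra.smul_def, IsLocalRing.ResidueField.algebraMap_eq, mul_comm]
        rw [this]
        exact Submodule.smul_mem _ _ (Submodule.subset_span ⟨i, rfl⟩)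
      | add x y hx hy => rw [map_add]; exact Submodule.add_mem _ hx hy
    have hspanC' : Subalgebra.toSubmodule C = Submodule.span κ (Set.range fun i : Fin p => ((1 : κ) ⊗ₜ[R] s) ^ (i : ℕ)) :=
      le_antisymm hspanC (Submodule.span_le.mpr (by rintro _ ⟨i, rfl⟩; exact (sC ^ (i : ℕ)).2))
    haveI : IsLocalRing C := by
      haveI : Nontrivial C := ⟨⟨1, 0, fun h => ?_⟩⟩
      · refine IsLocalRing.of_isUnit_or_isUnit_one_sub_self fun x => ?_
        obtain ⟨g, hg⟩ := (Submodule.mem_span_range_iff_exists_fun κ).mp (hspanC x.2)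
        have hx : IsNilpotent (x - algebraMap κ C (g ⟨0, hp⟩)) := by
          have e : x - algebraMap κ C (g ⟨0, hp⟩) = ∑ i ∈ Finset.univ.erase (⟨0, hp⟩ : Fin p), g i • sC ^ (i : ℕ) := by
            rw [Finset.sum_erase_eq_sub (Finset.mem_univ _), pow_zero, ← Algebra.algebraMap_eq_smul_one]
            congr 1
            ext
            simpa [sC] using hg.symm
          rw [e]
          refine isNilpotent_sum fun i hi => ?_
          have : (i : ℕ) ≠ 0 := fun h0 => (Finset.mem_erase.mp hi).1 (Fin.ext h0)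
          exact IsNilpotent.smul (hsC.pow_of_pos this) _
        rcases eq_or_ne (g ⟨0, hp⟩) 0 with h0 | h0
        · rw [h0, map_zero, sub_zero] at hx
          exact Or.inr hx.isUnit_one_sub
        · left
          have := hx.isUnit_add_left_of_commute ((IsUnit.mk0 _ h0).map (algebraMap κ C)) (Commute.all _ _)
          rwa [add_sub_cancel] at this
      · exact hindep.ne_zero ⟨0, hp⟩ (by simpa using congrArg Subtype.val h)
    haveI : Module.Finite C (κ ⊗[R] H) := Module.Finite.of_restrictScalars_finite κ C _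
    haveI : Module.Free C (κ ⊗[R] H) := Module.free_of_flat_of_isLocalRing
    have hC : Module.finrank κ C = p := by
      rw [show Module.finrank κ C = Module.finrank κ (Subalgebra.toSubmodule C) from rfl, hspanC',
        finrank_span_eq_card hindep, Fintype.card_fin]
    have hrk : Module.finrank C (κ ⊗[R] H) = p := by
      have h1 := Module.finrank_mul_finrank κ C (κ ⊗[R] H)
      rw [hC, Module.finrank_baseChange, finrank_eq S, hM, pow_two] at h1
      exact Nat.eq_of_mul_eq_mul_left hp h1
    let bC := Module.finBasisOfFinrankEq C (κ ⊗[R] H) hrk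
    choose g hg using fun i => TensorProduct.mk_surjective R H κ IsLocalRing.residue_surjective (bC i)
    refine ⟨g, ?_⟩
    let L : (Fin p → AK R lam p hd) →ₗ[R] H :=
      { toFun := fun b => ∑ i, j (b i) * g i
        map_add' := fun b c => by simp [add_mul, Finset.sum_add_distrib]
        map_smul' := fun r b => by simp [Finset.smul_sum] }
    show Function.Surjective L
    rw [← LinearMap.range_eq_top, ← IsLocalRing.map_tensorProduct_mk_eq_top, eq_top_iff]
    intro x _
    rw [← bC.sum_repr x]
    refine Submodule.sum_mem _ fun i _ => ?_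
    obtain ⟨z, hz⟩ := (bC.repr x i).2
    rw [Subalgebra.smul_def, smul_eq_mul, ← hz, ← hg i]
    clear hz
    induction z using TensorProduct.induction_on with
    | zero => rw [map_zero, zero_mul]; exact Submodule.zero_mem _
    | add a b ha hb => rw [map_add, add_mul]; exact Submodule.add_mem _ ha hb
    | tmul c a =>
      obtain ⟨c, rfl⟩ := IsLocalRing.residue_surjective c
      refine ⟨c • (j a * g i), ⟨Pi.single i (c • a), ?_⟩, ?_⟩
      · simp only [L, LinearMap.coe_mk, AddHom.coe_mk]
        rw [Finset.sum_eq_single i]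
        · simp
        · intro b _ hb; simp [Pi.single_eq_of_ne hb]
        · simp
      · show (1 : κ) ⊗ₜ[R] (c • (j a * g i)) = (IsLocalRing.residue R c ⊗ₜ[R] j a) * ((1 : κ) ⊗ₜ[R] g i)
        rw [Algebra.TensorProduct.tmul_mul_tmul, mul_one, TensorProduct.tmul_smul, TensorProduct.smul_tmul',
          Algebra.smul_def, mul_one, IsLocalRing.ResidueField.algebraMap_eq]
  · -- the roots are distinct modulo the maximal ideal
    push Not at hA
    obtain ⟨a₀, ha₀⟩ := hA
    have hu₀ : IsUnit (r a₀) := by simpa using ha₀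
    have hassoc : ∀ k : ZMod p, k ≠ 0 → Associated (ζ - 1) (ζ ^ k.val - 1) := fun k hk =>
      S.prim.associated_sub_one_pow_sub_one_of_coprime
        (Nat.Coprime.symm ((Nat.Prime.coprime_iff_not_dvd (Fact.out : p.Prime)).mpr fun hdvd =>
          hk ((ZMod.val_eq_zero k).mp (Nat.eq_zero_of_dvd_of_lt hdvd (ZMod.val_lt k)))))
    have hdiff : ∀ a b, a ≠ b → IsUnit (r a - r b) := fun a b hab => by
      have h1 : Associated (lam * (r a - r b)) (lam * r a₀) := by
        have e : lam * (r a - r b) = ζ ^ b.val * (ζ ^ (a - b).val - 1) := by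
          rw [mul_sub, hr, hr, mul_sub, ← pow_add, mul_one]
          conv_lhs => rw [← add_sub_cancel b a, ZMod.val_add, ← sub_add_sub_cancel' (ζ ^ b.val) 1]
          rw [← pow_mod_orderOf ζ (b.val + (a - b).val), ← S.prim.eq_orderOf]
          simp [add_sub_cancel]
        rw [e, hr]
        have ha₀' : a₀ ≠ 0 := fun h => by
          have := hr a₀
          rw [h, ZMod.val_zero, pow_zero, sub_self] at this
          rw [h] at hu₀
          exact hu₀.ne_zero ((mul_eq_zero.mp this).resolve_left hlam)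
        refine Associated.trans ?_ ((hassoc a₀ ha₀'))
        exact (associated_unit_mul_left _ _ ((S.prim.isUnit hp.ne').pow _)).trans (hassoc _ (sub_ne_zero.mpr hab)).symm
      exact ((h1.of_mul_left (Associated.refl lam) hlam).symm).isUnit hu₀
    let eA : ZMod p → AK R lam p hd := fun a => ∏ b ∈ Finset.univ.erase a,
      ((Ring.inverse (r a - r b)) • (AK.t - algebraMap R (AK R lam p hd) (r b)))
    have heA : ∀ m a, ψ m (j (eA a)) = if χ m = a then 1 else 0 := fun m a => by
      simp only [eA, map_prod, map_smul, map_sub, AlgHomClass.commutes]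
      rw [← hs]
      split_ifs with h
      · refine Finset.prod_eq_one fun b hb => ?_
        rw [hψs, h, Algebra.algebraMap_self_apply, smul_eq_mul,
          Ring.inverse_mul_cancel _ (hdiff a b (Finset.mem_erase.mp hb).1.symm)]
      · refine Finset.prod_eq_zero (i := χ m) (Finset.mem_erase.mpr ⟨h, Finset.mem_univ _⟩) ?_
        rw [hψs, Algebra.algebraMap_self_apply, sub_self, smul_zero]
    have hgen : ∀ a : ZMod p, ∃ g : Fin p → H, ∀ x : H, ∃ c : Fin p → R,
        j (eA a) * x = ∑ i, c i • (j (eA a) * g i) := fun a => by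
      let Pa : H →ₗ[R] ({m : M // χ m = a} → R) := LinearMap.pi fun m => (ψ m.1).toLinearMap
      have hle : Module.finrank R (LinearMap.range Pa) ≤ p := by
        refine (Submodule.finrank_le _).trans ?_
        rw [Module.finrank_fintype_fun_eq_card, ← Nat.card_eq_fintype_card, card_eq S a hM]
      let bP := Module.finBasis R (LinearMap.range Pa)
      choose pre hpre using fun i => (bP i).2
      refine ⟨fun i => if hi : (i : ℕ) < Module.finrank R (LinearMap.range Pa) then pre ⟨i, hi⟩ else 0, fun x => ?_⟩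
      refine ⟨fun i => if hi : (i : ℕ) < Module.finrank R (LinearMap.range Pa) then bP.repr ⟨Pa x, x, rfl⟩ ⟨i, hi⟩ else 0, ?_⟩
      refine sub_eq_zero.mp (S.inj _ fun m => ?_)
      rw [map_sub, map_mul, heA, map_sum]
      simp only [map_smul, map_mul, heA]
      split_ifs with h
      · rw [sub_eq_zero, one_mul]
        have h1 := congrArg (fun y : LinearMap.range Pa => y.1 ⟨m, h⟩) (bP.sum_repr ⟨Pa x, x, rfl⟩)
        simp only [Submodule.coe_sum, Finset.sum_apply, SetLike.val_smul, Pi.smul_apply] at h1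
        refine (h1.symm.trans ?_)
        refine Finset.sum_of_injOn (Fin.castLE hle) (Fin.castLE_injective _).injOn (fun i _ => Finset.mem_univ _) ?_ ?_
        · intro i _ hi
          have : ¬ (i : ℕ) < Module.finrank R (LinearMap.range Pa) := fun hlt => hi ⟨⟨i, hlt⟩, by simp, by ext; simp⟩
          simp [this]
        · intro i _
          have hi : ((Fin.castLE hle i : Fin p) : ℕ) < Module.finrank R (LinearMap.range Pa) := i.2
          simp only [dif_pos hi, one_mul]
          rw [← hpre i]
          rfl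
      · simp
    choose G hG using hgen
    refine ⟨fun i => ∑ a, j (eA a) * G a i, fun x => ?_⟩
    choose c hc using fun a => hG a x
    refine ⟨fun i => ∑ a, c a i • eA a, ?_⟩
    refine sub_eq_zero.mp (S.inj _ fun m => ?_)
    have h1 := congrArg (ψ m) (hc (χ m))
    simp only [map_mul, map_sum, map_smul, heA, if_pos, one_mul] at h1
    rw [map_sub, sub_eq_zero, h1]
    simp only [map_sum, map_mul, map_smul, heA, smul_eq_mul, mul_ite, mul_one, mul_zero, ite_mul, one_mul, zero_mul,
      Finset.sum_ite_eq, Finset.mem_univ, if_true]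

/-- The ideal of the kernel: functions vanishing on `χ = 0`. -/
theorem mem_span_iff [CharP (IsLocalRing.ResidueField R) p] (S : Setup ψ χ σ (ζ := ζ)) (hM : Nat.card M = p ^ 2)
    {lam : R} {hd : DivCond lam p} (j : AK R lam p hd →ₐc[R] H) (hlam : lam ≠ 0)
    (hjψ : ∀ m, lam * ψ m (j AK.t) = ζ ^ (χ m).val - 1)
    {g : Fin p → H} (hg : Function.Bijective (fun b : Fin p → AK R lam p hd => ∑ i, j (b i) * g i)) (x : H) :
    x ∈ Ideal.span {j AK.t} ↔ ∀ n, χ n = 0 → ψ n x = 0 := by
  classical
  have := Fintype.ofFinite M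
  have hp : 0 < p := (Fact.out : p.Prime).pos
  have h0 : ∀ n, χ n = 0 → ψ n (j AK.t) = 0 := fun n hn =>
    (mul_eq_zero.mp ((hjψ n).trans (by rw [hn, ZMod.val_zero, pow_zero, sub_self]))).resolve_left hlam
  refine ⟨fun hx n hn => ?_, fun hx => ?_⟩
  · obtain ⟨y, rfl⟩ := Ideal.mem_span_singleton'.mp hx
    rw [map_mul, h0 n hn, mul_zero]
  have hcong : ∀ b : AK R lam p hd,
      j b - algebraMap R H (Coalgebra.counit (R := R) b) ∈ Ideal.span {j AK.t} := fun b => by
    have h1 : b - algebraMap R (AK R lam p hd) (Coalgebra.counit (R := R) b) ∈ Ideal.span {AK.t} := by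
      rw [← Ideal.Quotient.eq]
      let q := Ideal.Quotient.mkₐ R (Ideal.span {(AK.t : AK R lam p hd)})
      have ht : q AK.t = 0 := Ideal.Quotient.eq_zero_iff_mem.mpr (Ideal.subset_span rfl)
      have e : q = (Algebra.ofId R _).comp (Bialgebra.counitAlgHom R (AK R lam p hd)) :=
        AK.algHom_ext (by simp [ht, AK.counit_t]) (by
          rw [SekSuwaRing.inv_eq hp hd, map_pow, map_pow, map_add, map_one, map_smul, ht]
          simp [AK.counit_t])
      exact DFunLike.congr_fun e b
    obtain ⟨y, hy⟩ := Ideal.mem_span_singleton'.mp h1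
    refine Ideal.mem_span_singleton'.mpr ⟨j y, ?_⟩
    rw [← map_mul, hy, map_sub, AlgHomClass.commutes]
  obtain ⟨b, rfl⟩ := hg.2 x
  have hmem : ∑ i, j (b i) * g i - ∑ i, Coalgebra.counit (R := R) (b i) • g i ∈ Ideal.span {j AK.t} := by
    rw [← Finset.sum_sub_distrib]
    refine Ideal.sum_mem _ fun i _ => ?_
    rw [Algebra.smul_def, ← sub_mul]
    exact Ideal.mul_mem_right _ _ (hcong _)
  let A : (Fin p → R) →ₗ[R] ({m : M // χ m = 0} → R) :=
    LinearMap.pi fun n => (ψ n.1).toLinearMap ∘ₗ Fintype.linearCombination R g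
  have hA : Function.Injective A := by
    rw [← LinearMap.ker_eq_bot]
    have hrange : p ≤ Module.finrank R (LinearMap.range A) := by
      choose a ha h hh using fun m₀ : M => S.gen (Pi.single m₀ 1)
      choose b' hb' using fun m₀ => hg.2 (h m₀)
      have hv : ∀ n₀ : {m : M // χ m = 0}, (Pi.single n₀ (a n₀.1) : {m : M // χ m = 0} → R) ∈ LinearMap.range A :=
        fun n₀ => ⟨fun i => Coalgebra.counit (R := R) (b' n₀.1 i), funext fun n => by
          have hh1 := congrArg (ψ n.1) (hb' n₀.1)
          rw [hh, map_sum] at hh1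
          simp only [A, LinearMap.pi_apply, LinearMap.comp_apply, AlgHom.toLinearMap_apply,
            Fintype.linearCombination_apply, map_sum, map_smul, smul_eq_mul]
          refine Eq.trans ?_ (hh1.trans ?_)
          · refine Finset.sum_congr rfl fun i _ => ?_
            obtain ⟨y, hy⟩ := Ideal.mem_span_singleton'.mp (hcong (b' n₀.1 i))
            have := congrArg (ψ n.1) hy
            rw [map_mul, h0 _ n.2, mul_zero, map_sub, AlgHom.commutes, Algebra.algebraMap_self_apply] at this
            rw [map_mul, ← sub_eq_zero.mp this.symm]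
          · rcases eq_or_ne n n₀ with rfl | hne
            · simp
            · rw [Pi.single_eq_of_ne (fun e : n.1 = n₀.1 => hne (Subtype.ext e)), Pi.single_eq_of_ne hne, mul_zero]⟩
      have hli : LinearIndependent R (fun n₀ : {m : M // χ m = 0} => (⟨_, hv n₀⟩ : LinearMap.range A)) := by
        refine LinearIndependent.of_comp (LinearMap.range A).subtype (Fintype.linearIndependent_iff.mpr fun c hc n => ?_)
        have := congrFun hc n
        simp [Finset.sum_apply, Pi.single_apply, Finset.sum_ite_eq] at this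
        exact this.resolve_right (ha _)
      have := hli.fintype_card_le_finrank
      rwa [← Nat.card_eq_fintype_card, card_eq S 0 hM] at this
    have h1 := Submodule.finrank_quotient_add_finrank (LinearMap.ker A)
    rw [A.quotKerEquivRange.finrank_eq, Module.finrank_fintype_fun_eq_card, Fintype.card_fin] at h1
    exact Submodule.finrank_eq_zero.mp (by omega)
  have hzero : (fun i => Coalgebra.counit (R := R) (b i)) = (0 : Fin p → R) := hA (by
    funext n
    obtain ⟨y, hy⟩ := Ideal.mem_span_singleton'.mp hmem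
    have := congrArg (ψ n.1) hy
    rw [map_mul, h0 _ n.2, mul_zero, map_sub, hx _ n.2, zero_sub, zero_eq_neg] at this
    rw [map_zero, Pi.zero_apply]
    simpa [A, Fintype.linearCombination_apply] using this)
  simpa [fun i => congrFun hzero i] using hmem

end Groth.Misc8.HopfExt
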