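import Groth.Prelude.Def_SekSuwa2
import Mathlib.RingTheory.AdjoinRoot

/-! The coordinate ring of `G_{λ,N}` is `R[X]/(P)`, free of rank `N`. -/

namespace Groth.Misc8.SekSuwaRing

open Polynomial SekSuwa

universe u

variable {R : Type u} [CommRing R] {lam : R} {N : ℕ}

theorem coeff_spec (h : DivCond lam N) (i : ℕ) (hi : 1 ≤ i) :
    lam ^ N * (psiPoly lam N h).coeff i = N.choose i * lam ^ i := by
  have := congrArg (fun q : R[X] => q.coeff i) (psiPoly_spec h)
  simp only [coeff_C_mul] at this
  rw [this, add_comm (1 : R[X]), add_pow, coeff_sub, finsetSum_coeff, coeff_one, if_neg (by omega), sub_zero]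
  simp only [one_pow, mul_one, mul_pow, ← C_pow, ← C_eq_natCast, coeff_mul_C, coeff_C_mul, coeff_X_pow]
  rw [Finset.sum_eq_single i]
  · simp [mul_comm]
  · intro b _ hb; simp [Ne.symm hb]
  · intro hb
    simp only [Finset.mem_range] at hb
    rw [Nat.choose_eq_zero_of_lt (by omega)]
    simp

theorem monic (hN : 0 < N) (h : DivCond lam N) : (psiPoly lam N h).Monic := by
  refine monic_of_natDegree_le_of_coeff_eq_one N ?_ ?_
  · rw [natDegree_le_iff_coeff_eq_zero]
    intro m hm
    refine (cancel_nzd h.pow_nzd ?_)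
    rw [coeff_spec h m (by omega), Nat.choose_eq_zero_of_lt hm]
    simp
  · refine (cancel_nzd h.pow_nzd ?_)
    rw [coeff_spec h N hN]
    simp

theorem natDegree_eq [Nontrivial R] (hN : 0 < N) (h : DivCond lam N) : (psiPoly lam N h).natDegree = N := by
  refine le_antisymm ?_ ?_
  · rw [natDegree_le_iff_coeff_eq_zero]
    intro m hm
    refine (cancel_nzd h.pow_nzd ?_)
    rw [coeff_spec h m (by omega), Nat.choose_eq_zero_of_lt hm]
    simp
  · refine le_natDegree_of_ne_zero ?_
    have : (psiPoly lam N h).coeff N = 1 := cancel_nzd h.pow_nzd (by rw [coeff_spec h N hN]; simp)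
    rw [this]
    exact one_ne_zero

theorem root_pow (h : DivCond lam N) :
    (1 + lam • AdjoinRoot.root (psiPoly lam N h)) ^ N = 1 := by
  have := aeval_psiPoly h (AdjoinRoot.root (psiPoly lam N h))
  rw [AdjoinRoot.aeval_eq, AdjoinRoot.mk_self] at this
  simp only [smul_zero, mul_zero] at this
  exact (sub_eq_zero.mp (by simpa [Algebra.smul_def] using this.symm))

/-- `R[X]/(P) → AK`. -/
noncomputable def toAK (h : DivCond lam N) : AdjoinRoot (psiPoly lam N h) →ₐ[R] AK R lam N h :=
  AdjoinRoot.liftAlgHom _ (Algebra.ofId R _) AK.t (by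
    have := AK.aeval_t (R := R) (lam := lam) (N := N) (h := h)
    rw [Polynomial.aeval_def] at this
    exact this)

/-- `AK → R[X]/(P)`. -/
noncomputable def ofAK (hN : 0 < N) (h : DivCond lam N) : AK R lam N h →ₐ[R] AdjoinRoot (psiPoly lam N h) :=
  Ideal.Quotient.liftₐ (kerIdeal lam N h)
    (A.lift R lam (AdjoinRoot.root (psiPoly lam N h)) ((1 + lam • AdjoinRoot.root (psiPoly lam N h)) ^ (N - 1))
      (by rw [← pow_succ', Nat.sub_add_cancel hN, root_pow h]))
    (by
      intro z hz
      obtain ⟨c, rfl⟩ := Ideal.mem_span_singleton'.mp hz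
      rw [map_mul]
      simp only [kerGen, ← Polynomial.aeval_algHom_apply, A.lift_t, AdjoinRoot.aeval_eq, AdjoinRoot.mk_self,
        mul_zero])

theorem ofAK_t (hN : 0 < N) (h : DivCond lam N) : ofAK hN h AK.t = AdjoinRoot.root (psiPoly lam N h) :=
  A.lift_t _ _ (by rw [← pow_succ', Nat.sub_add_cancel hN, root_pow h])

theorem ofAK_inv (hN : 0 < N) (h : DivCond lam N) :
    ofAK hN h AK.inv = (1 + lam • AdjoinRoot.root (psiPoly lam N h)) ^ (N - 1) :=
  A.lift_inv _ _ (by rw [← pow_succ', Nat.sub_add_cancel hN, root_pow h])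

theorem toAK_root (h : DivCond lam N) : toAK h (AdjoinRoot.root (psiPoly lam N h)) = AK.t := by
  simp [toAK]

theorem inv_eq (hN : 0 < N) (h : DivCond lam N) :
    (AK.inv : AK R lam N h) = (1 + lam • AK.t) ^ (N - 1) := by
  have e1 : ((1 + lam • AK.t) * AK.inv : AK R lam N h) = 1 := by
    have := congrArg (AK.mkHom R lam N h) (A.u_mul_inv (R := R) (lam := lam))
    rw [map_mul, map_one, A.u, map_add, map_one, map_smul] at this
    exact this
  calc (AK.inv : AK R lam N h) = (1 + lam • AK.t) ^ N * AK.inv := by rw [AK.u_pow, one_mul]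
    _ = (1 + lam • AK.t) ^ (N - 1) * ((1 + lam • AK.t) * AK.inv) := by
      rw [← mul_assoc, ← pow_succ, Nat.sub_add_cancel hN]
    _ = _ := by rw [e1, mul_one]

noncomputable def equiv (hN : 0 < N) (h : DivCond lam N) : AdjoinRoot (psiPoly lam N h) ≃ₐ[R] AK R lam N h :=
  AlgEquiv.ofAlgHom (toAK h) (ofAK hN h)
    (AK.algHom_ext (by simp [ofAK_t, toAK_root])
      (by rw [AlgHom.comp_apply, ofAK_inv, map_pow, map_add, map_one, map_smul, toAK_root, AlgHom.id_apply,
        inv_eq hN h]))
    (AdjoinRoot.algHom_ext (by simp [ofAK_t, toAK_root]))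

noncomputable def basis [Nontrivial R] (hN : 0 < N) (h : DivCond lam N) : Module.Basis (Fin N) R (AK R lam N h) :=
  (((AdjoinRoot.powerBasis' (monic hN h)).basis.map (equiv hN h).toLinearEquiv).reindex
    (finCongr (by rw [AdjoinRoot.powerBasis'_dim, natDegree_eq hN h])))

end Groth.Misc8.SekSuwaRing
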