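import Groth.Agent.Misc8.HopfOrderField
import Groth.Agent.Misc8.SekSuwaRing
import Mathlib.RingTheory.Bialgebra.TensorProduct
import Mathlib.RingTheory.LocalRing.Module
import Mathlib.RingTheory.DiscreteValuationRing.Basic
import Mathlib.FieldTheory.KummerExtension
import Mathlib.RingTheory.Flat.Basic

/-!
Hopf orders over a DVR in the algebra of functions on `ℤ/p` are the `G_{λ,1}`.
-/

set_option autoImplicit false

open TensorProduct Polynomial SekSuwa

namespace Groth.Misc8.HopfOrder

universe u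

variable {R : Type u} [CommRing R] [IsDomain R] [IsDiscreteValuationRing R]

theorem dvd_of_pow {a y : R} (ha : a ≠ 0) (h : ∀ k : ℕ, a ^ k ∣ y ^ (k + 1)) : a ∣ y := by
  obtain ⟨π, hπ⟩ := IsDiscreteValuationRing.exists_irreducible R
  rcases eq_or_ne y 0 with rfl | hy
  · exact dvd_zero a
  obtain ⟨l, va, rfl⟩ := IsDiscreteValuationRing.eq_unit_mul_pow_irreducible ha hπ
  obtain ⟨n, vy, rfl⟩ := IsDiscreteValuationRing.eq_unit_mul_pow_irreducible hy hπ
  simp only [Units.isUnit, IsUnit.mul_left_dvd, IsUnit.dvd_mul_left]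
  refine (pow_dvd_pow_iff hπ.ne_zero hπ.not_isUnit).mpr ?_
  have h1 := h (n + 1)
  simp only [mul_pow, ← Units.val_pow_eq_pow_val, Units.isUnit, IsUnit.mul_left_dvd, IsUnit.dvd_mul_left,
    ← pow_mul, pow_dvd_pow_iff hπ.ne_zero hπ.not_isUnit] at h1
  by_contra hc
  have h2 : (n + 1) * (n + 1) ≤ l * (n + 1) := Nat.mul_le_mul_right _ (by omega)
  nlinarith

variable {H : Type u} [CommRing H] [HopfAlgebra R H] [Module.Finite R H] [Module.Free R H]
  {p : ℕ} [Fact p.Prime] (ψ : ZMod p → (H →ₐ[R] R))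

noncomputable def Φ : H ⊗[R] H →ₐ[R] (ZMod p × ZMod p → R) :=
  AlgHom.pi fun mn => Algebra.TensorProduct.lift (ψ mn.1) (ψ mn.2) fun _ _ => Commute.all _ _

theorem Φ_injective (hinj : ∀ h, (∀ m, ψ m h = 0) → h = 0) : Function.Injective (Φ ψ) := by
  classical
  let Ψ : H →ₗ[R] (ZMod p → R) := LinearMap.pi fun m => (ψ m).toLinearMap
  have hΨ : Function.Injective Ψ := (injective_iff_map_eq_zero Ψ).mpr fun h hh => hinj h (congrFun hh)
  have h1 : Function.Injective ((TensorProduct.piScalarRight R R H (ZMod p)).toLinearMap ∘ₗ Ψ.lTensor H) :=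
    (TensorProduct.piScalarRight R R H (ZMod p)).injective.comp
      (Module.Flat.lTensor_preserves_injective_linearMap Ψ hΨ)
  refine (injective_iff_map_eq_zero _).mpr fun x hx => (map_eq_zero_iff _ h1).mp (funext fun n => hinj _ fun m => ?_)
  have : ∀ x, ψ m (((TensorProduct.piScalarRight R R H (ZMod p)).toLinearMap ∘ₗ Ψ.lTensor H) x n) =
      Φ ψ x (m, n) := fun x => by
    induction x using TensorProduct.induction_on with
    | zero => simp
    | tmul a b => simp [Ψ, Φ, mul_comm]
    | add a b ha hb => simp only [map_add, Pi.add_apply, ha, hb]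
  rw [this, hx, Pi.zero_apply]

variable [CharP (IsLocalRing.ResidueField R) p] {ζ : R}

theorem main (hζ : IsPrimitiveRoot ζ p)
    (hmul : ∀ m n (h : H), Φ ψ (Coalgebra.comul h) (m, n) = ψ (m + n) h)
    (hzero : ∀ h, ψ 0 h = Coalgebra.counit h)
    (hinj : ∀ h, (∀ m, ψ m h = 0) → h = 0)
    (ht : ∃ a : R, a ≠ 0 ∧ ∃ h : H, ∀ m : ZMod p, ψ m h = a * ζ ^ m.val) :
    ∃ (lam : R) (hd : DivCond lam p) (j : AK R lam p hd →ₐc[R] H), lam ≠ 0 ∧ Function.Bijective j := by
  classical
  obtain ⟨a, ha, h, hh⟩ := ht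
  have hΦinj := Φ_injective ψ hinj
  have hp : 0 < p := (Fact.out : p.Prime).pos
  have hζval : ∀ m n : ZMod p, ζ ^ (m + n).val = ζ ^ m.val * ζ ^ n.val := fun m n => by
    rw [← pow_add, ZMod.val_add, ← pow_mod_orderOf, ← pow_mod_orderOf ζ (m.val + n.val), ← hζ.eq_orderOf,
      Nat.mod_mod]
  -- the group-like element
  have hcomul : h ⊗ₜ[R] h = a • Coalgebra.comul (R := R) h := hΦinj <| by
    ext ⟨m, n⟩
    rw [map_smul, Pi.smul_apply, hmul, hh]
    simp [Φ, hh, hζval]
    ring
  have hdvd : ∀ f : H →ₗ[R] R, a ∣ f h := fun f => by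
    let F : ℕ → (H →ₗ[R] R) := fun k => k.rec f fun _ g =>
      (LinearMap.mul' R R) ∘ₗ TensorProduct.map f g ∘ₗ Coalgebra.comul
    have hF : ∀ k, a ^ k * F k h = f h ^ (k + 1) := fun k => by
      induction k with
      | zero => simp [F]
      | succ k ih =>
        have : a * F (k + 1) h = f h * F k h := by
          show a * (LinearMap.mul' R R) (TensorProduct.map f (F k) (Coalgebra.comul h)) = _
          rw [← smul_eq_mul, ← map_smul, ← map_smul, ← hcomul]
          simp
        rw [pow_succ, mul_assoc, this, ← mul_left_comm, ih]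
        ring
    exact dvd_of_pow ha fun k => ⟨F k h, (hF k).symm⟩
  let b := Module.Free.chooseBasis R H
  choose c hc using fun i => hdvd (b.coord i)
  let t : H := ∑ i, c i • b i
  have htψ : ∀ m, ψ m t = ζ ^ m.val := fun m => by
    have : a • t = h := by
      conv_rhs => rw [← b.sum_repr h]
      simp only [t, Finset.smul_sum, smul_smul, ← hc]
      rfl
    have := congrArg (ψ m) this
    rw [map_smul, hh, smul_eq_mul] at this
    exact mul_left_cancel₀ ha this
  have htcomul : Coalgebra.comul (R := R) t = t ⊗ₜ[R] t := hΦinj <| by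
    ext ⟨m, n⟩; rw [hmul]; simp [Φ, htψ, hζval]
  -- maximal power of the uniformiser dividing `t - 1`
  obtain ⟨π, hπ⟩ := IsDiscreteValuationRing.exists_irreducible R
  have hζ1 : ζ - 1 ≠ 0 := sub_ne_zero.mpr (hζ.ne_one (Fact.out : p.Prime).one_lt)
  obtain ⟨n₀, v, hv⟩ := IsDiscreteValuationRing.eq_unit_mul_pow_irreducible hζ1 hπ
  let Q : ℕ → Prop := fun k => ∃ s : H, π ^ k • s = t - 1
  have hbound : ∀ k, Q k → k ≤ n₀ := fun k ⟨s, hs⟩ => by
    have h1 := congrArg (ψ 1) hs
    rw [map_smul, map_sub, htψ, map_one, ZMod.val_one, pow_one, smul_eq_mul, hv] at h1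
    refine (pow_dvd_pow_iff hπ.ne_zero hπ.not_isUnit).mp ((IsUnit.dvd_mul_left v.isUnit).mp ⟨_, h1.symm⟩)
  have hex : ∃ k, Q k ∧ ¬ Q (k + 1) := by
    by_contra hne
    push Not at hne
    have : ∀ k, Q k := fun k => by
      induction k with
      | zero => exact ⟨t - 1, by simp⟩
      | succ k ih => exact hne k ih
    exact absurd (hbound _ (this (n₀ + 1))) (by omega)
  obtain ⟨k, ⟨s, hs⟩, hk⟩ := hex
  set lam := π ^ k with hlamdef
  have hlam : lam ≠ 0 := pow_ne_zero _ hπ.ne_zero
  have hts : t = 1 + lam • s := by rw [hs]; abel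
  have hsψ : ∀ m, lam * ψ m s = ζ ^ m.val - 1 := fun m => by
    rw [← htψ, hts]; simp
  have hscomul : Coalgebra.comul (R := R) s = s ⊗ₜ[R] 1 + 1 ⊗ₜ[R] s + lam • (s ⊗ₜ[R] s) := hΦinj <| by
    ext ⟨m, n⟩
    refine mul_left_cancel₀ hlam ?_
    rw [hmul, hsψ, hζval]
    simp only [Φ, map_add, map_smul, AlgHom.pi_apply, Pi.add_apply, Pi.smul_apply,
      Algebra.TensorProduct.lift_tmul, map_one, smul_eq_mul]
    linear_combination (-1 - lam * ψ n s) * hsψ m + (-ζ ^ m.val) * hsψ n
  have hscounit : Coalgebra.counit (R := R) s = 0 := by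
    rw [← hzero]
    refine mul_left_cancel₀ hlam ?_
    rw [hsψ, ZMod.val_zero, pow_zero, sub_self, mul_zero]
  have htpow : t ^ p = 1 := sub_eq_zero.mp <| hinj _ fun m => by
    rw [map_sub, map_pow, htψ, map_one, ← pow_mul, mul_comm, pow_mul, hζ.pow_eq_one, one_pow, sub_self]
  -- the polynomial
  let P : R[X] := ∏ m : ZMod p, (X - C (ψ m s))
  have hP : C (lam ^ p) * P = (1 + C lam * X) ^ p - 1 := by
    have h1 : ((X : R[X]) ^ p - 1) = ∏ m : ZMod p, (X - C (ζ ^ m.val)) := by
      have := X_pow_sub_C_eq_prod (R := R) hζ (α := 1) hp (one_pow p)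
      rw [map_one] at this
      rw [this]
      refine (Finset.prod_nbij (fun m : ZMod p => m.val) (fun m _ => by simp [ZMod.val_lt]) ?_ ?_ ?_).symm
      · exact fun x _ y _ h => ZMod.val_injective p h
      · intro i hi
        exact ⟨(i : ZMod p), by simp, ZMod.val_cast_of_lt (by simpa using hi)⟩
      · intros; simp
    have h2 := congrArg (fun q : R[X] => q.comp (1 + C lam * X)) h1
    simp only [sub_comp, pow_comp, X_comp, one_comp, prod_comp, C_comp] at h2
    rw [h2, map_pow, show (C lam) ^ p = ∏ _m : ZMod p, C lam by simp, ← Finset.prod_mul_distrib]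
    refine Finset.prod_congr rfl fun m _ => ?_
    rw [mul_sub, ← map_mul, hsψ, map_sub, map_one]
    ring
  have hd : DivCond lam p := ⟨mem_nonZeroDivisors_of_ne_zero hlam, P, hP⟩
  have hPs : aeval s (psiPoly lam p hd) = 0 := hinj _ fun m => by
    rw [← psiPoly_unique hd hP, ← aeval_algHom_apply, Polynomial.coe_aeval_eq_eval, eval_prod]
    exact Finset.prod_eq_zero (Finset.mem_univ m) (by simp)
  let j₀ : AK R lam p hd →ₐ[R] H :=
    (AdjoinRoot.liftAlgHom (psiPoly lam p hd) (Algebra.ofId R H) s (by exact hPs)).comp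
      (SekSuwaRing.equiv hp hd).symm.toAlgHom
  have hjt : j₀ AK.t = s := by
    show AdjoinRoot.liftAlgHom (psiPoly lam p hd) (Algebra.ofId R H) s hPs (SekSuwaRing.ofAK hp hd AK.t) = s
    rw [SekSuwaRing.ofAK_t, AdjoinRoot.liftAlgHom_root]
  have hjinv : j₀ AK.inv = t ^ (p - 1) := by
    rw [SekSuwaRing.inv_eq hp hd, map_pow, map_add, map_one, map_smul, hjt, hts]
  let j : AK R lam p hd →ₐc[R] H := BialgHom.ofAlgHom j₀
    (AK.algHom_ext
      (by show Coalgebra.counit (R := R) (j₀ AK.t) = Coalgebra.counit (R := R) (AK.t : AK R lam p hd)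
          rw [hjt, hscounit, AK.counit_t])
      (by show Bialgebra.counitAlgHom R H (j₀ AK.inv) = Coalgebra.counit (R := R) (AK.inv : AK R lam p hd)
          rw [hjinv, map_pow, AK.counit_inv]
          refine (congrArg (· ^ (p - 1)) ?_).trans (one_pow _)
          show Coalgebra.counit (R := R) t = 1
          rw [← hzero, htψ, ZMod.val_zero, pow_zero]))
    (AK.algHom_ext
      (by show Algebra.TensorProduct.map j₀ j₀ (Coalgebra.comul (R := R) (AK.t : AK R lam p hd)) =
            Coalgebra.comul (R := R) (j₀ AK.t)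
          rw [hjt, hscomul, AK.comul_t]
          simp [hjt])
      (by show Algebra.TensorProduct.map j₀ j₀ (Coalgebra.comul (R := R) (AK.inv : AK R lam p hd)) =
            Bialgebra.comulAlgHom R H (j₀ AK.inv)
          rw [AK.comul_inv, Algebra.TensorProduct.map_tmul, hjinv, map_pow, Bialgebra.comulAlgHom_apply, htcomul,
            Algebra.TensorProduct.tmul_pow]))
  -- bijectivity, by reduction modulo the maximal ideal
  let κ := IsLocalRing.ResidueField R
  have hrank : Module.finrank R H ≤ p := by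
    let Ψ : H →ₗ[R] (ZMod p → R) := LinearMap.pi fun m => (ψ m).toLinearMap
    have hΨ : Function.Injective Ψ := (injective_iff_map_eq_zero Ψ).mpr fun x hx => hinj x (congrFun hx)
    simpa using LinearMap.finrank_le_finrank_of_injective hΨ
  let sκ : κ ⊗[R] H := 1 ⊗ₜ s
  have hres : ∀ {M : Type u} [AddCommMonoid M] [Module R M] [Module κ M] [IsScalarTower R κ M] (r : R) (y : M),
      IsLocalRing.residue R r • y = r • y := fun r y => by
    rw [← IsLocalRing.ResidueField.algebraMap_eq, algebraMap_smul]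
  have hsne : sκ ≠ 0 := fun h0 => hk <| by
    have hcoord : ∀ i, π ∣ b.repr s i := fun i => by
      have h1 : (Algebra.TensorProduct.basis κ b).repr sκ i = 0 := by rw [h0, map_zero]; rfl
      rw [Algebra.TensorProduct.basis_repr_tmul] at h1
      simp at h1
      have h2 : b.repr s i ∈ IsLocalRing.maximalIdeal R := (IsLocalRing.residue_eq_zero_iff _).mp h1
      rwa [hπ.maximalIdeal_eq, Ideal.mem_span_singleton] at h2
    choose d hd' using hcoord
    refine ⟨∑ i, d i • b i, ?_⟩
    rw [← hs, pow_succ, mul_smul]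
    congr 1
    conv_rhs => rw [← b.sum_repr s]
    simp only [Finset.smul_sum, smul_smul, ← hd']
  have hindep : LinearIndependent κ (fun i : Fin p => sκ ^ (i : ℕ)) := by
    refine HopfOrderField.linearIndependent_pow_of_comul p (Bialgebra.comulAlgHom κ (κ ⊗[R] H))
      sκ (IsLocalRing.residue R lam) ?_ hsne ?_
    · simp [sκ, hscomul, hres, TensorProduct.tmul_add, Algebra.TensorProduct.one_def]
      rw [← hres lam (((1 : κ) ⊗ₜ[κ] (1 : κ)) ⊗ₜ[R] (s ⊗ₜ[R] s)), map_smul, hres]
      simp
    · have := congrArg (Algebra.TensorProduct.includeRight (R := R) (A := κ)) htpow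
      rw [hts, map_pow, map_add, map_one, map_smul] at this
      rw [← this]
      congr 2
  have hfin : Module.finrank κ (κ ⊗[R] H) = Module.finrank R H := Module.finrank_baseChange
  have hle : p ≤ Module.finrank κ (κ ⊗[R] H) := by simpa using hindep.fintype_card_le_finrank
  have hspan : Submodule.span κ (Set.range fun i : Fin p => sκ ^ (i : ℕ)) = ⊤ :=
    hindep.span_eq_top_of_card_eq_finrank' (by rw [Fintype.card_fin]; omega)
  have hsurj : Function.Surjective j := by
    show Function.Surjective j₀.toLinearMap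
    rw [← LinearMap.range_eq_top, ← IsLocalRing.map_tensorProduct_mk_eq_top, eq_top_iff]
    intro x _
    have hx : x ∈ Submodule.span κ (Set.range fun i : Fin p => sκ ^ (i : ℕ)) := hspan ▸ trivial
    rw [Submodule.mem_span_range_iff_exists_fun] at hx
    obtain ⟨g, rfl⟩ := hx
    refine Submodule.sum_mem _ fun i _ => ?_
    obtain ⟨r, hr⟩ := IsLocalRing.residue_surjective (g i)
    rw [← hr]
    refine ⟨r • s ^ (i : ℕ), ⟨r • AK.t ^ (i : ℕ), by simp [hjt]⟩, ?_⟩
    simp [sκ, hres]
  refine ⟨lam, hd, j, hlam, ?_, hsurj⟩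
  have hrk : Module.finrank R H = p := by omega
  let e : H ≃ₗ[R] AK R lam p hd :=
    (Module.finBasisOfFinrankEq R H hrk).equiv (SekSuwaRing.basis hp hd) (Equiv.refl _)
  haveI : Module.Finite R (AK R lam p hd) := Module.Finite.of_basis (SekSuwaRing.basis hp hd)
  have := OrzechProperty.injective_of_surjective_endomorphism (e.toLinearMap ∘ₗ (j₀.toLinearMap))
    (e.surjective.comp hsurj)
  exact fun x y hxy => this (congrArg e hxy)

end Groth.Misc8.HopfOrder
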