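import Mathlib.RingTheory.TensorProduct.Maps
import Mathlib.FieldTheory.Minpoly.Field
import Mathlib.RingTheory.PowerBasis
import Mathlib.LinearAlgebra.Basis.VectorSpace
import Mathlib.Algebra.CharP.Lemmas
import Mathlib.Algebra.CharP.Algebra

/-!
An element `s` with `Δ s = s ⊗ 1 + 1 ⊗ s + c • s ⊗ s` and `(1 + c s)^p = 1` of a bialgebra over a field of
characteristic `p` is zero or has minimal polynomial of degree at least `p`.
-/

set_option autoImplicit false

open TensorProduct Polynomial

namespace Groth.Misc8.HopfOrderField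

variable {k H : Type*} [Field k] [CommRing H] [Algebra k H] [Module.Finite k H]

theorem linearIndependent_pow_of_comul (p : ℕ) [Fact p.Prime] [CharP k p] (Δ : H →ₐ[k] H ⊗[k] H)
    (s : H) (c : k) (hΔ : Δ s = s ⊗ₜ[k] 1 + 1 ⊗ₜ[k] s + c • (s ⊗ₜ[k] s)) (hs : s ≠ 0)
    (hu : (1 + c • s) ^ p = 1) : LinearIndependent k (fun i : Fin p => s ^ (i : ℕ)) := by
  have hind : LinearIndependent k (fun i : Fin (minpoly k s).natDegree => s ^ (i : ℕ)) := linearIndependent_pow s
  by_cases hd : p ≤ (minpoly k s).natDegree
  · exact hind.comp (Fin.castLE hd) (Fin.castLE_injective _)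
  exfalso
  push Not at hd
  have : Nontrivial H := ⟨s, 0, hs⟩
  have hint : IsIntegral k s := Algebra.IsIntegral.isIntegral s
  obtain ⟨e, he⟩ : ∃ e, (minpoly k s).natDegree = e + 1 :=
    Nat.exists_eq_succ_of_ne_zero (minpoly.natDegree_pos hint).ne'
  set m := minpoly k s with hm
  have hroot : aeval s m = 0 := minpoly.aeval k s
  have hmd : m.coeff (e + 1) = 1 := he ▸ (minpoly.monic hint).coeff_natDegree
  have hcoef : c * m.coeff e = 0 := by
    rcases eq_or_ne c 0 with hc | hc
    · simp [hc]
    have hp : s ^ p = 0 := by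
      have := (CharP.of_ringHom_of_ne_zero (algebraMap k H) p (Fact.out : p.Prime).ne_zero)
      rw [add_pow_char, one_pow, add_eq_left, smul_pow] at hu
      exact (smul_eq_zero.mp hu).resolve_left (pow_ne_zero _ hc)
    have hdvd : m ∣ X ^ p := minpoly.dvd k s (by simp [hp])
    obtain ⟨i, _, hi⟩ := (dvd_prime_pow Polynomial.prime_X p).mp hdvd
    have hmX : m = X ^ i := eq_of_monic_of_associated (minpoly.monic hint) (monic_X_pow i) hi
    have : i = e + 1 := by rw [← he, hmX, natDegree_X_pow]
    rw [hmX, this, coeff_X_pow, if_neg (by omega), mul_zero]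
  have hinj : LinearMap.ker (Fintype.linearCombination k (fun i : Fin m.natDegree => s ^ (i : ℕ))) = ⊥ :=
    LinearMap.ker_eq_bot.mpr hind.fintypeLinearCombination_injective
  obtain ⟨g, hg⟩ := LinearMap.exists_leftInverse_of_injective _ hinj
  let ξ : H →ₗ[k] k := LinearMap.proj ⟨e, by omega⟩ ∘ₗ g
  have hξ : ∀ i, i < e + 1 → ξ (s ^ i) = if i = e then 1 else 0 := by
    intro i hi
    have h1 := LinearMap.congr_fun hg (Pi.single (⟨i, by omega⟩ : Fin m.natDegree) 1)
    rw [LinearMap.comp_apply, Fintype.linearCombination_apply_single, one_smul, LinearMap.id_apply] at h1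
    show g (s ^ i) ⟨e, _⟩ = _
    rw [h1, Pi.single_apply]
    simp [eq_comm]
  have hξd : ξ (s ^ (e + 1)) = -m.coeff e := by
    have h1 := congrArg ξ hroot
    rw [aeval_eq_sum_range, he, map_sum, map_zero, Finset.sum_range_succ, Finset.sum_range_succ,
      Finset.sum_eq_zero (fun i hi => by
        rw [map_smul, hξ i (by simp at hi; omega), if_neg (by simp at hi; omega), smul_zero]),
      map_smul, map_smul, hξ e (by omega), if_pos rfl, hmd] at h1
    simp at h1
    linear_combination h1
  let L : H ⊗[k] H →ₗ[k] H := (TensorProduct.lid k H).toLinearMap ∘ₗ TensorProduct.map ξ LinearMap.id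
  set u : H := 1 + c • s with hudef
  have hL : ∀ j, L (Δ (s ^ j)) = ∑ i ∈ Finset.range (j + 1), (j.choose i : k) • (ξ (s ^ i) • (u ^ i * s ^ (j - i))) := by
    intro j
    have hsplit : Δ s = s ⊗ₜ[k] u + 1 ⊗ₜ[k] s := by
      rw [hΔ, hudef, tmul_add, tmul_smul]; abel
    rw [map_pow, hsplit, add_pow, map_sum]
    refine Finset.sum_congr rfl fun i _ => ?_
    rw [Algebra.TensorProduct.tmul_pow, Algebra.TensorProduct.tmul_pow, one_pow,
      Algebra.TensorProduct.tmul_mul_tmul, mul_one, mul_comm, ← nsmul_eq_mul, map_nsmul, ← Nat.cast_smul_eq_nsmul k]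
    simp [L]
  have key := congrArg (fun x => L (Δ x)) hroot
  simp only [aeval_eq_sum_range, he, map_sum, map_smul, map_zero, hL] at key
  rw [Finset.sum_range_succ, Finset.sum_range_succ, Finset.sum_eq_zero (fun j hj => by
      rw [Finset.sum_eq_zero (fun i hi => by
        rw [hξ i (by simp at hj hi; omega), if_neg (by simp at hj hi; omega), zero_smul, smul_zero]), smul_zero]),
    Finset.sum_range_succ, Finset.sum_eq_zero (fun i hi => by
        rw [hξ i (by simp at hi; omega), if_neg (by simp at hi; omega), zero_smul, smul_zero]),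
    Finset.sum_range_succ, Finset.sum_range_succ, Finset.sum_eq_zero (fun i hi => by
        rw [hξ i (by simp at hi; omega), if_neg (by simp at hi; omega), zero_smul, smul_zero]),
    hξ e (by omega), if_pos rfl, hξd, hmd] at key
  simp only [zero_add, Nat.choose_self, Nat.choose_succ_self_right, Nat.sub_self, pow_zero, mul_one, one_smul,
    Nat.cast_one, Nat.add_sub_cancel_left, pow_one] at key
  have key' : u ^ e * (((e + 1 : ℕ) : k) • s) = 0 := by
    refine Eq.trans ?_ key
    simp only [Algebra.smul_def, hudef, pow_succ, map_neg]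
    have h0 : algebraMap k H c * algebraMap k H (m.coeff e) = 0 := by rw [← map_mul, hcoef, map_zero]
    linear_combination (1 + algebraMap k H c * s) ^ e * s * h0
  have hunit : IsUnit u := IsUnit.of_pow_eq_one hu (Fact.out : p.Prime).ne_zero
  have h2 := (smul_eq_zero.mp ((hunit.pow e).mul_right_eq_zero.mp key')).resolve_right hs
  rw [CharP.cast_eq_zero_iff k p] at h2
  have := Nat.le_of_dvd (by omega) h2
  omega

end Groth.Misc8.HopfOrderField
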