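import Groth.Agent.Misc8.HopfOrder
import Groth.Agent.SGA7.ConstPoints
import Groth.Prelude.Def_SekSuwa2
import Groth.Prelude.Def_TwC
import Mathlib.AlgebraicGeometry.Group.Affine
import Mathlib.AlgebraicGeometry.Limits

/-!
Finite flat group schemes over a DVR with generic fibre constant `ℤ/p`: the points of the coordinate Hopf algebra.
-/

set_option autoImplicit false

open CategoryTheory CategoryTheory.Limits MonoidalCategory CartesianMonoidalCategory MonObj AlgebraicGeometry
  WithConv TensorProduct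

namespace Groth.Misc8.HopfOrderGroup

universe u

theorem isIso_of_isIso_SpecMap {A B : CommRingCat.{u}} (f : A ⟶ B) [IsIso (Spec.map f)] : IsIso f := by
  have : IsIso (Scheme.Spec.map f.op) := inferInstanceAs (IsIso (Spec.map f))
  have := isIso_of_reflects_iso f.op Scheme.Spec
  exact isIso_of_op f

variable {R : Type u} [CommRing R] {H : Type u} [CommRing H] [HopfAlgebra R H]
  (K : Type u) [CommRing K] [Algebra R K]


noncomputable def unitPt : 𝟙_ (Over (Spec (CommRingCat.of K))) ⟶ Red.bc (Spec.map (CommRingCat.ofHom (algebraMap R K))) ((Spec (CommRingCat.of K)).asOver (Spec (CommRingCat.of R))) :=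
  Over.homMk (pullback.lift (𝟙 _) (𝟙 _) rfl) (pullback.lift_snd _ _ _)

/-- `G(K) →* G_K(K)`. -/
noncomputable def toBc :
    ((Spec (CommRingCat.of K)).asOver (Spec (CommRingCat.of R)) ⟶ (Scheme.asOver (Spec (CommRingCat.of H)) (Spec (CommRingCat.of R)))) →*
      (𝟙_ (Over (Spec (CommRingCat.of K))) ⟶ Red.bc (Spec.map (CommRingCat.ofHom (algebraMap R K))) (Scheme.asOver (Spec (CommRingCat.of H)) (Spec (CommRingCat.of R)))) where
  toFun g := unitPt (R := R) K ≫ (Over.pullback (Spec.map (CommRingCat.ofHom (algebraMap R K)))).map g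
  map_one' := by rw [← Functor.homMonoidHom_apply, map_one, MonObj.comp_one]
  map_mul' g g' := by rw [← Functor.homMonoidHom_apply, map_mul, MonObj.comp_mul]; rfl

theorem toBc_left_fst (g : (Spec (CommRingCat.of K)).asOver (Spec (CommRingCat.of R)) ⟶ (Scheme.asOver (Spec (CommRingCat.of H)) (Spec (CommRingCat.of R)))) :
    (toBc K g).left ≫ pullback.fst _ _ = g.left := by
  simp [toBc, unitPt]
  erw [pullback.lift_fst, pullback.lift_fst_assoc]
  exact Category.id_comp _

/-- The algebra map underlying a `K`-point. -/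
noncomputable def ptHom (x : 𝟙_ (Over (Spec (CommRingCat.of K))) ⟶ Red.bc (Spec.map (CommRingCat.ofHom (algebraMap R K))) (Scheme.asOver (Spec (CommRingCat.of H)) (Spec (CommRingCat.of R)))) :
    (Spec (CommRingCat.of K)).asOver (Spec (CommRingCat.of R)) ⟶ (Scheme.asOver (Spec (CommRingCat.of H)) (Spec (CommRingCat.of R))) :=
  Over.homMk (x.left ≫ pullback.fst _ _) (by
    show (x.left ≫ pullback.fst _ _) ≫ ((Scheme.asOver (Spec (CommRingCat.of H)) (Spec (CommRingCat.of R)))).hom = (Spec.map (CommRingCat.ofHom (algebraMap R K)))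
    rw [Category.assoc, pullback.condition, ← Category.assoc]
    have := Over.w x
    simp only [Over.pullback_obj_hom] at this
    erw [this]
    exact Category.id_comp _)

theorem toBc_ptHom (x : 𝟙_ (Over (Spec (CommRingCat.of K))) ⟶ Red.bc (Spec.map (CommRingCat.ofHom (algebraMap R K))) (Scheme.asOver (Spec (CommRingCat.of H)) (Spec (CommRingCat.of R)))) : toBc K (ptHom K x) = x := by
  refine Over.OverMorphism.ext (pullback.hom_ext ?_ ?_)
  · rw [toBc_left_fst]; rfl
  · exact (Over.w (toBc K (ptHom K x))).trans (Over.w x).symm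

theorem toBc_injective : Function.Injective (toBc (R := R) (H := H) K) := fun g g' h => by
  refine Over.OverMorphism.ext ?_
  rw [← toBc_left_fst, ← toBc_left_fst, h]

variable {K}
variable {M : Type} [Group M] [Finite M]
  (e : Red.bc (Spec.map (CommRingCat.ofHom (algebraMap R K))) (Scheme.asOver (Spec (CommRingCat.of H)) (Spec (CommRingCat.of R))) ≅ TwC.const (Spec (CommRingCat.of K)) M)

noncomputable def φ (m : M) : H →ₐ[R] K :=
  ((Spec.mapMulEquiv (R := R) (S := H) (T := K)).symm (ptHom K (TwC.pt (Spec (CommRingCat.of K)) M m ≫ e.inv))).ofConv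

theorem φ_mul (he : TwC.IsConstGrp M (Red.bc (Spec.map (CommRingCat.ofHom (algebraMap R K))) (Scheme.asOver (Spec (CommRingCat.of H)) (Spec (CommRingCat.of R)))) e) (m n : M) :
    toConv (φ e (m * n)) = toConv (φ e m) * toConv (φ e n) := by
  simp only [φ, WithConv.toConv_ofConv, ← map_mul]
  congr 1
  apply toBc_injective K
  rw [map_mul, toBc_ptHom, toBc_ptHom, toBc_ptHom, he]

theorem φ_one (he : TwC.IsConstGrp M (Red.bc (Spec.map (CommRingCat.ofHom (algebraMap R K))) (Scheme.asOver (Spec (CommRingCat.of H)) (Spec (CommRingCat.of R)))) e) : toConv (φ e 1) = 1 := by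
  simp only [φ, WithConv.toConv_ofConv]
  rw [← map_one (Spec.mapMulEquiv (R := R) (S := H) (T := K)).symm]
  congr 1
  apply toBc_injective K
  rw [map_one, toBc_ptHom]
  have := he 1 1
  rw [_root_.mul_one] at this
  exact mul_eq_left.mp this

noncomputable def θ : H ⊗[R] K →+* (ULift.{u} M → K) :=
  RingHom.pi fun m => (Algebra.TensorProduct.lift (φ e m.down) (AlgHom.id R K) fun _ _ => Commute.all _ _).toRingHom

theorem θ_tmul (h : H) (k : K) (m : M) : θ e (h ⊗ₜ[R] k) ⟨m⟩ = φ e m h * k := by
  simp [θ]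

theorem θ_bijective : Function.Bijective (θ e) := by
  let σ : (∐ fun _ : ULift.{u} M => Spec (CommRingCat.of K)) ≅ ∐ fun _ : M => Spec (CommRingCat.of K) :=
    Sigma.whiskerEquiv (f := fun _ : ULift.{u} M => Spec (CommRingCat.of K)) (g := fun _ : M => Spec (CommRingCat.of K))
      Equiv.ulift fun _ => Iso.refl _
  let b : (∐ fun _ : M => Spec (CommRingCat.of K)) ≅
      pullback (Spec.map (CommRingCat.ofHom (algebraMap R H))) (Spec.map (CommRingCat.ofHom (algebraMap R K))) :=
    (Over.forget _).mapIso e.symm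
  have key : σ.hom ≫ b.hom ≫ (pullbackSpecIso R H K).hom =
      sigmaSpec (fun _ : ULift.{u} M => CommRingCat.of K) ≫ Spec.map (CommRingCat.ofHom (θ e)) := by
    refine Sigma.hom_ext _ _ fun m => ?_
    rw [ι_sigmaSpec_assoc, ← Spec.map_comp]
    have h1 : Sigma.ι _ m ≫ σ.hom ≫ b.hom = (TwC.pt (Spec (CommRingCat.of K)) M m.down ≫ e.inv).left := by
      simp [σ, b, TwC.pt]
      rfl
    rw [reassoc_of% h1, ← Iso.eq_comp_inv]
    refine pullback.hom_ext (f := Spec.map (CommRingCat.ofHom (algebraMap R H)))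
      (g := Spec.map (CommRingCat.ofHom (algebraMap R K))) ?_ ?_
    · refine Eq.trans ?_ (Category.assoc _ _ _).symm
      rw [pullbackSpecIso_inv_fst, ← Spec.map_comp]
      have h2 : (Spec.mapMulEquiv (R := R) (S := H) (T := K)) (toConv (φ e m.down)) =
          ptHom K (TwC.pt (Spec (CommRingCat.of K)) M m.down ≫ e.inv) := by simp [φ]
      have h3 := congrArg Over.Hom.left h2
      refine Eq.trans (show (TwC.pt (Spec (CommRingCat.of K)) M m.down ≫ e.inv).left ≫ pullback.fst _ _ =
        Spec.map (CommRingCat.ofHom (φ e m.down).toRingHom) from h3.symm) ?_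
      congr 1
      ext h
      simp [θ]
    · refine Eq.trans ?_ (Category.assoc _ _ _).symm
      rw [pullbackSpecIso_inv_snd, ← Spec.map_comp]
      refine Eq.trans (Over.w (TwC.pt (Spec (CommRingCat.of K)) M m.down ≫ e.inv)) ?_
      refine Eq.trans (show (𝟙_ (Over (Spec (CommRingCat.of K)))).hom = 𝟙 (Spec (CommRingCat.of K)) from rfl) ?_
      rw [← Spec.map_id]
      congr 1
      ext k
      simp [θ]
  have : IsIso (Spec.map (CommRingCat.ofHom (θ e))) :=
    IsIso.of_isIso_fac_left key.symm
  have : IsIso (CommRingCat.ofHom (θ e)) := Groth.Misc8.HopfOrderGroup.isIso_of_isIso_SpecMap _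
  exact (ConcreteCategory.isIso_iff_bijective (CommRingCat.ofHom (θ e))).mp this

end Groth.Misc8.HopfOrderGroup
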