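import Mathlib.Data.Set.Card
import Mathlib.Algebra.BigOperators.Finprod
import Mathlib.LinearAlgebra.Dimension.Constructions
import Mathlib.LinearAlgebra.FreeModule.Finite.Matrix
import Mathlib.Tactic

/-! Double counting in incidence structures with constant pairwise intersection. -/

namespace Groth.Misc8.Incidence

open Finset
open scoped Classical

universe u v

variable {P : Type u} {ι : Type v} [Fintype ι] {inc : P → ι → Prop} {h : ℕ}

noncomputable def mult (hfin : ∀ i j : ι, i ≠ j → {p : P | inc p i ∧ inc p j}.Finite) : Finset P :=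
  (Finset.univ : Finset ι).biUnion fun i => (Finset.univ : Finset ι).biUnion fun j =>
    if hij : i = j then ∅ else (hfin i j hij).toFinset

variable (hfin : ∀ i j : ι, i ≠ j → {p : P | inc p i ∧ inc p j}.Finite)

theorem mem_mult {p : P} : p ∈ mult hfin ↔ ∃ i j, i ≠ j ∧ inc p i ∧ inc p j := by
  simp only [mult, Finset.mem_biUnion, Finset.mem_univ, true_and]
  constructor
  · rintro ⟨i, j, hp⟩
    by_cases hij : i = j
    · simp [hij] at hp
    · simp [hij] at hp; exact ⟨i, j, hij, hp⟩
  · rintro ⟨i, j, hij, hp⟩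
    exact ⟨i, j, by simp [hij, hp]⟩

theorem natCard_eq (p : P) : Nat.card {j : ι // inc p j} = #(univ.filter (inc p)) := by
  rw [Nat.card_eq_fintype_card, Fintype.card_subtype]

theorem mem_mult_iff_two_le {p : P} : p ∈ mult hfin ↔ 2 ≤ Nat.card {j : ι // inc p j} := by
  rw [mem_mult, natCard_eq, Nat.succ_le_iff, Finset.one_lt_card_iff]
  simp only [Finset.mem_filter, Finset.mem_univ, true_and]
  constructor
  · rintro ⟨i, j, hij, hi, hj⟩; exact ⟨i, j, hi, hj, hij⟩
  · rintro ⟨i, j, hi, hj, hij⟩; exact ⟨i, j, hij, hi, hj⟩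

theorem natCard_mult : Nat.card {p : P // 2 ≤ Nat.card {j : ι // inc p j}} = #(mult hfin) := by
  rw [show Nat.card {p : P // 2 ≤ Nat.card {j : ι // inc p j}} = Nat.card {p : P // p ∈ mult hfin} from
    Nat.card_congr (Equiv.subtypeEquivRight fun p => (mem_mult_iff_two_le hfin).symm),
    Nat.card_eq_finsetCard]

theorem card_pair (hcount : ∀ i j : ι, i ≠ j → {p : P | inc p i ∧ inc p j}.ncard = h) {i j : ι}
    (hij : i ≠ j) : #((mult hfin).filter fun p => inc p i ∧ inc p j) = h := by
  rw [← hcount i j hij, Set.ncard_eq_toFinset_card _ (hfin i j hij)]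
  congr 1
  ext p
  simp only [Finset.mem_filter, Set.Finite.mem_toFinset, Set.mem_setOf_eq, mem_mult]
  exact ⟨fun hp => hp.2, fun hp => ⟨⟨i, j, hij, hp⟩, hp⟩⟩

theorem curve_sum (hcount : ∀ i j : ι, i ≠ j → {p : P | inc p i ∧ inc p j}.ncard = h) (i : ι) :
    ∑ p ∈ (mult hfin).filter (fun p => inc p i), (Nat.card {j : ι // inc p j} - 1) =
      h * (Fintype.card ι - 1) := by
  have h1 : ∀ p ∈ (mult hfin).filter (fun p => inc p i),
      Nat.card {j : ι // inc p j} - 1 = ∑ j ∈ univ.erase i, if inc p j then 1 else 0 := by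
    intro p hp
    rw [Finset.mem_filter] at hp
    rw [Finset.sum_boole, natCard_eq, Finset.filter_erase, Finset.card_erase_of_mem (by simp [hp.2])]
    simp
  rw [Finset.sum_congr rfl h1, Finset.sum_comm]
  have h2 : ∀ j ∈ univ.erase i,
      (∑ p ∈ (mult hfin).filter (fun p => inc p i), if inc p j then (1 : ℕ) else 0) = h := by
    intro j hj
    rw [Finset.sum_boole, Finset.filter_filter, Nat.cast_id]
    exact card_pair hfin hcount (Finset.ne_of_mem_erase hj).symm
  rw [Finset.sum_congr rfl h2, Finset.sum_const, Finset.card_erase_of_mem (Finset.mem_univ i),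
    Finset.card_univ, smul_eq_mul, mul_comm]

theorem finsum_curve (hcount : ∀ i j : ι, i ≠ j → {p : P | inc p i ∧ inc p j}.ncard = h)
    (hfin : ∀ i j : ι, i ≠ j → {p : P | inc p i ∧ inc p j}.Finite) (i : ι) :
    ∑ᶠ p ∈ {p : P | inc p i}, (Nat.card {j : ι // inc p j} - 1) = h * (Fintype.card ι - 1) := by
  rw [← curve_sum hfin hcount i]
  apply finsum_mem_eq_sum_of_inter_support_eq
  ext p
  simp only [Set.mem_inter_iff, Set.mem_setOf_eq, Function.mem_support, Finset.coe_filter,
    mem_mult_iff_two_le hfin]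
  constructor
  · rintro ⟨hp, hne⟩; exact ⟨⟨by omega, hp⟩, hne⟩
  · rintro ⟨⟨-, hp⟩, hne⟩; exact ⟨hp, hne⟩

theorem sum_kfold (hcount : ∀ i j : ι, i ≠ j → {p : P | inc p i ∧ inc p j}.ncard = h)
    (hfin : ∀ i j : ι, i ≠ j → {p : P | inc p i ∧ inc p j}.Finite) :
    ∑ k ∈ Finset.Icc 2 (Fintype.card ι), k * (k - 1) * Nat.card {p : P // Nat.card {j : ι // inc p j} = k} =
      h * (Fintype.card ι * (Fintype.card ι - 1)) := by
  have h1 : ∀ k ∈ Finset.Icc 2 (Fintype.card ι),
      k * (k - 1) * Nat.card {p : P // Nat.card {j : ι // inc p j} = k} =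
        ∑ p ∈ (mult hfin).filter (fun p => Nat.card {j : ι // inc p j} = k),
          Nat.card {j : ι // inc p j} * (Nat.card {j : ι // inc p j} - 1) := by
    intro k hk
    rw [Finset.mem_Icc] at hk
    have hc : ∀ p ∈ (mult hfin).filter (fun p => Nat.card {j : ι // inc p j} = k),
        Nat.card {j : ι // inc p j} * (Nat.card {j : ι // inc p j} - 1) = k * (k - 1) := by
      intro p hp; rw [(Finset.mem_filter.mp hp).2]
    rw [Finset.sum_congr rfl hc, Finset.sum_const, smul_eq_mul, mul_comm]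
    congr 1
    rw [← Nat.card_eq_finsetCard]
    refine Nat.card_congr (Equiv.subtypeEquivRight fun p => ?_)
    simp only [Finset.mem_filter, mem_mult_iff_two_le hfin]
    exact ⟨fun hp => ⟨by omega, hp⟩, fun hp => hp.2⟩
  have hmap : ∀ p ∈ mult hfin, Nat.card {j : ι // inc p j} ∈ Finset.Icc 2 (Fintype.card ι) := by
    intro p hp
    rw [Finset.mem_Icc]
    refine ⟨(mem_mult_iff_two_le hfin).mp hp, ?_⟩
    rw [natCard_eq]
    exact Finset.card_le_univ _
  rw [Finset.sum_congr rfl h1,
    Finset.sum_fiberwise_of_maps_to hmap (fun p => Nat.card {j : ι // inc p j} * (Nat.card {j : ι // inc p j} - 1))]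
  have h2 : ∀ p ∈ mult hfin, Nat.card {j : ι // inc p j} * (Nat.card {j : ι // inc p j} - 1) =
      ∑ i, if inc p i then (Nat.card {j : ι // inc p j} - 1) else 0 := by
    intro p _
    rw [← Finset.sum_filter, Finset.sum_const, natCard_eq, smul_eq_mul]
  rw [Finset.sum_congr rfl h2, Finset.sum_comm]
  have h3 : ∀ i ∈ (univ : Finset ι), (∑ p ∈ mult hfin, if inc p i then (Nat.card {j : ι // inc p j} - 1) else 0) =
      h * (Fintype.card ι - 1) := by
    intro i _
    rw [← Finset.sum_filter]
    exact curve_sum hfin hcount i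
  rw [Finset.sum_congr rfl h3, Finset.sum_const, Finset.card_univ, smul_eq_mul]
  ring

theorem add_two_le (hh : 0 < h) (hd : 2 ≤ Fintype.card ι)
    (hcount : ∀ i j : ι, i ≠ j → {p : P | inc p i ∧ inc p j}.ncard = h)
    (hnone : ∀ p : P, ∃ i : ι, ¬ inc p i) : h + 2 ≤ #(mult hfin) := by
  obtain ⟨i, j, hij⟩ := Fintype.one_lt_card_iff.mp hd
  set A := (mult hfin).filter fun p => inc p i ∧ inc p j with hA
  have hAc : #A = h := card_pair hfin hcount hij
  obtain ⟨p, hp⟩ := Finset.card_pos.mp (hAc.symm ▸ hh : 0 < #A)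
  obtain ⟨k, hk⟩ := hnone p
  simp only [hA, Finset.mem_filter] at hp
  have key : ∀ i' j', inc p i' → inc p j' → i' ≠ j' →
      ∃ q ∈ mult hfin, inc q i' ∧ ¬ inc q j' := by
    intro i' j' hi' hj' hne
    have hki : i' ≠ k := fun he => hk (he ▸ hi')
    by_contra hcon
    push Not at hcon
    have hsub : (mult hfin).filter (fun q => inc q i' ∧ inc q k) ⊆
        ((mult hfin).filter (fun q => inc q i' ∧ inc q j')).erase p := by
      intro q hq
      rw [Finset.mem_filter] at hq
      rw [Finset.mem_erase, Finset.mem_filter]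
      exact ⟨fun he => hk (he ▸ hq.2.2), hq.1, hq.2.1, hcon q hq.1 hq.2.1⟩
    have := Finset.card_le_card hsub
    rw [card_pair hfin hcount hki, Finset.card_erase_of_mem
      (Finset.mem_filter.mpr ⟨hp.1, hi', hj'⟩), card_pair hfin hcount hne] at this
    omega
  obtain ⟨q₁, hq₁, hq₁i, hq₁j⟩ := key i j hp.2.1 hp.2.2 hij
  obtain ⟨q₂, hq₂, hq₂j, hq₂i⟩ := key j i hp.2.2 hp.2.1 hij.symm
  have hne : q₁ ≠ q₂ := fun he => hq₂i (he ▸ hq₁i)
  have hsub : insert q₁ (insert q₂ A) ⊆ mult hfin := by
    simp [Finset.insert_subset_iff, hq₁, hq₂, hA, Finset.filter_subset]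
  have := Finset.card_le_card hsub
  rw [Finset.card_insert_of_notMem (by simp [hA, hne, hq₁j]), Finset.card_insert_of_notMem
    (by simp [hA, hq₂i]), hAc] at this
  omega

theorem fisher (hh : 0 < h) (hd : 2 ≤ Fintype.card ι)
    (hcount : ∀ i j : ι, i ≠ j → {p : P | inc p i ∧ inc p j}.ncard = h)
    (hnone : ∀ p : P, ∃ i : ι, ¬ inc p i) : Fintype.card ι ≤ #(mult hfin) := by
  set M := mult hfin
  set c : ι → ℕ := fun i => #(M.filter fun p => inc p i)
  have hlt : ∀ i, h < c i := by
    intro i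
    obtain ⟨j, hji⟩ := Fintype.exists_ne_of_one_lt_card (by omega : 1 < Fintype.card ι) i
    have hsub : ∀ j, M.filter (fun p => inc p i ∧ inc p j) ⊆ M.filter (fun p => inc p i) :=
      fun j => by intro p; simp only [Finset.mem_filter]; tauto
    have hle : h ≤ c i := (card_pair hfin hcount hji.symm) ▸ Finset.card_le_card (hsub j)
    rcases hle.lt_or_eq with hlt | heq
    · exact hlt
    exfalso
    obtain ⟨p, hp⟩ := Finset.card_pos.mp (heq ▸ hh : 0 < c i)
    obtain ⟨k, hk⟩ := hnone p
    have hik : i ≠ k := fun he => hk (he ▸ (Finset.mem_filter.mp hp).2)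
    have heq2 := Finset.eq_of_subset_of_card_le (hsub k) (by rw [card_pair hfin hcount hik]; exact heq.symm.le)
    rw [← heq2] at hp
    exact hk (Finset.mem_filter.mp hp).2.2
  let N : (ι → ℚ) →ₗ[ℚ] (M → ℚ) :=
    LinearMap.pi fun p => ∑ i, (if inc (p : P) i then (1 : ℚ) else 0) • LinearMap.proj i
  have hN : Function.Injective N := by
    rw [← LinearMap.ker_eq_bot, LinearMap.ker_eq_bot']
    intro x hx
    have hxp : ∀ p ∈ M, ∑ i, (if inc p i then (1 : ℚ) else 0) * x i = 0 := by
      intro p hp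
      have := congrFun hx ⟨p, hp⟩
      simpa only [N, LinearMap.pi_apply, LinearMap.sum_apply, LinearMap.smul_apply, LinearMap.proj_apply, smul_eq_mul, Pi.zero_apply] using this
    have hsum : ∀ i, (h : ℚ) * ∑ j, x j + ((c i : ℚ) - h) * x i = 0 := by
      intro i
      have h0 : ∑ p ∈ M, (if inc p i then (1 : ℚ) else 0) *
          ∑ j, (if inc p j then (1 : ℚ) else 0) * x j = 0 :=
        Finset.sum_eq_zero fun p hp => by rw [hxp p hp, mul_zero]
      simp only [Finset.mul_sum, ← mul_assoc] at h0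
      rw [Finset.sum_comm] at h0
      simp only [← Finset.sum_mul] at h0
      have hcoef : ∀ j, ∑ p ∈ M, (if inc p i then (1 : ℚ) else 0) * (if inc p j then (1 : ℚ) else 0) =
          (if i = j then (c i : ℚ) else (h : ℚ)) := by
        intro j
        simp only [ite_zero_mul_ite_zero, mul_one, Finset.sum_boole]
        split_ifs with hij
        · subst hij; simp [c]
        · rw [card_pair hfin hcount hij]
      simp only [hcoef] at h0
      rw [← h0, Finset.mul_sum, ← Finset.add_sum_erase _ _ (Finset.mem_univ i),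
        ← Finset.add_sum_erase _ (fun j => (if i = j then (c i : ℚ) else (h : ℚ)) * x j) (Finset.mem_univ i)]
      have herase : ∀ j ∈ univ.erase i, (if i = j then (c i : ℚ) else (h : ℚ)) * x j = (h : ℚ) * x j :=
        fun j hj => by rw [if_neg (Finset.ne_of_mem_erase hj).symm]
      rw [Finset.sum_congr rfl herase]
      simp
      ring
    have hquad : (h : ℚ) * (∑ j, x j) ^ 2 + ∑ i, ((c i : ℚ) - h) * x i ^ 2 = 0 := by
      have : ∑ i, x i * ((h : ℚ) * ∑ j, x j + ((c i : ℚ) - h) * x i) = 0 :=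
        Finset.sum_eq_zero fun i _ => by rw [hsum i, mul_zero]
      rw [← this]
      simp only [mul_add, Finset.sum_add_distrib]
      congr 1
      · rw [← Finset.sum_mul]; ring
      · exact Finset.sum_congr rfl fun i _ => by ring
    have hpos : ∀ i, (0 : ℚ) < (c i : ℚ) - h := fun i => by
      have : (h : ℚ) < c i := by exact_mod_cast hlt i
      linarith
    have hz : ∑ i, ((c i : ℚ) - h) * x i ^ 2 = 0 := by
      have a1 : 0 ≤ (h : ℚ) * (∑ j, x j) ^ 2 := by positivity
      have a2 : 0 ≤ ∑ i, ((c i : ℚ) - h) * x i ^ 2 :=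
        Finset.sum_nonneg fun i _ => mul_nonneg (hpos i).le (sq_nonneg _)
      linarith
    funext i
    have := (Finset.sum_eq_zero_iff_of_nonneg fun i _ => mul_nonneg (hpos i).le (sq_nonneg (x i))).mp hz i (Finset.mem_univ i)
    simpa [(hpos i).ne'] using this
  have := LinearMap.finrank_le_finrank_of_injective hN
  simpa using this

end Groth.Misc8.Incidence
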