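import Mathlib.GroupTheory.Index
import Mathlib.LinearAlgebra.Matrix.ToLin
import Mathlib.Algebra.GCDMonoid.Finset
import Mathlib.RingTheory.Int.Basic
import Mathlib.Algebra.Module.ZMod
import Mathlib.Data.ZMod.Basic
import Mathlib.LinearAlgebra.Matrix.Rank
import Mathlib.Tactic

/-! Index computations for sublattices cut out by diagonal maps. -/

namespace Groth.Misc8.LatticeIndex

open Finset

variable {n : ℕ}

theorem card_quot {M : Type*} [AddCommGroup M] (I K : Submodule ℤ M) :
    Nat.card (K ⧸ I.comap K.subtype) = I.toAddSubgroup.relIndex K.toAddSubgroup := rfl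

theorem exists_sum_eq_gcd (s : Finset (Fin n)) (δ : Fin n → ℤ) :
    ∃ c : Fin n → ℤ, ∑ i ∈ s, c i * δ i = s.gcd δ := by
  classical
  induction s using Finset.induction_on with
  | empty => exact ⟨0, by simp⟩
  | insert a t ha ih =>
    obtain ⟨c, hc⟩ := ih
    obtain ⟨x, y, hxy⟩ := exists_gcd_eq_mul_add_mul (δ a) (t.gcd δ)
    refine ⟨fun i => if i = a then x else y * c i, ?_⟩
    have h : ∀ i ∈ t, (if i = a then x else y * c i) * δ i = y * (c i * δ i) := by
      intro i hi
      rw [if_neg (ne_of_mem_of_not_mem hi ha), mul_assoc]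
    simp only []
    rw [Finset.sum_insert ha, if_pos rfl, Finset.sum_congr rfl h, ← Finset.mul_sum, hc, Finset.gcd_insert,
      hxy]
    ring

variable (δ : Fin n → ℤ)

local notation "Dl" => Matrix.mulVecLin (Matrix.diagonal δ)
local notation "Sl" => (∑ i : Fin n, (LinearMap.proj i : (Fin n → ℤ) →ₗ[ℤ] ℤ))

theorem Sl_apply (x : Fin n → ℤ) : Sl x = ∑ i, x i := by simp

theorem Dl_apply (x : Fin n → ℤ) (i : Fin n) : Dl x i = δ i * x i := by
  simp [Matrix.mulVec_diagonal]

theorem Dl_injective (hδ : ∀ i, δ i ≠ 0) : Function.Injective Dl := by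
  intro x y h
  funext i
  have := congrFun h i
  rw [Dl_apply, Dl_apply] at this
  exact mul_left_cancel₀ (hδ i) this

theorem index_range_diag : (LinearMap.range Dl).toAddSubgroup.index = ∏ i, (δ i).natAbs := by
  let f : (Fin n → ℤ) →+ (∀ i, ZMod (δ i).natAbs) :=
    AddMonoidHom.mk' (fun x i => (x i : ZMod (δ i).natAbs)) (fun x y => by funext i; simp)
  have hk : (LinearMap.range Dl).toAddSubgroup = f.ker := by
    ext x
    constructor
    · rintro ⟨y, rfl⟩
      funext i
      show ((Dl y i : ℤ) : ZMod (δ i).natAbs) = 0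
      rw [ZMod.intCast_zmod_eq_zero_iff_dvd, Dl_apply]
      exact Int.natAbs_dvd.mpr (dvd_mul_right _ _)
    · intro hx
      have h : ∀ i, δ i ∣ x i := fun i =>
        Int.natAbs_dvd.mp ((ZMod.intCast_zmod_eq_zero_iff_dvd _ _).mp (congrFun hx i))
      choose y hy using h
      exact ⟨y, funext fun i => by rw [Dl_apply, hy i]⟩
  have hs : Function.Surjective f := fun x =>
    ⟨fun i => (x i).cast, funext fun i => ZMod.intCast_zmod_cast _⟩
  rw [hk, AddSubgroup.index_ker, AddMonoidHom.range_eq_top.mpr hs, AddSubgroup.card_top, Nat.card_pi]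
  simp [Nat.card_zmod]

theorem index_zmultiples (d : ℤ) : (AddSubgroup.zmultiples d).index = d.natAbs :=
  Int.index_zmultiples d

theorem prod_natAbs : ((∏ i, (δ i).natAbs : ℕ) : ℤ) = |∏ i, δ i| := by
  rw [Finset.abs_prod, Nat.cast_prod]
  exact Finset.prod_congr rfl fun i _ => Int.natCast_natAbs _

theorem map_range_eq : ((LinearMap.range Dl).toAddSubgroup).map (Sl).toAddMonoidHom =
    AddSubgroup.zmultiples (univ.gcd δ) := by
  apply le_antisymm
  · rintro _ ⟨_, ⟨y, rfl⟩, rfl⟩
    rw [Int.mem_zmultiples_iff]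
    show univ.gcd δ ∣ Sl (Dl y)
    rw [Sl_apply]
    refine Finset.dvd_sum fun i _ => ?_
    rw [Dl_apply]
    exact dvd_mul_of_dvd_left (Finset.gcd_dvd (Finset.mem_univ i)) _
  · rw [AddSubgroup.zmultiples_le]
    obtain ⟨c, hc⟩ := exists_sum_eq_gcd univ δ
    refine ⟨Dl c, ⟨c, rfl⟩, ?_⟩
    show Sl (Dl c) = _
    rw [Sl_apply, ← hc]
    exact Finset.sum_congr rfl fun i _ => by rw [Dl_apply, mul_comm]

theorem relIndex_range_kerS (hn : 0 < n) :
    (LinearMap.range Dl).toAddSubgroup.relIndex (LinearMap.ker Sl).toAddSubgroup * (univ.gcd δ).natAbs =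
      ∏ i, (δ i).natAbs := by
  classical
  have hS : Function.Surjective (Sl).toAddMonoidHom := fun z =>
    ⟨Pi.single ⟨0, hn⟩ z, by
      show Sl (Pi.single (⟨0, hn⟩ : Fin n) z) = z
      rw [Sl_apply, Finset.sum_pi_single']
      simp⟩
  set H := (LinearMap.range Dl).toAddSubgroup
  set K := (LinearMap.ker Sl).toAddSubgroup
  rw [← index_range_diag, ← AddSubgroup.relIndex_mul_index (le_sup_right : H ≤ K ⊔ H),
    AddSubgroup.relIndex_sup_right]
  congr 1
  have h := AddSubgroup.index_map_eq (H := K ⊔ H) hS le_sup_left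
  rw [← h, AddSubgroup.map_sup, (AddSubgroup.map_eq_bot_iff K).mpr (le_refl _), bot_sup_eq, map_range_eq,
    index_zmultiples]

theorem relIndex_comp (hn : 0 < n) (hδ : ∀ i, δ i ≠ 0) (I : Submodule ℤ (Fin n → ℤ))
    (hI : I ≤ LinearMap.ker (Sl ∘ₗ Dl)) :
    I.toAddSubgroup.relIndex (LinearMap.ker (Sl ∘ₗ Dl)).toAddSubgroup * ∏ i, (δ i).natAbs =
      (univ.gcd δ).natAbs * (I.map Dl).toAddSubgroup.relIndex (LinearMap.ker Sl).toAddSubgroup := by
  set R := (LinearMap.range Dl).toAddSubgroup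
  set K := (LinearMap.ker Sl).toAddSubgroup
  have h1 : (LinearMap.ker (Sl ∘ₗ Dl)).toAddSubgroup.map (Dl).toAddMonoidHom = R ⊓ K := by
    ext x
    constructor
    · rintro ⟨y, hy, rfl⟩
      exact ⟨⟨y, rfl⟩, hy⟩
    · rintro ⟨⟨y, rfl⟩, hy⟩
      exact ⟨y, hy, rfl⟩
  have h2 : I.toAddSubgroup.map (Dl).toAddMonoidHom = (I.map Dl).toAddSubgroup := rfl
  rw [← AddSubgroup.relIndex_map_map_of_injective (f := (Dl).toAddMonoidHom) _ _ (Dl_injective δ hδ), h1, h2,
    ← relIndex_range_kerS δ hn]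
  have hle : (I.map Dl).toAddSubgroup ≤ R ⊓ K := by
    rw [← h1, ← h2]
    exact AddSubgroup.map_mono hI
  rw [← AddSubgroup.relIndex_mul_relIndex _ _ _ hle inf_le_right, AddSubgroup.inf_relIndex_right]
  ring

theorem ker_eq_multiples (A : Matrix (Fin n) (Fin n) ℤ) (hn : 0 < n) (hA : A.rank = n - 1)
    (v : Fin n → ℤ) (hv : Matrix.mulVecLin A v = 0) (c : Fin n → ℤ) (hc : ∑ i, c i * v i = 1)
    (w : Fin n → ℤ) (hw : Matrix.mulVecLin A w = 0) : ∃ k : ℤ, w = k • v := by
  have h : Module.finrank ℤ (LinearMap.ker (Matrix.mulVecLin A)) = 1 := by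
    have h1 := Submodule.finrank_quotient_add_finrank (LinearMap.ker (Matrix.mulVecLin A))
    rw [(Matrix.mulVecLin A).quotKerEquivRange.finrank_eq, Module.finrank_pi, Fintype.card_fin] at h1
    rw [Matrix.rank] at hA
    omega
  have hnli : ¬ LinearIndependent ℤ ![(⟨w, hw⟩ : LinearMap.ker (Matrix.mulVecLin A)), ⟨v, hv⟩] := fun hl => by
    have := hl.fintype_card_le_finrank
    simp [h] at this
  rw [LinearIndependent.pair_iff] at hnli
  push Not at hnli
  obtain ⟨a, b, hab, hne⟩ := hnli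
  have hab' : a • w + b • v = 0 := congrArg Subtype.val hab
  have hb : a * (∑ i, c i * w i) + b = 0 := by
    have := congrArg (fun x : Fin n → ℤ => ∑ i, c i * x i) hab'
    simp only [Pi.add_apply, Pi.smul_apply, smul_eq_mul, Pi.zero_apply, mul_zero, Finset.sum_const_zero,
      mul_add, Finset.sum_add_distrib, mul_left_comm (c _), ← Finset.mul_sum, hc, mul_one] at this
    exact this
  refine ⟨∑ i, c i * w i, ?_⟩
  have ha : a ≠ 0 := fun ha => hne ha (by simpa [ha] using hb)
  funext i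
  have := congrFun hab' i
  simp only [Pi.add_apply, Pi.smul_apply, smul_eq_mul, Pi.zero_apply] at this ⊢
  apply mul_left_cancel₀ ha
  linear_combination this - v i * hb

theorem relIndex_range_ker (hδ : ∀ i, δ i ≠ 0) (hn : 0 < n) (A : Matrix (Fin n) (Fin n) ℤ)
    (hA : A.rank = n - 1) (hAδ : Matrix.mulVecLin A δ = 0) :
    (LinearMap.range Dl).toAddSubgroup.relIndex (LinearMap.ker (Matrix.mulVecLin A)).toAddSubgroup =
      (univ.gcd δ).natAbs := by
  classical
  set g := univ.gcd δ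
  have hg : g ≠ 0 := fun h => hδ ⟨0, hn⟩ (Finset.gcd_eq_zero_iff.mp h _ (Finset.mem_univ _))
  set v : Fin n → ℤ := fun i => δ i / g
  have hgv : ∀ i, δ i = g * v i := fun i => (Int.mul_ediv_cancel' (Finset.gcd_dvd (Finset.mem_univ i))).symm
  obtain ⟨c, hc⟩ := exists_sum_eq_gcd univ δ
  have hc' : ∑ i, c i * v i = 1 := by
    apply mul_left_cancel₀ hg
    rw [mul_one, Finset.mul_sum]
    refine Eq.trans (Finset.sum_congr rfl fun i _ => ?_) hc
    rw [hgv i]; ring
  have hv : Matrix.mulVecLin A v = 0 := by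
    have : g • Matrix.mulVecLin A v = 0 := by
      rw [← map_smul, ← hAδ]
      congr 1
      funext i
      simp [hgv i]
    exact (smul_eq_zero.mp this).resolve_left hg
  let e : ℤ →+ (Fin n → ℤ) := (LinearMap.toSpanSingleton ℤ _ v).toAddMonoidHom
  have he : Function.Injective e := fun a b h => by
    have h' : ∑ i, c i * (a • v) i = ∑ i, c i * (b • v) i :=
      congrArg (fun x : Fin n → ℤ => ∑ i, c i * x i) h
    simpa [mul_left_comm (c _), ← Finset.mul_sum, hc'] using h'
  have h1 : (LinearMap.ker (Matrix.mulVecLin A)).toAddSubgroup = (⊤ : AddSubgroup ℤ).map e := by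
    ext w
    constructor
    · intro hw
      obtain ⟨k, rfl⟩ := ker_eq_multiples A hn hA v hv c hc' w hw
      exact ⟨k, trivial, rfl⟩
    · rintro ⟨k, -, rfl⟩
      show Matrix.mulVecLin A (k • v) = 0
      rw [map_smul, hv, smul_zero]
  have h2 : (LinearMap.range Dl).toAddSubgroup ⊓ (⊤ : AddSubgroup ℤ).map e = (AddSubgroup.zmultiples g).map e := by
    ext w
    constructor
    · rintro ⟨⟨y, hy⟩, k, -, rfl⟩
      refine ⟨k, ?_, rfl⟩
      show k ∈ AddSubgroup.zmultiples g
      rw [Int.mem_zmultiples_iff]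
      refine ⟨∑ i, c i * (y i * v i), ?_⟩
      calc k = ∑ i, c i * (k * v i) := by simp [mul_left_comm (c _), ← Finset.mul_sum, hc']
        _ = ∑ i, c i * (δ i * y i) := Finset.sum_congr rfl fun i _ => by
          rw [← Dl_apply δ y i, hy]; rfl
        _ = _ := by
          rw [Finset.mul_sum]
          exact Finset.sum_congr rfl fun i _ => by rw [hgv i]; ring
    · rintro ⟨k, hk, rfl⟩
      obtain ⟨m, rfl⟩ := Int.mem_zmultiples_iff.mp hk
      refine ⟨⟨fun _ => m, funext fun i => ?_⟩, _, trivial, rfl⟩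
      rw [Dl_apply, hgv i]
      show g * v i * m = (g * m) * v i
      ring
  rw [← AddSubgroup.inf_relIndex_right, h1, h2, AddSubgroup.relIndex_map_map_of_injective _ _ he,
    AddSubgroup.relIndex_top_right, index_zmultiples]

theorem relIndex_image (hδ : ∀ i, δ i ≠ 0) (hn : 0 < n) (A : Matrix (Fin n) (Fin n) ℤ)
    (hA : A.rank = n - 1) (hAδ : Matrix.mulVecLin A δ = 0) :
    ((LinearMap.range Dl).map (Matrix.mulVecLin A)).toAddSubgroup.relIndex
        (LinearMap.range (Matrix.mulVecLin A)).toAddSubgroup * (univ.gcd δ).natAbs =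
      ∏ i, (δ i).natAbs := by
  set R := (LinearMap.range Dl).toAddSubgroup
  set f := (Matrix.mulVecLin A).toAddMonoidHom
  have hrange : (LinearMap.range (Matrix.mulVecLin A)).toAddSubgroup = (⊤ : AddSubgroup _).map f := by
    ext x
    exact ⟨fun ⟨y, hy⟩ => ⟨y, trivial, hy⟩, fun ⟨y, _, hy⟩ => ⟨y, hy⟩⟩
  have himg : ((LinearMap.range Dl).map (Matrix.mulVecLin A)).toAddSubgroup = R.map f := rfl
  have hker : f.ker = (LinearMap.ker (Matrix.mulVecLin A)).toAddSubgroup := rfl
  rw [hrange, himg, AddSubgroup.relIndex_map_map, hker, top_sup_eq, AddSubgroup.relIndex_top_right,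
    ← index_range_diag, ← relIndex_range_ker δ hδ hn A hA hAδ,
    ← AddSubgroup.relIndex_mul_index (le_sup_left : R ≤ R ⊔ (LinearMap.ker (Matrix.mulVecLin A)).toAddSubgroup),
    AddSubgroup.relIndex_sup_left]
  ring

theorem natAbs_gcd : ((univ.gcd δ).natAbs : ℤ) = univ.gcd δ := by
  have h : normalize (univ.gcd δ) = univ.gcd δ := Finset.normalize_gcd
  rw [← Int.abs_eq_normalize] at h
  rw [Int.natCast_natAbs, h]

end Groth.Misc8.LatticeIndex
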