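import Mathlib.Algebra.Polynomial.Taylor
import Mathlib.Algebra.Order.Field.Rat
import Mathlib.Order.PiLex
import Mathlib.Tactic

/-! Truncated reduced coefficient vectors of a polynomial and of its backward difference. -/

namespace Groth.Misc8.LexRatio

open Polynomial Finset

theorem toLex_le_iff_of_triangular {ℓ : ℕ} (x x' y y' : Fin ℓ → ℚ)
    (h : ∀ j, (∀ i, i < j → x i = x' i) → y j - y' j = x j - x' j) :
    toLex x ≤ toLex x' ↔ toLex y ≤ toLex y' := by
  have hb : ∀ (n : ℕ) (j : Fin ℓ), (j : ℕ) = n →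
      ((∀ i, i < j → x i = x' i) ↔ (∀ i, i < j → y i = y' i)) := by
    intro n
    induction n using Nat.strong_induction_on with
    | _ n ih =>
      intro j hj
      constructor
      · intro hx i hi
        have := h i (fun k hk => hx k (hk.trans hi))
        rw [hx i hi, sub_self, sub_eq_zero] at this
        exact this
      · intro hy i hi
        have hxi := (ih i (hj ▸ hi) i rfl).mpr (fun k hk => hy k (hk.trans hi))
        have := h i hxi
        rw [hy i hi, sub_self, eq_comm, sub_eq_zero] at this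
        exact this
  have key : ∀ i, ((∀ j, j < i → x j = x' j) ∧ x i < x' i) ↔ ((∀ j, j < i → y j = y' j) ∧ y i < y' i) := by
    intro i
    rw [← hb i i rfl]
    refine and_congr_right fun hx => ?_
    have := h i hx
    constructor <;> intro <;> linarith
  have heq : x = x' ↔ y = y' := by
    constructor
    · rintro rfl
      funext i
      have := h i (fun _ _ => rfl)
      linarith
    · rintro rfl
      funext i
      have := h i ((hb i i rfl).mpr fun _ _ => rfl)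
      linarith
  have hlt : ∀ u v : Fin ℓ → ℚ, toLex u < toLex v ↔ ∃ i, (∀ j, j < i → u j = v j) ∧ u i < v i :=
    fun u v => Iff.rfl
  rw [le_iff_eq_or_lt, le_iff_eq_or_lt, toLex_inj, toLex_inj]
  exact or_congr heq ((hlt x x').trans ((exists_congr fun i => key i).trans (hlt y y').symm))

theorem coeff_sub_comp (d : ℕ) (a : ℚ) (P : ℚ[X]) (hP : P.natDegree = d) (J : ℕ) (hJ : J + 1 ≤ d) :
    (P - P.comp (X - C a)).coeff (d - 1 - J) =
      ∑ t ∈ Finset.range (J + 1), -((-a) ^ (J + 1 - t) * ((d - t).choose (d - 1 - J) : ℚ)) * P.coeff (d - t) := by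
  have hcomp : (P.comp (X - C a)).coeff (d - 1 - J) =
      ∑ k ∈ Finset.range (d + 1), P.coeff k * ((-a) ^ (k - (d - 1 - J)) * (k.choose (d - 1 - J) : ℚ)) := by
    rw [Polynomial.comp_eq_sum_left, Polynomial.sum_over_range' _ (by simp) (d + 1) (by omega),
      Polynomial.finsetSum_coeff]
    refine Finset.sum_congr rfl fun k _ => ?_
    rw [Polynomial.coeff_C_mul, sub_eq_add_neg, ← map_neg, Polynomial.coeff_X_add_C_pow]
  rw [Polynomial.coeff_sub, hcomp, ← Finset.sum_range_reflect, show d + 1 = (J + 1) + (d - J) by omega,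
    Finset.sum_range_add]
  have h0 : ∀ s ∈ Finset.range (d - J),
      P.coeff (J + 1 + (d - J) - 1 - (J + 1 + s)) * ((-a) ^ (J + 1 + (d - J) - 1 - (J + 1 + s) - (d - 1 - J)) *
        ((J + 1 + (d - J) - 1 - (J + 1 + s)).choose (d - 1 - J) : ℚ)) =
      if s = 0 then P.coeff (d - 1 - J) else 0 := by
    intro s hs
    rw [Finset.mem_range] at hs
    rw [show J + 1 + (d - J) - 1 - (J + 1 + s) = d - 1 - J - s by omega]
    split_ifs with h
    · subst h; simp
    · rw [Nat.choose_eq_zero_of_lt (by omega)]; simp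
  rw [Finset.sum_congr rfl h0, Finset.sum_ite_eq', if_pos (Finset.mem_range.mpr (by omega))]
  have h1 : ∀ t ∈ Finset.range (J + 1),
      -((-a) ^ (J + 1 - t) * ((d - t).choose (d - 1 - J) : ℚ)) * P.coeff (d - t) =
      -(P.coeff (J + 1 + (d - J) - 1 - t) * ((-a) ^ (J + 1 + (d - J) - 1 - t - (d - 1 - J)) *
        ((J + 1 + (d - J) - 1 - t).choose (d - 1 - J) : ℚ))) := by
    intro t ht
    rw [Finset.mem_range] at ht
    rw [show J + 1 + (d - J) - 1 - t = d - t by omega, show d - t - (d - 1 - J) = J + 1 - t by omega]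
    ring
  rw [Finset.sum_congr rfl h1, Finset.sum_neg_distrib]
  ring

theorem sub_eq (d ℓ : ℕ) (hℓ : ℓ + 1 ≤ d) (a : ℚ) (ha : a ≠ 0) (P Q : ℚ[X]) (hP : P.natDegree = d)
    (hQ : Q.natDegree = d) (hP0 : P ≠ 0) (hQ0 : Q ≠ 0) (j : Fin ℓ)
    (hlt : ∀ i : Fin ℓ, i < j →
      (P.coeff (d - 1 - (i : ℕ)) * (Nat.factorial (d - 1 - (i : ℕ)) : ℚ)) / (P.coeff d * (Nat.factorial d : ℚ)) =
      (Q.coeff (d - 1 - (i : ℕ)) * (Nat.factorial (d - 1 - (i : ℕ)) : ℚ)) / (Q.coeff d * (Nat.factorial d : ℚ))) :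
    ((P - P.comp (X - C a)).coeff ((d - 1) - 1 - (j : ℕ)) * (Nat.factorial ((d - 1) - 1 - (j : ℕ)) : ℚ)) /
        ((P - P.comp (X - C a)).coeff (d - 1) * (Nat.factorial (d - 1) : ℚ)) -
      ((Q - Q.comp (X - C a)).coeff ((d - 1) - 1 - (j : ℕ)) * (Nat.factorial ((d - 1) - 1 - (j : ℕ)) : ℚ)) /
        ((Q - Q.comp (X - C a)).coeff (d - 1) * (Nat.factorial (d - 1) : ℚ)) =
    (P.coeff (d - 1 - (j : ℕ)) * (Nat.factorial (d - 1 - (j : ℕ)) : ℚ)) / (P.coeff d * (Nat.factorial d : ℚ)) -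
      (Q.coeff (d - 1 - (j : ℕ)) * (Nat.factorial (d - 1 - (j : ℕ)) : ℚ)) / (Q.coeff d * (Nat.factorial d : ℚ)) := by
  have hpd : P.coeff d ≠ 0 := by rw [← hP]; exact Polynomial.leadingCoeff_ne_zero.mpr hP0
  have hqd : Q.coeff d ≠ 0 := by rw [← hQ]; exact Polynomial.leadingCoeff_ne_zero.mpr hQ0
  have hj := j.isLt
  obtain ⟨m, hm⟩ : ∃ m, d = (j : ℕ) + m + 2 := ⟨d - j - 2, by omega⟩
  have hlead : ∀ (R : ℚ[X]), R.natDegree = d → (R - R.comp (X - C a)).coeff (d - 1) = a * d * R.coeff d := by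
    intro R hR
    have := coeff_sub_comp d a R hR 0 (by omega)
    simp [show d.choose (d - 1) = d by rw [Nat.choose_symm (by omega), Nat.choose_one_right]] at this
    rw [Polynomial.coeff_sub]
    exact this
  have heq : ∀ t, t ≤ (j : ℕ) → P.coeff (d - t) / P.coeff d = Q.coeff (d - t) / Q.coeff d := by
    intro t ht
    cases t with
    | zero => simp [hpd, hqd]
    | succ t =>
      have := hlt ⟨t, by omega⟩ (Fin.mk_lt_mk.mpr (by omega))
      rw [show d - (t + 1) = d - 1 - t by omega]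
      rw [mul_div_mul_comm, mul_div_mul_comm] at this
      exact mul_right_cancel₀ (by positivity) this
  have hk : (d - 1) - 1 - (j : ℕ) = d - 1 - ((j : ℕ) + 1) := by omega
  rw [hk, hlead P hP, hlead Q hQ, coeff_sub_comp d a P hP _ (by omega), coeff_sub_comp d a Q hQ _ (by omega),
    Finset.sum_range_succ _ ((j : ℕ) + 1), Finset.sum_range_succ _ ((j : ℕ) + 1)]
  have hs : (∑ t ∈ Finset.range ((j : ℕ) + 1),
        -((-a) ^ ((j : ℕ) + 1 + 1 - t) * ((d - t).choose (d - 1 - ((j : ℕ) + 1)) : ℚ)) * P.coeff (d - t)) / P.coeff d =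
      (∑ t ∈ Finset.range ((j : ℕ) + 1),
        -((-a) ^ ((j : ℕ) + 1 + 1 - t) * ((d - t).choose (d - 1 - ((j : ℕ) + 1)) : ℚ)) * Q.coeff (d - t)) / Q.coeff d := by
    rw [Finset.sum_div, Finset.sum_div]
    refine Finset.sum_congr rfl fun t ht => ?_
    rw [mul_div_assoc, mul_div_assoc, heq t (Nat.lt_succ_iff.mp (Finset.mem_range.mp ht))]
  generalize hA : (∑ t ∈ Finset.range ((j : ℕ) + 1),
        -((-a) ^ ((j : ℕ) + 1 + 1 - t) * ((d - t).choose (d - 1 - ((j : ℕ) + 1)) : ℚ)) * P.coeff (d - t)) = A at hs ⊢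
  generalize hB : (∑ t ∈ Finset.range ((j : ℕ) + 1),
        -((-a) ^ ((j : ℕ) + 1 + 1 - t) * ((d - t).choose (d - 1 - ((j : ℕ) + 1)) : ℚ)) * Q.coeff (d - t)) = B at hs ⊢
  subst hm
  rw [show (j : ℕ) + m + 2 - ((j : ℕ) + 1) = m + 1 by omega, show (j : ℕ) + m + 2 - 1 - ((j : ℕ) + 1) = m by omega,
    show (j : ℕ) + m + 2 - 1 - (j : ℕ) = m + 1 by omega, show (j : ℕ) + m + 2 - 1 = (j : ℕ) + m + 1 by omega,
    show (j : ℕ) + 1 + 1 - ((j : ℕ) + 1) = 1 by omega, Nat.choose_succ_self_right, Nat.factorial_succ m]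
  rw [show (j : ℕ) + m + 2 = ((j : ℕ) + m + 1) + 1 from rfl] at *
  rw [Nat.factorial_succ ((j : ℕ) + m + 1)]
  rw [div_eq_div_iff hpd hqd] at hs
  have hf : ((Nat.factorial ((j : ℕ) + m + 1)) : ℚ) ≠ 0 := by positivity
  push_cast
  field_simp
  linear_combination hs

end Groth.Misc8.LexRatio
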