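import Mathlib.RingTheory.MvPowerSeries.Substitution
import Mathlib.RingTheory.MvPowerSeries.Order
import Mathlib.RingTheory.MvPowerSeries.Expand
import Mathlib.RingTheory.PowerSeries.Substitution
import Mathlib.RingTheory.FormalGroup.Basic
import Mathlib.RingTheory.DiscreteValuationRing.Basic
import Mathlib.FieldTheory.Finite.Basic
import Mathlib.Tactic

/-! The Lubin–Tate lemma: series commuting with `π T + T ^ q`. -/

namespace Groth.Misc8.LT

open MvPowerSeries Finsupp
open scoped Classical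

universe u

variable {A : Type*} [CommRing A] {σ τ : Type*} [Finite σ] [Finite τ]

noncomputable def fX (π : A) (q : ℕ) (i : σ) : MvPowerSeries σ A := C π * X i + X i ^ q

noncomputable def E (ε π : A) (q : ℕ) (φ : MvPowerSeries σ A) : MvPowerSeries σ A :=
  C π * φ + C ε * φ ^ q - subst (fX π q) φ

theorem constantCoeff_fX (π : A) {q : ℕ} (hq : q ≠ 0) (i : σ) : constantCoeff (fX π q i) = 0 := by
  simp [fX, zero_pow hq]

theorem hasSubst_fX (π : A) {q : ℕ} (hq : q ≠ 0) : HasSubst (fX (σ := σ) π q) :=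
  hasSubst_of_constantCoeff_zero (constantCoeff_fX π hq)

theorem coeff_prod_fX (π : A) {q : ℕ} (hq : 2 ≤ q) (e m : σ →₀ ℕ) (h : m.degree ≤ e.degree) :
    coeff m (e.prod fun i k => fX π q i ^ k) = if e = m then π ^ e.degree else 0 := by
  classical
  have hfac : ∀ i : σ, fX π q i = X i * (C π + X i ^ (q - 1)) := by
    intro i
    rw [fX, mul_add, mul_comm (C π), ← pow_succ', Nat.sub_add_cancel (by omega : 1 ≤ q)]
  simp only [hfac, mul_pow, Finsupp.prod_mul]
  rw [show (e.prod fun i k => (X i : MvPowerSeries σ A) ^ k) = monomial e 1 from (monomial_one_eq e).symm,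
    coeff_monomial_mul]
  split_ifs with hle he he
  · subst he
    rw [one_mul, tsub_self, coeff_zero_eq_constantCoeff_apply, map_finsuppProd, Finsupp.prod,
      Finsupp.degree_apply, ← Finset.prod_pow_eq_pow_sum]
    refine Finset.prod_congr rfl fun i _ => ?_
    simp [zero_pow (by omega : q - 1 ≠ 0)]
  · exfalso
    apply he
    have hm : m = e + (m - e) := (add_tsub_cancel_of_le hle).symm
    have : (m - e).degree = 0 := by
      have := congrArg Finsupp.degree hm
      rw [map_add] at this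
      omega
    rw [Finsupp.degree_eq_zero_iff] at this
    rw [hm, this, add_zero]
  · exact absurd he.le hle
  · rfl

theorem coeff_subst_fX (π : A) {q : ℕ} (hq : 2 ≤ q) (δ : MvPowerSeries σ A) (m : σ →₀ ℕ)
    (hδ : ∀ e, e.degree < m.degree → coeff e δ = 0) :
    coeff m (subst (fX π q) δ) = π ^ m.degree * coeff m δ := by
  rw [coeff_subst (hasSubst_fX π (by omega)), finsum_eq_single _ m]
  · rw [coeff_prod_fX π hq m m le_rfl, if_pos rfl, smul_eq_mul, mul_comm]
  · intro e he
    by_cases h : e.degree < m.degree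
    · rw [hδ e h, zero_smul]
    · rw [coeff_prod_fX π hq e m (not_lt.mp h), if_neg he, smul_zero]

theorem coeff_pow_eq {q : ℕ} (hq : 2 ≤ q) (φ ψ : MvPowerSeries σ A) (hφ : φ.constantCoeff = 0)
    (hψ : ψ.constantCoeff = 0) (m : σ →₀ ℕ) (h : ∀ e, e.degree < m.degree → coeff e φ = coeff e ψ) :
    coeff m (φ ^ q) = coeff m (ψ ^ q) := by
  rw [← sub_eq_zero, ← map_sub, ← geom_sum₂_mul]
  apply coeff_of_lt_order
  refine lt_of_lt_of_le ?_ le_order_mul
  have h1 : ((1 : ℕ) : ℕ∞) ≤ (∑ i ∈ Finset.range q, φ ^ i * ψ ^ (q - 1 - i)).order := by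
    rw [Nat.cast_one, one_le_order_iff_constCoeff_eq_zero, map_sum]
    refine Finset.sum_eq_zero fun i hi => ?_
    rw [Finset.mem_range] at hi
    rcases Nat.eq_zero_or_pos i with rfl | hi0
    · simp [hψ, zero_pow (by omega : q - 1 ≠ 0)]
    · simp [hφ, zero_pow hi0.ne']
  have h2 : (m.degree : ℕ∞) ≤ (φ - ψ).order :=
    nat_le_order fun e he => by rw [map_sub, h e he, sub_self]
  calc (m.degree : ℕ∞) < ((1 + m.degree : ℕ) : ℕ∞) := by exact_mod_cast Nat.lt_one_add_iff.mpr le_rfl
    _ = ((1 : ℕ) : ℕ∞) + (m.degree : ℕ∞) := by push_cast; rfl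
    _ ≤ _ := add_le_add h1 h2

theorem key (ε π : A) {q : ℕ} (hq : 2 ≤ q) (φ ψ : MvPowerSeries σ A) (hφ : φ.constantCoeff = 0)
    (hψ : ψ.constantCoeff = 0) (m : σ →₀ ℕ) (h : ∀ e, e.degree < m.degree → coeff e φ = coeff e ψ) :
    coeff m (E ε π q φ) = coeff m (E ε π q ψ) + (π - π ^ m.degree) * (coeff m φ - coeff m ψ) := by
  have hs := coeff_subst_fX π hq (φ - ψ) m (fun e he => by rw [map_sub, h e he, sub_self])
  rw [subst_sub (hasSubst_fX π (by omega)), map_sub, map_sub] at hs
  simp only [E, map_sub, map_add, coeff_C_mul, coeff_pow_eq hq φ ψ hφ hψ m h]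
  linear_combination -hs

theorem exists_of_degree_eq_one {m : σ →₀ ℕ} (hm : m.degree = 1) : ∃ i, m = single i 1 := by
  have hne : m ≠ 0 := fun h => by rw [h, map_zero] at hm; exact zero_ne_one hm
  obtain ⟨i, hi⟩ : ∃ i, m i ≠ 0 := by
    by_contra! hc
    exact hne (Finsupp.ext hc)
  refine ⟨i, ?_⟩
  have hle : single i 1 ≤ m := Finsupp.single_le_iff.mpr (Nat.one_le_iff_ne_zero.mpr hi)
  have h2 := congrArg Finsupp.degree (add_tsub_cancel_of_le hle)
  rw [map_add, Finsupp.degree_single, hm] at h2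
  have h3 : m - single i 1 = 0 := (Finsupp.degree_eq_zero_iff _).mp (by omega)
  conv_lhs => rw [← add_tsub_cancel_of_le hle, h3, add_zero]

theorem unique [IsDomain A] (ε π : A) {q : ℕ} (hq : 2 ≤ q) (hπ : ∀ n, 2 ≤ n → π - π ^ n ≠ 0)
    {φ ψ : MvPowerSeries σ A} (hφ : φ.constantCoeff = 0) (hψ : ψ.constantCoeff = 0)
    (h1 : ∀ i, coeff (single i 1) φ = coeff (single i 1) ψ)
    (hE : E ε π q φ = 0) (hE' : E ε π q ψ = 0) : φ = ψ := by
  have main : ∀ n (m : σ →₀ ℕ), m.degree = n → coeff m φ = coeff m ψ := by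
    intro n
    induction n using Nat.strong_induction_on with
    | _ n ih =>
      intro m hm
      rcases Nat.lt_or_ge n 2 with hn | hn
      · interval_cases n
        · rw [(Finsupp.degree_eq_zero_iff m).mp hm, coeff_zero_eq_constantCoeff_apply,
            coeff_zero_eq_constantCoeff_apply, hφ, hψ]
        · obtain ⟨i, rfl⟩ := exists_of_degree_eq_one hm
          exact h1 i
      · have := key ε π hq φ ψ hφ hψ m (fun e he => ih _ (hm ▸ he) e rfl)
        rw [hE, hE', map_zero, zero_add, eq_comm, mul_eq_zero] at this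
        exact sub_eq_zero.mp (this.resolve_left (hπ _ (hm ▸ hn)))
  ext m
  exact main _ m rfl

theorem exists_solution (ε π : A) {q : ℕ} (hq : 2 ≤ q) (L : σ → A)
    (hsolve : ∀ (ψ : MvPowerSeries σ A), ψ.constantCoeff = 0 → ∀ m : σ →₀ ℕ, 2 ≤ m.degree →
      ∃ c, coeff m (E ε π q ψ) + (π - π ^ m.degree) * c = 0) :
    ∃ φ : MvPowerSeries σ A, φ.constantCoeff = 0 ∧ (∀ i, coeff (single i 1) φ = L i) ∧ E ε π q φ = 0 := by
  classical
  let sol : MvPowerSeries σ A → (σ →₀ ℕ) → A := fun ψ m =>
    if h : ψ.constantCoeff = 0 ∧ 2 ≤ m.degree then (hsolve ψ h.1 m h.2).choose else 0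
  let base : MvPowerSeries σ A := fun m => ∑ᶠ i, if m = single i 1 then L i else 0
  let s : ℕ → MvPowerSeries σ A := Nat.rec base fun n ψ => fun m =>
    if m.degree = n + 2 then sol ψ m else ψ m
  have hs : ∀ n m, coeff m (s (n + 1)) = if m.degree = n + 2 then sol (s n) m else coeff m (s n) := fun n m => rfl
  have hbase : ∀ m, coeff m base = ∑ᶠ i, if m = single i 1 then L i else 0 := fun m => rfl
  have hdeg0 : ∀ n (m : σ →₀ ℕ), n + 2 ≤ m.degree → coeff m (s n) = 0 := by
    intro n
    induction n with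
    | zero =>
      intro m hm
      rw [show s 0 = base from rfl, hbase]
      refine finsum_eq_zero_of_forall_eq_zero fun i => if_neg fun h => ?_
      rw [h, Finsupp.degree_single] at hm
      omega
    | succ n ih =>
      intro m hm
      rw [hs, if_neg (by omega), ih m (by omega)]
  have hstab : ∀ n k (m : σ →₀ ℕ), m.degree ≤ n + 1 → coeff m (s (n + k)) = coeff m (s n) := by
    intro n k
    induction k with
    | zero => intro m _; rfl
    | succ k ih => intro m hm; rw [← add_assoc, hs, if_neg (by omega), ih m hm]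
  let φ : MvPowerSeries σ A := fun m => coeff m (s m.degree)
  have hφs : ∀ n (m : σ →₀ ℕ), m.degree ≤ n + 1 → coeff m φ = coeff m (s n) := by
    intro n m hm
    change coeff m (s m.degree) = coeff m (s n)
    rcases le_total n m.degree with h | h
    · obtain ⟨k, hk⟩ := Nat.exists_eq_add_of_le h
      rw [hk, hstab n k m hm]
    · obtain ⟨k, hk⟩ := Nat.exists_eq_add_of_le h
      rw [hk, hstab m.degree k m (Nat.le_succ _)]
  have hs0 : ∀ n, (s n).constantCoeff = 0 := by
    intro n
    rw [← coeff_zero_eq_constantCoeff_apply, ← zero_add n, hstab 0 n 0 (by simp)]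
    rw [show s 0 = base from rfl, hbase]
    refine finsum_eq_zero_of_forall_eq_zero fun i => if_neg fun h => ?_
    have := congrArg Finsupp.degree h
    rw [Finsupp.degree_single, map_zero] at this
    omega
  have hφ0 : φ.constantCoeff = 0 := by
    rw [← coeff_zero_eq_constantCoeff_apply, hφs 0 0 (by simp), coeff_zero_eq_constantCoeff_apply, hs0]
  refine ⟨φ, hφ0, fun i => ?_, ?_⟩
  · rw [hφs 0 _ (by simp [Finsupp.degree_single]), show s 0 = base from rfl, hbase, finsum_eq_single _ i]
    · simp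
    · intro j hj
      exact if_neg fun h => hj ((Finsupp.single_left_inj one_ne_zero).mp h).symm
  ext m
  rw [map_zero]
  rcases Nat.lt_or_ge m.degree 2 with hm | hm
  · have hz : E ε π q (0 : MvPowerSeries σ A) = 0 := by
      have hs : subst (fX π q) (0 : MvPowerSeries σ A) = (0 : MvPowerSeries σ A) := by
        rw [← substAlgHom_apply (hasSubst_fX π (by omega : q ≠ 0))]
        exact map_zero _
      simp only [E, hs, zero_pow (by omega : q ≠ 0), mul_zero, add_zero, sub_zero]
    rw [key ε π hq φ 0 hφ0 (map_zero _) m ?_, hz, map_zero, zero_add, sub_zero]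
    · rcases Nat.eq_zero_or_pos m.degree with h | h
      · rw [(Finsupp.degree_eq_zero_iff m).mp h, coeff_zero_eq_constantCoeff_apply, hφ0, mul_zero]
      · rw [show m.degree = 1 by omega, pow_one, sub_self, zero_mul]
    · intro e he
      rw [map_zero, (Finsupp.degree_eq_zero_iff e).mp (by omega), coeff_zero_eq_constantCoeff_apply, hφ0]
  · obtain ⟨n, hn⟩ : ∃ n, m.degree = n + 2 := ⟨m.degree - 2, by omega⟩
    rw [key ε π hq φ (s n) hφ0 (hs0 n) m (fun e he => hφs n e (by omega)), hdeg0 n m hn.ge, sub_zero,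
      hφs (n + 1) m (by omega), hs, if_pos hn]
    simp only [sol, dif_pos (show (s n).constantCoeff = 0 ∧ 2 ≤ m.degree from ⟨hs0 n, hm⟩)]
    exact (hsolve (s n) (hs0 n) m hm).choose_spec

end Groth.Misc8.LT
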