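import Groth.Agent.Misc8.LubinTate
import Mathlib.RingTheory.Localization.FractionRing
import Mathlib.RingTheory.LocalRing.ResidueField.Basic

/-! Lubin–Tate series over a discrete valuation ring. -/

namespace Groth.Misc8.LT

open MvPowerSeries Finsupp
open scoped Classical

universe u

variable {A : Type*} [CommRing A] {σ τ : Type*} [Finite σ] [Finite τ]

theorem E_map {B : Type*} [CommRing B] (h : A →+* B) (ε π : A) {q : ℕ} (hq : 2 ≤ q)
    (φ : MvPowerSeries σ A) : (E ε π q φ).map h = E (h ε) (h π) q (φ.map h) := by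
  simp only [E, map_sub, map_add, map_mul, map_pow, map_C, map_subst (hasSubst_fX π (by omega : q ≠ 0))]
  congr 2
  funext i
  simp [fX]

theorem subst_fX_self (π : A) {q : ℕ} (a : σ → MvPowerSeries τ A) (ha : ∀ i, (a i).constantCoeff = 0) (i : σ) :
    subst a (fX π q i) = C π * a i + a i ^ q := by
  have h := hasSubst_of_constantCoeff_zero ha
  rw [fX, subst_add h, subst_mul h, subst_pow h, subst_X h, subst_C]

theorem E_X (π : A) {q : ℕ} (hq : 2 ≤ q) (i : σ) : E 1 π q (X i) = 0 := by
  rw [E, subst_X (hasSubst_fX π (by omega)), fX, map_one, one_mul, sub_self]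

theorem comp (ε π : A) {q : ℕ} (hq : 2 ≤ q) (G : MvPowerSeries σ A) (hG : E ε π q G = 0)
    (a : σ → MvPowerSeries τ A) (ha : ∀ i, (a i).constantCoeff = 0) (haE : ∀ i, E 1 π q (a i) = 0) :
    E ε π q (subst a G) = 0 := by
  have h := hasSubst_of_constantCoeff_zero ha
  have hf := hasSubst_fX (σ := τ) π (show q ≠ 0 by omega)
  have h1 : (fun i => subst (fX π q) (a i)) = fun i => subst a (fX π q i) := by
    funext i
    rw [subst_fX_self π a ha i]
    have := haE i
    rw [E, map_one, one_mul, sub_eq_zero] at this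
    exact this.symm
  rw [E, sub_eq_zero] at hG
  rw [E, sub_eq_zero, subst_comp_subst_apply h hf, h1,
    ← subst_comp_subst_apply (hasSubst_fX π (show q ≠ 0 by omega)) h, ← hG, subst_add h, subst_mul h,
    subst_mul h, subst_pow h, subst_C, subst_C]

theorem coeff_single_subst {σ : Type*} [Fintype σ] (G : MvPowerSeries σ A) (hG : G.constantCoeff = 0)
    (a : σ → MvPowerSeries τ A) (ha : ∀ i, (a i).constantCoeff = 0) (j : τ) :
    coeff (single j 1) (subst a G) = ∑ i, coeff (single i 1) G * coeff (single j 1) (a i) := by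
  rw [coeff_subst (hasSubst_of_constantCoeff_zero ha),
    finsum_eq_sum_of_support_subset _ (s := Finset.univ.image fun i : σ => single i 1) ?_,
    Finset.sum_image (fun x _ y _ h => (Finsupp.single_left_inj one_ne_zero).mp h)]
  · refine Finset.sum_congr rfl fun i _ => ?_
    rw [Finsupp.prod_single_index (h := fun s e => a s ^ e) (pow_zero _), pow_one, smul_eq_mul]
  · intro e he
    simp only [Finset.coe_image, Finset.coe_univ, Set.image_univ, Set.mem_range]
    rcases Nat.lt_or_ge e.degree 2 with h | h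
    · rcases Nat.eq_zero_or_pos e.degree with h0 | h0
      · exfalso
        apply he
        simp [(Finsupp.degree_eq_zero_iff e).mp h0, hG]
      · obtain ⟨i, hi⟩ := exists_of_degree_eq_one (show e.degree = 1 by omega)
        exact ⟨i, hi.symm⟩
    · exfalso
      apply he
      change coeff e G • coeff (single j 1) (e.prod fun i k => a i ^ k) = 0
      rw [smul_eq_mul]
      refine mul_eq_zero_of_right _ (coeff_of_lt_order ?_)
      rw [Finsupp.degree_single]
      refine lt_of_lt_of_le ?_ (le_order_prod _ _)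
      calc ((1 : ℕ) : ℕ∞) < (e.degree : ℕ∞) := by exact_mod_cast (show 1 < e.degree by omega)
        _ = ∑ i ∈ e.support, (e i : ℕ∞) := by rw [Finsupp.degree_apply]; push_cast; rfl
        _ ≤ _ := Finset.sum_le_sum fun i _ => le_order_pow_of_constantCoeff_eq_zero _ (ha i)

theorem E_add (π : A) {q : ℕ} (hq : 2 ≤ q) (φ ψ : MvPowerSeries σ A) :
    E 0 π q (φ + ψ) = E 0 π q φ + E 0 π q ψ := by
  simp only [E, map_zero, zero_mul, add_zero, subst_add (hasSubst_fX π (show q ≠ 0 by omega))]
  ring

theorem E_C_mul (π c : A) {q : ℕ} (hq : 2 ≤ q) (φ : MvPowerSeries σ A) :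
    E 0 π q (C c * φ) = C c * E 0 π q φ := by
  simp only [E, map_zero, zero_mul, add_zero, subst_mul (hasSubst_fX π (show q ≠ 0 by omega)), subst_C]
  ring

/-! ### over a DVR -/

variable {O : Type u} [CommRing O] [IsDomain O] [IsDiscreteValuationRing O]
  [Finite (IsLocalRing.ResidueField O)]

theorem two_le_card : 2 ≤ Nat.card (IsLocalRing.ResidueField O) :=
  Finite.one_lt_card

theorem pi_sub_pow {π : O} (hπ : Irreducible π) (n : ℕ) (hn : 2 ≤ n) :
    π - π ^ n = π * (1 - π ^ (n - 1)) ∧ IsUnit (1 - π ^ (n - 1)) := by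
  constructor
  · rw [mul_sub, mul_one, ← pow_succ', Nat.sub_add_cancel (by omega : 1 ≤ n)]
  · apply IsLocalRing.isUnit_one_sub_self_of_mem_nonunits
    intro h
    exact hπ.not_isUnit ((isUnit_pow_iff (by omega : n - 1 ≠ 0)).mp h)

theorem pi_sub_pow_ne_zero {π : O} (hπ : Irreducible π) (n : ℕ) (hn : 2 ≤ n) : π - π ^ n ≠ 0 := by
  obtain ⟨h1, h2⟩ := pi_sub_pow hπ n hn
  rw [h1]
  exact mul_ne_zero hπ.ne_zero h2.ne_zero

theorem residue_E {π : O} (hπ : Irreducible π) (ψ : MvPowerSeries σ O) :
    (E 1 π (Nat.card (IsLocalRing.ResidueField O)) ψ).map (IsLocalRing.residue O) = 0 := by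
  have hπ0 : IsLocalRing.residue O π = 0 := by
    rw [IsLocalRing.residue_eq_zero_iff, hπ.maximalIdeal_eq]
    exact Ideal.mem_span_singleton_self π
  rw [E_map _ _ _ two_le_card, hπ0, map_one]
  let k := IsLocalRing.ResidueField O
  haveI : Fintype k := Fintype.ofFinite k
  obtain ⟨p, hp⟩ := CharP.exists k
  haveI := hp
  obtain ⟨e, hp', he⟩ := FiniteField.card k p
  haveI : Fact p.Prime := ⟨hp'⟩
  haveI : ExpChar k p := ExpChar.prime hp'
  rw [← Nat.card_eq_fintype_card] at he
  have h := map_iterateFrobenius_expand p hp'.ne_zero (ψ.map (IsLocalRing.residue O)) (e : ℕ)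
  have hid : iterateFrobenius k p (e : ℕ) = RingHom.id k := by
    ext x
    rw [iterateFrobenius_def, RingHom.id_apply, ← he, Nat.card_eq_fintype_card, FiniteField.pow_card]
  rw [hid, map_id, RingHom.id_apply] at h
  simp only [E, fX, map_zero, zero_mul, map_one, one_mul, zero_add]
  rw [sub_eq_zero, he, ← h, expand, substAlgHom_apply]
  congr 1
  funext i
  simp [fX]

theorem solve {π : O} (hπ : Irreducible π) (ψ : MvPowerSeries σ O) (m : σ →₀ ℕ) (hm : 2 ≤ m.degree) :
    ∃ c, coeff m (E 1 π (Nat.card (IsLocalRing.ResidueField O)) ψ) + (π - π ^ m.degree) * c = 0 := by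
  have h := congrArg (coeff m) (residue_E hπ ψ)
  rw [coeff_map, map_zero, IsLocalRing.residue_eq_zero_iff, hπ.maximalIdeal_eq,
    Ideal.mem_span_singleton'] at h
  obtain ⟨r, hr⟩ := h
  obtain ⟨h1, h2⟩ := pi_sub_pow hπ _ hm
  obtain ⟨v, hv⟩ := isUnit_iff_exists_inv.mp h2
  refine ⟨-(r * v), ?_⟩
  rw [h1, ← hr]
  linear_combination (-(π * r)) * hv

variable {π : O} (hπ : Irreducible π)
include hπ

theorem unique_O {φ ψ : MvPowerSeries σ O} (hφ : φ.constantCoeff = 0) (hψ : ψ.constantCoeff = 0)
    (h1 : ∀ i, coeff (single i 1) φ = coeff (single i 1) ψ)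
    (hE : E 1 π (Nat.card (IsLocalRing.ResidueField O)) φ = 0)
    (hE' : E 1 π (Nat.card (IsLocalRing.ResidueField O)) ψ = 0) : φ = ψ :=
  unique 1 π two_le_card (pi_sub_pow_ne_zero hπ) hφ hψ h1 hE hE'

theorem exists_O (L : σ → O) : ∃ φ : MvPowerSeries σ O, φ.constantCoeff = 0 ∧
    (∀ i, coeff (single i 1) φ = L i) ∧ E 1 π (Nat.card (IsLocalRing.ResidueField O)) φ = 0 :=
  exists_solution 1 π two_le_card L fun ψ _ m hm => solve hπ ψ m hm

omit hπ in
theorem subst_f {f : PowerSeries O}
    (hf : f = π • PowerSeries.X + PowerSeries.X ^ Nat.card (IsLocalRing.ResidueField O))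
    (a : MvPowerSeries σ O) (ha : a.constantCoeff = 0) :
    PowerSeries.subst a f = C π * a + a ^ Nat.card (IsLocalRing.ResidueField O) := by
  have h := PowerSeries.HasSubst.of_constantCoeff_zero ha
  rw [hf, PowerSeries.subst_add h, PowerSeries.subst_smul h, PowerSeries.subst_pow h, PowerSeries.subst_X h,
    smul_eq_C_mul]

omit hπ in
theorem fX_eq {f : PowerSeries O}
    (hf : f = π • PowerSeries.X + PowerSeries.X ^ Nat.card (IsLocalRing.ResidueField O)) (i : σ) :
    PowerSeries.subst (X i : MvPowerSeries σ O) f = fX π (Nat.card (IsLocalRing.ResidueField O)) i :=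
  subst_f hf (X i) (constantCoeff_X i)

omit hπ in
theorem E_eq_zero_iff {f : PowerSeries O}
    (hf : f = π • PowerSeries.X + PowerSeries.X ^ Nat.card (IsLocalRing.ResidueField O))
    {φ : MvPowerSeries σ O} (hφ : φ.constantCoeff = 0) :
    E 1 π (Nat.card (IsLocalRing.ResidueField O)) φ = 0 ↔
      PowerSeries.subst φ f = subst (fun i => PowerSeries.subst (X i : MvPowerSeries σ O) f) φ := by
  rw [E, map_one, one_mul, sub_eq_zero, subst_f hf φ hφ, show (fun i => PowerSeries.subst (X i : MvPowerSeries σ O) f) =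
    fX π (Nat.card (IsLocalRing.ResidueField O)) from funext (fX_eq hf)]

omit hπ in
theorem f_eq {f : PowerSeries O}
    (hf : f = π • PowerSeries.X + PowerSeries.X ^ Nat.card (IsLocalRing.ResidueField O)) (u : Unit) :
    (f : MvPowerSeries Unit O) = fX π (Nat.card (IsLocalRing.ResidueField O)) u := by
  rw [hf, fX, PowerSeries.smul_eq_C_mul]
  rfl

omit hπ in
theorem E_eq_zero_iff_unit {f : PowerSeries O}
    (hf : f = π • PowerSeries.X + PowerSeries.X ^ Nat.card (IsLocalRing.ResidueField O))
    {g : PowerSeries O} (hg : g.constantCoeff = 0) :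
    E 1 π (Nat.card (IsLocalRing.ResidueField O)) (g : MvPowerSeries Unit O) = 0 ↔
      PowerSeries.subst g f = PowerSeries.subst f g := by
  rw [E, map_one, one_mul, sub_eq_zero, subst_f hf g hg, PowerSeries.subst_def f g,
    show (fun _ : Unit => (f : MvPowerSeries Unit O)) = fX π (Nat.card (IsLocalRing.ResidueField O)) from
      funext (f_eq hf)]

end Groth.Misc8.LT
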