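import Groth.Agent.SiteCohomology.ModulesInjective
import Mathlib.Algebra.Category.ModuleCat.Sheaf.PushforwardContinuous
import Mathlib.Algebra.Category.ModuleCat.Sheaf.Limits
import Mathlib.Topology.Sheaves.Stalks
import Mathlib.Algebra.Category.Grp.Abelian
import Mathlib.Algebra.Category.ModuleCat.Sheaf.Abelian

/-! Injective sheaves of modules restrict to injectives on open subsets. -/

set_option autoImplicit false

universe u

open CategoryTheory Limits Opposite TopologicalSpace

namespace Groth.Misc8.OverInjective

variable {X : TopCat.{u}} {A : Sheaf (Opens.grothendieckTopology X) RingCat.{u}} {U : Opens X}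

/-- An object of `Over U` from an inclusion. -/
abbrev mkObj (W : Opens X) (h : W ≤ U) : (Over U)ᵒᵖ := op (Over.mk (homOfLE h))

abbrev Sec (M : SheafOfModules.{u} (A.over U)) (W : (Opens X)ᵒᵖ) : Type u :=
  ∀ h : PLift (W.unop ≤ U), M.val.obj (mkObj W.unop h.down)

noncomputable instance moduleMk (M : SheafOfModules.{u} (A.over U)) (W : (Opens X)ᵒᵖ) (h : W.unop ≤ U) :
    Module (A.obj.obj W) (M.val.obj (mkObj W.unop h)) :=
  (M.val.obj (mkObj W.unop h)).isModule

noncomputable instance (M : SheafOfModules.{u} (A.over U)) (W : (Opens X)ᵒᵖ) : Module (A.obj.obj W) (Sec M W) :=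
  letI : ∀ h : PLift (W.unop ≤ U), Module (A.obj.obj W) (M.val.obj (mkObj W.unop h.down)) := fun h =>
    moduleMk M W h.down
  Pi.module _ _ _

variable (M N : SheafOfModules.{u} (A.over U))

/-- Restriction maps of the extension by zero. -/
noncomputable def extMap {W W' : (Opens X)ᵒᵖ} (i : W ⟶ W') : Sec M W →+ Sec M W' where
  toFun s h' := haveI := Classical.propDecidable (W.unop ≤ U)
    if h : W.unop ≤ U then
      M.val.map (Over.homMk i.unop (Subsingleton.elim _ _) : Over.mk (homOfLE h'.down) ⟶ Over.mk (homOfLE h)).op (s ⟨h⟩)
    else 0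
  map_zero' := funext fun h' => by
    by_cases h : W.unop ≤ U
    · simp only [dif_pos h]
      exact map_zero _
    · simp only [dif_neg h]
      rfl
  map_add' s t := funext fun h' => by
    by_cases h : W.unop ≤ U
    · simp only [Pi.add_apply, dif_pos h]
      exact map_add _ _ _
    · simp only [Pi.add_apply, dif_neg h]
      exact (add_zero _).symm

theorem extMap_apply {W W' : (Opens X)ᵒᵖ} (i : W ⟶ W') (s : Sec M W) (h : W.unop ≤ U) (h' : PLift (W'.unop ≤ U)) :
    extMap M i s h' =
      M.val.map (Over.homMk i.unop (Subsingleton.elim _ _) : Over.mk (homOfLE h'.down) ⟶ Over.mk (homOfLE h)).op (s ⟨h⟩) :=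
  dif_pos h

theorem extMap_apply_zero {W W' : (Opens X)ᵒᵖ} (i : W ⟶ W') (s : Sec M W) (h : ¬ W.unop ≤ U)
    (h' : PLift (W'.unop ≤ U)) : extMap M i s h' = 0 :=
  dif_neg h

/-- Extension by zero as a presheaf of abelian groups. -/
noncomputable def extAb : (Opens X)ᵒᵖ ⥤ AddCommGrpCat.{u} where
  obj W := AddCommGrpCat.of (Sec M W)
  map i := AddCommGrpCat.ofHom (extMap M i)
  map_id W := by
    refine AddCommGrpCat.hom_ext (AddMonoidHom.ext fun (s : Sec M W) => ?_)
    show extMap M (𝟙 W) s = s
    funext h'
    rw [extMap_apply M (𝟙 W) s h'.down h']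
    exact (PresheafOfModules.congr_map_apply M.val (g := 𝟙 _) (Quiver.Hom.unop_inj (Over.OverMorphism.ext (Subsingleton.elim _ _))) (s h')).trans (by simp)
  map_comp {W W' W''} i j := by
    refine AddCommGrpCat.hom_ext (AddMonoidHom.ext fun (s : Sec M W) => ?_)
    show extMap M (i ≫ j) s = extMap M j (extMap M i s)
    funext h''
    by_cases h : W.unop ≤ U
    · have h' : W'.unop ≤ U := i.unop.le.trans h
      rw [extMap_apply M (i ≫ j) s h h'', extMap_apply M j _ h' h'', extMap_apply M i s h ⟨h'⟩]
      rw [← PresheafOfModules.map_comp_apply]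
      exact PresheafOfModules.congr_map_apply M.val (Quiver.Hom.unop_inj (Over.OverMorphism.ext (Subsingleton.elim _ _))) _
    · rw [extMap_apply_zero M (i ≫ j) s h]
      by_cases h' : W'.unop ≤ U
      · rw [extMap_apply M j _ h' h'', extMap_apply_zero M i s h, map_zero]
        rfl
      · rw [extMap_apply_zero M j _ h']

noncomputable instance (W : (Opens X)ᵒᵖ) : Module (A.obj.obj W) ((extAb M).obj W) :=
  inferInstanceAs (Module (A.obj.obj W) (Sec M W))

theorem ext_map_smul ⦃W W' : (Opens X)ᵒᵖ⦄ (i : W ⟶ W') (r : A.obj.obj W) (s : (extAb M).obj W) :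
    (extAb M).map i (r • s) = A.obj.map i r • (extAb M).map i s := by
  funext h'
  show extMap M i (r • (s : Sec M W)) h' = A.obj.map i r • extMap M i s h'
  by_cases h : W.unop ≤ U
  · rw [extMap_apply M i _ h h', extMap_apply M i _ h h']
    exact M.val.map_smul (X := mkObj W.unop h) _ (r : (A.over U).obj.obj (mkObj W.unop h)) _
  · rw [extMap_apply_zero M i _ h, extMap_apply_zero M i _ h, smul_zero]

/-- Extension by zero of a sheaf of modules on `U`, as a presheaf of modules. -/
noncomputable def ext : PresheafOfModules.{u} A.obj :=
  PresheafOfModules.ofPresheaf (extAb M) (ext_map_smul M)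

variable {M N}

/-- Functoriality of the extension by zero. -/
noncomputable def extHom (f : M ⟶ N) : ext M ⟶ ext N where
  app W := ModuleCat.ofHom (Y := (ext N).obj W)
    { toFun := fun s h => f.val.app (mkObj W.unop h.down) ((s : Sec M W) h)
      map_add' := fun s t => funext fun h => map_add (f.val.app _).hom _ _
      map_smul' := fun r s => funext fun h => (f.val.app (mkObj W.unop h.down)).hom.map_smul (r : (A.over U).obj.obj (mkObj W.unop h.down)) _ }
  naturality {W W'} i := by
    ext s
    funext h'
    show f.val.app (mkObj W'.unop h'.down) (extMap M i s h') = extMap N i (fun h => f.val.app _ ((s : Sec M W) h)) h'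
    by_cases h : W.unop ≤ U
    · rw [extMap_apply M i _ h h', extMap_apply N i _ h h']
      exact PresheafOfModules.naturality_apply f.val _ _
    · rw [extMap_apply_zero M i _ h, extMap_apply_zero N i _ h]
      exact map_zero (f.val.app _).hom

theorem mono_extHom (f : M ⟶ N) [Mono f] : Mono (extHom f) := by
  have : Mono f.val := inferInstanceAs (Mono ((SheafOfModules.forget _).map f))
  refine PresheafOfModules.mono_of_injective fun {W} s t hst => funext fun h => ?_
  have hm : Mono (f.val.app (mkObj W.unop h.down)) :=
    inferInstanceAs (Mono ((PresheafOfModules.evaluation _ _).map f.val))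
  exact (ModuleCat.mono_iff_injective (f.val.app (mkObj W.unop h.down))).mp hm (congrFun hst h :)

theorem injective_over (I : SheafOfModules.{u} A) [Injective I] (U : Opens X) : Injective (I.over U) := by
  refine ⟨fun {M N} g f hf => ?_⟩
  let P := (SheafOfModules.forget A ⋙ PresheafOfModules.restrictScalars (𝟙 A.obj)).obj I
  have : Injective P := Groth.SiteCohomology.injective_forget_modules A I
  have := mono_extHom f
  classical
  let g' : ext M ⟶ P :=
    { app := fun W => ModuleCat.ofHom (Y := P.obj W)
        { toFun := fun s => if h : W.unop ≤ U then g.val.app (mkObj W.unop h) ((s : Sec M W) ⟨h⟩) else 0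
          map_add' := fun s t => by
            split
            · exact map_add (g.val.app _).hom _ _
            · exact (add_zero _).symm
          map_smul' := fun r s => by
            split
            case isTrue h => exact (g.val.app (mkObj W.unop h)).hom.map_smul (r : (A.over U).obj.obj (mkObj W.unop h)) _
            case isFalse h => exact (smul_zero _).symm }
      naturality := fun {W W'} i => by
        ext s
        show (if h' : W'.unop ≤ U then g.val.app (mkObj W'.unop h') (extMap M i s ⟨h'⟩) else 0) =
          P.map i (if h : W.unop ≤ U then g.val.app (mkObj W.unop h) ((s : Sec M W) ⟨h⟩) else 0)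
        by_cases h : W.unop ≤ U
        · have h' : W'.unop ≤ U := i.unop.le.trans h
          rw [dif_pos h', dif_pos h, extMap_apply M i _ h ⟨h'⟩]
          exact PresheafOfModules.naturality_apply g.val _ _
        · rw [dif_neg h, map_zero]
          split
          · rw [extMap_apply_zero M i _ h]
            exact map_zero (g.val.app _).hom
          · rfl }
  let G : ext N ⟶ P := Injective.factorThru g' (extHom f)
  have hG : extHom f ≫ G = g' := Injective.comp_factorThru g' (extHom f)
  let cst : ∀ W : (Over U)ᵒᵖ, N.val.obj W → Sec N (op W.unop.left) := fun W n _ => n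
  refine ⟨⟨
    { app := fun W => ModuleCat.ofHom (Y := (I.over U).val.obj W)
        { toFun := fun n => G.app (op W.unop.left) (cst W n)
          map_add' := fun a b => map_add (G.app (op W.unop.left)).hom (cst W a) (cst W b)
          map_smul' := fun r a => (G.app (op W.unop.left)).hom.map_smul r (cst W a) }
      naturality := fun {W W'} i => by
        ext n
        show G.app (op W'.unop.left) (cst W' (N.val.map i n)) =
          P.map i.unop.left.op (G.app (op W.unop.left) (cst W n))
        rw [← PresheafOfModules.naturality_apply G]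
        congr 1
        funext h'
        show N.val.map i n = extMap N i.unop.left.op (cst W n) h'
        rw [extMap_apply N _ _ W.unop.hom.le h']
        rfl }⟩, ?_⟩
  ext W m
  show G.app (op W.unop.left) (cst W (f.val.app W m)) = g.val.app W m
  have h := congrArg (fun φ : ext M ⟶ P => φ.app (op W.unop.left) (fun _ => m : Sec M (op W.unop.left))) hG
  refine Eq.trans ?_ (h.trans (dif_pos W.unop.hom.le))
  rfl

end Groth.Misc8.OverInjective
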