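import Groth.Agent.QCohMod.PullbackSections
import Groth.Agent.QCohMod.FTCriterion
import Mathlib.RingTheory.Finiteness.Basic

/-! Modules over pinching squares. -/

set_option autoImplicit false

universe u

open CategoryTheory CategoryTheory.Limits AlgebraicGeometry
open scoped TensorProduct

namespace Groth.Misc8.PinchMod

open TensorProduct in
theorem subsingleton_of_pinching {A : Type u} [CommRing A] (M : Type u) [AddCommGroup M] [Module A M]
    {A' B : Type u} [CommRing A'] [CommRing B] [Algebra A A'] [Algebra A B]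
    (hsurj : Function.Surjective (algebraMap A A'))
    (hinj : RingHom.ker (algebraMap A B) ⊓ RingHom.ker (algebraMap A A') = ⊥)
    (himg : ∀ b ∈ Ideal.map (algebraMap A B) (RingHom.ker (algebraMap A A')),
      ∃ i ∈ RingHom.ker (algebraMap A A'), algebraMap A B i = b)
    (h1 : Subsingleton (A' ⊗[A] M)) (h2 : Subsingleton (B ⊗[A] M)) : Subsingleton M := by
  let I := RingHom.ker (algebraMap A A')
  have hIM : ∀ i ∈ I, ∀ m : M, i • m = 0 := by
    intro i hi m
    have huniq : ∀ j ∈ I, ∀ k ∈ I, algebraMap A B j = algebraMap A B k → j = k := by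
      intro j hj k hk e
      have : j - k ∈ RingHom.ker (algebraMap A B) ⊓ I :=
        ⟨by simp [e], I.sub_mem hj hk⟩
      rw [hinj, Ideal.mem_bot, sub_eq_zero] at this
      exact this
    choose β hβI hβ using fun b : B => himg (b * algebraMap A B i) (Ideal.mul_mem_left _ b (Ideal.mem_map_of_mem _ hi))
    let L : B →ₗ[A] A :=
      { toFun := β
        map_add' := fun b c => huniq _ (hβI _) _ (I.add_mem (hβI b) (hβI c)) (by rw [hβ, map_add, hβ, hβ, add_mul])
        map_smul' := fun a b => huniq _ (hβI _) _ (I.mul_mem_left a (hβI b)) (by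
          rw [hβ, RingHom.id_apply, smul_eq_mul, map_mul, hβ, Algebra.smul_def, mul_assoc]) }
    have h0 := congrArg (TensorProduct.lift ((LinearMap.lsmul A M).comp L)) (Subsingleton.elim ((1 : B) ⊗ₜ[A] m) 0)
    rw [map_zero, TensorProduct.lift.tmul] at h0
    have h1' : L 1 = i := huniq _ (hβI 1) _ hi (by rw [hβ, one_mul])
    simpa [h1'] using h0
  refine ⟨fun x y => ?_⟩
  let q : A' →ₗ[A] M →ₗ[A] M :=
    { toFun := fun a => LinearMap.lsmul A M (Function.surjInv hsurj a)
      map_add' := fun a b => LinearMap.ext fun m => by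
        have hm := hIM (Function.surjInv hsurj (a + b) - (Function.surjInv hsurj a + Function.surjInv hsurj b))
          (by simp [I, Function.surjInv_eq hsurj]) m
        rw [sub_smul, sub_eq_zero, add_smul] at hm
        simpa using hm
      map_smul' := fun c a => LinearMap.ext fun m => by
        have hm := hIM (Function.surjInv hsurj (c • a) - c * Function.surjInv hsurj a)
          (by simp [I, Function.surjInv_eq hsurj, Algebra.smul_def]) m
        rw [sub_smul, sub_eq_zero, mul_smul] at hm
        simpa using hm }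
  have hq : ∀ m : M, q 1 m = m := fun m => by
    have hm := hIM (Function.surjInv hsurj (1 : A') - 1) (by simp [I, Function.surjInv_eq hsurj]) m
    rw [sub_smul, one_smul, sub_eq_zero] at hm
    exact hm
  rw [← hq x, ← hq y, ← TensorProduct.lift.tmul (f' := q), ← TensorProduct.lift.tmul (f' := q),
    Subsingleton.elim ((1 : A') ⊗ₜ[A] x) (1 ⊗ₜ y)]

theorem finite_of_pinching {A : Type u} [CommRing A] (M : Type u) [AddCommGroup M] [Module A M]
    {A' B : Type u} [CommRing A'] [CommRing B] [Algebra A A'] [Algebra A B]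
    (hsurj : Function.Surjective (algebraMap A A'))
    (hinj : RingHom.ker (algebraMap A B) ⊓ RingHom.ker (algebraMap A A') = ⊥)
    (himg : ∀ b ∈ Ideal.map (algebraMap A B) (RingHom.ker (algebraMap A A')),
      ∃ i ∈ RingHom.ker (algebraMap A A'), algebraMap A B i = b)
    (h1 : Module.Finite A' (A' ⊗[A] M)) (h2 : Module.Finite B (B ⊗[A] M)) : Module.Finite A M := by
  classical
  have gens : ∀ (C : Type u) [CommRing C] [Algebra A C], Module.Finite C (C ⊗[A] M) →
      ∃ s : Finset M, ∀ N : Submodule A M, ↑s ⊆ (N : Set M) → Subsingleton (C ⊗[A] (M ⧸ N)) := by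
    intro C _ _ hC
    obtain ⟨T, hT⟩ := hC.fg_top
    choose S hS using fun z : C ⊗[A] M => TensorProduct.exists_finset z
    refine ⟨T.biUnion fun z => (S z).image Prod.snd, fun N hN => ?_⟩
    let q : C ⊗[A] M →ₗ[C] C ⊗[A] (M ⧸ N) := N.mkQ.baseChange C
    have hq : Function.Surjective q := LinearMap.lTensor_surjective C N.mkQ_surjective
    refine ⟨fun x y => ?_⟩
    suffices h : ∀ z, q z = 0 by
      obtain ⟨z, rfl⟩ := hq x
      obtain ⟨w, rfl⟩ := hq y
      rw [h, h]
    intro z
    have hz : z ∈ Submodule.span C (T : Set (C ⊗[A] M)) := hT ▸ Submodule.mem_top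
    induction hz using Submodule.span_induction with
    | mem z hz =>
      rw [hS z, map_sum]
      refine Finset.sum_eq_zero fun w hw => ?_
      have : w.2 ∈ N := hN (Finset.mem_biUnion.mpr ⟨z, hz, Finset.mem_image_of_mem _ hw⟩)
      rw [show q (w.1 ⊗ₜ w.2) = w.1 ⊗ₜ N.mkQ w.2 from LinearMap.baseChange_tmul .., Submodule.mkQ_apply,
        (Submodule.Quotient.mk_eq_zero N).mpr this, TensorProduct.tmul_zero]
    | zero => exact map_zero _
    | add a b _ _ ha hb => rw [map_add, ha, hb, add_zero]
    | smul c a _ ha => rw [map_smul, ha, smul_zero]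
  obtain ⟨s, hs⟩ := gens A' h1
  obtain ⟨t, ht⟩ := gens B h2
  let N := Submodule.span A (↑(s ∪ t) : Set M)
  have := subsingleton_of_pinching (M ⧸ N) hsurj hinj himg
    (hs N fun x hx => Submodule.subset_span (by simp [hx])) (ht N fun x hx => Submodule.subset_span (by simp [hx]))
  exact ⟨⟨s ∪ t, Submodule.Quotient.subsingleton_iff.mp this⟩⟩

variable {Y Z : Scheme.{u}}

/-- Sections of a pullback along an affine morphism. -/
noncomputable def sectionsEquiv (q : Z ⟶ Y) [IsAffineHom q] (G : Y.Modules) [G.IsQuasicoherent] {V : Y.Opens}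
    (hV : IsAffineOpen V) :
    letI := (q.app V).hom.toAlgebra
    Γ(Z, q ⁻¹ᵁ V) ⊗[Γ(Y, V)] Γ(G, V) ≃ₗ[Γ(Z, q ⁻¹ᵁ V)] Γ((Scheme.Modules.pullback q).obj G, q ⁻¹ᵁ V) :=
  have e : Groth.QCohMod.sectionsAlg q (le_refl (q ⁻¹ᵁ V)) = (q.app V).hom.toAlgebra :=
    show (q.appLE V (q ⁻¹ᵁ V) _).hom.toAlgebra = _ by rw [Scheme.Hom.app_eq_appLE]
  e ▸ Groth.QCohMod.pullSecEquiv q G (le_refl (q ⁻¹ᵁ V)) hV (hV.preimage q)

end Groth.Misc8.PinchMod
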