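import Mathlib.RingTheory.MvPolynomial.Basic
import Mathlib.Algebra.MvPolynomial.PDeriv
import Mathlib.RingTheory.AdjoinRoot
import Mathlib.RingTheory.Derivation.Basic
import Mathlib.Algebra.MvPolynomial.Derivation
import Mathlib.RingTheory.Ideal.Colon
import Mathlib.Algebra.Polynomial.Expand
import Mathlib.Algebra.MvPolynomial.Division
import Mathlib.Tactic

/-! The pinch point `u² = v² w`. -/

namespace Groth.Misc8.PinchPoint

open MvPolynomial

universe u

variable (K : Type u) [Field K]

noncomputable def R : Subalgebra K (MvPolynomial (Fin 2) K) :=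
  Algebra.adjoin K {X 0 ^ 2, X 0 * X 1, X 1}

noncomputable def ev : MvPolynomial (Fin 2) K →ₐ[K] Polynomial K :=
  aeval ![Polynomial.X, 0]

theorem sq_mem : (X 0 ^ 2 : MvPolynomial (Fin 2) K) ∈ R K := Algebra.subset_adjoin (by simp)
theorem mul_mem' : (X 0 * X 1 : MvPolynomial (Fin 2) K) ∈ R K := Algebra.subset_adjoin (by simp)
theorem y_mem : (X 1 : MvPolynomial (Fin 2) K) ∈ R K := Algebra.subset_adjoin (by simp)

theorem y_mul_mem (g : MvPolynomial (Fin 2) K) : X 1 * g ∈ R K ∧ X 1 * (X 0 * g) ∈ R K := by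
  induction g using MvPolynomial.induction_on with
  | C a =>
    refine ⟨mul_mem (y_mem K) ((R K).algebraMap_mem a), ?_⟩
    rw [← mul_assoc, mul_comm (X 1) (X 0)]
    exact mul_mem (mul_mem' K) ((R K).algebraMap_mem a)
  | add p q hp hq => simp only [mul_add]; exact ⟨add_mem hp.1 hq.1, add_mem hp.2 hq.2⟩
  | mul_X p i hp =>
    fin_cases i
    · refine ⟨by simpa [mul_comm, mul_assoc, mul_left_comm] using hp.2, ?_⟩
      have := mul_mem (sq_mem K) hp.1
      convert this using 1
      simp; ring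
    · refine ⟨?_, ?_⟩
      · have := mul_mem (y_mem K) hp.1
        convert this using 1
        simp; ring
      · have := mul_mem (y_mem K) hp.2
        convert this using 1
        simp; ring

theorem sub_ev_mem (f : MvPolynomial (Fin 2) K) :
    f - Polynomial.aeval (X 0) (ev K f) ∈ Ideal.span {(X 1 : MvPolynomial (Fin 2) K)} := by
  rw [← Ideal.Quotient.eq]
  have : (Ideal.Quotient.mkₐ K (Ideal.span {(X 1 : MvPolynomial (Fin 2) K)})) =
      (Ideal.Quotient.mkₐ K _).comp ((Polynomial.aeval (X 0)).comp (ev K)) := by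
    apply MvPolynomial.algHom_ext
    intro i
    fin_cases i <;> simp [ev, Ideal.Quotient.eq_zero_iff_mem, Ideal.mem_span_singleton_self]
  exact DFunLike.congr_fun this f

theorem mem_R_iff (f : MvPolynomial (Fin 2) K) : f ∈ R K ↔ ∃ p : Polynomial K, ev K f = Polynomial.expand K 2 p := by
  constructor
  · intro hf
    have hmap : (R K).map (ev K) ≤ (Polynomial.expand K 2).range := by
      rw [R, AlgHom.map_adjoin, Algebra.adjoin_le_iff]
      rintro _ ⟨a, ha, rfl⟩
      simp only [Set.mem_insert_iff, Set.mem_singleton_iff] at ha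
      rcases ha with rfl | rfl | rfl
      · exact ⟨Polynomial.X, by simp [ev]⟩
      · exact ⟨0, by simp [ev]⟩
      · exact ⟨0, by simp [ev]⟩
    obtain ⟨p, hp⟩ := hmap ⟨f, hf, rfl⟩
    exact ⟨p, hp.symm⟩
  · rintro ⟨p, hp⟩
    obtain ⟨g, hg⟩ := Ideal.mem_span_singleton'.mp (sub_ev_mem K f)
    have hf : f = g * X 1 + Polynomial.aeval (X 0) (ev K f) := by rw [hg]; ring
    rw [hf]
    refine add_mem (by rw [mul_comm]; exact (y_mul_mem K g).1) ?_
    rw [hp, Polynomial.expand_aeval]
    exact Subalgebra.aeval_coe (R K) ⟨_, sq_mem K⟩ p ▸ SetLike.coe_mem _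

variable {K}

theorem expand_eq_X_mul_expand {p q : Polynomial K} (h : Polynomial.expand K 2 p = Polynomial.X * Polynomial.expand K 2 q) :
    p = 0 := by
  ext n
  have := congrArg (fun r => Polynomial.coeff r (n * 2)) h
  rw [Polynomial.coeff_expand_mul two_pos] at this
  rw [this]
  cases n with
  | zero => simp
  | succ n =>
    rw [show (n + 1) * 2 = (2 * n + 1) + 1 by ring, Polynomial.coeff_X_mul, Polynomial.coeff_expand two_pos,
      if_neg (by omega)]
    simp

theorem X_mul_eq_expand {h p : Polynomial K} (he : Polynomial.X * h = Polynomial.expand K 2 p) :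
    ∃ q, h = Polynomial.X * Polynomial.expand K 2 q := by
  have h0 : p.coeff 0 = 0 := by
    have := congrArg (fun r => Polynomial.coeff r 0) he
    simpa [Polynomial.coeff_expand] using this.symm
  obtain ⟨q, rfl⟩ := Polynomial.X_dvd_iff.mpr h0
  refine ⟨q, mul_left_cancel₀ (Polynomial.X_ne_zero (R := K)) ?_⟩
  rw [he, map_mul, Polynomial.expand_X]
  ring

theorem maps_iff [NeZero (2 : K)] (D : Derivation K (MvPolynomial (Fin 2) K) (MvPolynomial (Fin 2) K)) :
    (∀ r ∈ R K, D r ∈ R K) ↔
      (D (X 1) ∈ Ideal.span {(X 1 : MvPolynomial (Fin 2) K)} ∧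
        ∃ (s : MvPolynomial (Fin 2) K) (p : Polynomial K), D (X 0) = X 1 * s + X 0 * Polynomial.aeval (X 0 ^ 2) p) := by
  constructor
  · intro h
    obtain ⟨p1, hp1⟩ := (mem_R_iff K _).mp (h _ (y_mem K))
    obtain ⟨p2, hp2⟩ := (mem_R_iff K _).mp (h _ (sq_mem K))
    obtain ⟨p3, hp3⟩ := (mem_R_iff K _).mp (h _ (mul_mem' K))
    have e2 : ev K (D (X 0 ^ 2)) = Polynomial.C 2 * (Polynomial.X * ev K (D (X 0))) := by
      simp [pow_two, ev, map_ofNat]; ring
    have e3 : ev K (D (X 0 * X 1)) = Polynomial.X * ev K (D (X 1)) := by simp [ev]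
    rw [e2] at hp2
    rw [e3] at hp3
    have hp2' : Polynomial.X * ev K (D (X 0)) = Polynomial.expand K 2 (Polynomial.C (2 : K)⁻¹ * p2) := by
      rw [map_mul, Polynomial.expand_C, ← hp2, ← mul_assoc, ← Polynomial.C_mul, inv_mul_cancel₀ two_ne_zero]
      simp
    obtain ⟨q2, hq2⟩ := X_mul_eq_expand hp2'
    obtain ⟨q3, hq3⟩ := X_mul_eq_expand hp3
    have hy : ev K (D (X 1)) = 0 := by
      rw [hp1] at hq3
      rw [hp1, expand_eq_X_mul_expand hq3, map_zero]
    refine ⟨?_, ?_⟩
    · have := sub_ev_mem K (D (X 1))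
      rwa [hy, map_zero, sub_zero] at this
    · obtain ⟨s, hs⟩ := Ideal.mem_span_singleton'.mp (sub_ev_mem K (D (X 0)))
      refine ⟨s, q2, ?_⟩
      rw [hq2, map_mul, Polynomial.aeval_X, Polynomial.expand_aeval] at hs
      linear_combination -hs
  · rintro ⟨hy, s, p, hx⟩ r hr
    obtain ⟨g, hg⟩ := Ideal.mem_span_singleton'.mp hy
    have hey : ev K (D (X 1)) = 0 := by rw [← hg]; simp [ev]
    induction hr using Algebra.adjoin_induction with
    | mem a ha =>
      simp only [Set.mem_insert_iff, Set.mem_singleton_iff] at ha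
      rcases ha with rfl | rfl | rfl
      · refine (mem_R_iff K _).mpr ⟨Polynomial.C 2 * (Polynomial.X * p), ?_⟩
        simp [pow_two, hx, ev, Polynomial.expand_eq_comp_X_pow, Polynomial.comp_eq_aeval, map_ofNat,
          ← Polynomial.aeval_algHom_apply]
        ring
      · refine (mem_R_iff K _).mpr ⟨0, ?_⟩
        simp [ev] at hey ⊢
        simp [hey]
      · exact (mem_R_iff K _).mpr ⟨0, by simp [hey]⟩
    | algebraMap c => simp
    | add a b _ _ iha ihb => rw [map_add]; exact add_mem iha ihb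
    | mul a b ha hb iha ihb =>
      rw [Derivation.leibniz, smul_eq_mul, smul_eq_mul]
      exact add_mem (mul_mem ha ihb) (mul_mem hb iha)

theorem existsUnique_extension [NeZero (2 : K)] (δ : Derivation K (R K) (MvPolynomial (Fin 2) K)) :
    ∃! D : Derivation K (MvPolynomial (Fin 2) K) (MvPolynomial (Fin 2) K),
      ∀ r : R K, D (r : MvPolynomial (Fin 2) K) = δ r := by
  set a : R K := ⟨_, sq_mem K⟩
  set b : R K := ⟨_, mul_mem' K⟩
  set y : R K := ⟨_, y_mem K⟩
  have hab : b * b = a * (y * y) := Subtype.ext (by simp [a, b, y]; ring)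
  have h := congrArg δ hab
  simp only [Derivation.leibniz, smul_add] at h
  simp only [Algebra.smul_def, Subalgebra.algebraMap_def, Subalgebra.coe_mul, a, b, y, Algebra.algebraMap_self,
    RingHom.id_apply] at h
  have hy0 : (X 1 : MvPolynomial (Fin 2) K) ≠ 0 := X_ne_zero 1
  have h2 : 2 * X 0 * δ b = X 1 * δ a + 2 * X 0 ^ 2 * δ y := by
    apply mul_left_cancel₀ hy0
    linear_combination h
  obtain ⟨g, hg⟩ : (X 0 : MvPolynomial (Fin 2) K) ∣ δ a := by
    have hd : (X 0 : MvPolynomial (Fin 2) K) ∣ X 1 * δ a := ⟨2 * δ b - 2 * X 0 * δ y, by linear_combination -h2⟩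
    exact (((MvPolynomial.X_prime (i := (0 : Fin 2))).dvd_or_dvd hd)).resolve_left (by simp [MvPolynomial.X_dvd_X])
  set c : MvPolynomial (Fin 2) K := C (2 : K)⁻¹ * g with hc
  have h2c : 2 * c = g := by
    rw [hc, ← mul_assoc, ← map_ofNat (C : K →+* MvPolynomial (Fin 2) K) 2, ← map_mul, mul_inv_cancel₀ two_ne_zero]
    simp
  refine ⟨MvPolynomial.mkDerivation K ![c, δ y], ?_, ?_⟩
  · intro r
    obtain ⟨r, hr⟩ := r
    induction hr using Algebra.adjoin_induction with
    | mem q hq =>
      simp only [Set.mem_insert_iff, Set.mem_singleton_iff] at hq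
      rcases hq with rfl | rfl | rfl
      · change _ = δ a
        simp [pow_two, hg, ← h2c]; ring
      · change _ = δ b
        apply mul_left_cancel₀ (mul_ne_zero (a := (2 : MvPolynomial (Fin 2) K))
          (by rw [← map_ofNat (C : K →+* MvPolynomial (Fin 2) K) 2]; simpa using two_ne_zero (α := K)) (X_ne_zero 0))
        rw [h2]
        simp [hg, ← h2c]; ring
      · change _ = δ y
        simp
    | algebraMap q =>
      change mkDerivation K ![c, δ y] (algebraMap K (MvPolynomial (Fin 2) K) q) = δ (algebraMap K (R K) q)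
      rw [Derivation.map_algebraMap, Derivation.map_algebraMap]
    | add p q hp hq ihp ihq =>
      change mkDerivation K ![c, δ y] (p + q) = δ (⟨p, hp⟩ + ⟨q, hq⟩)
      rw [map_add, map_add, ihp, ihq]
    | mul p q hp hq ihp ihq =>
      change mkDerivation K ![c, δ y] (p * q) = δ (⟨p, hp⟩ * ⟨q, hq⟩)
      rw [Derivation.leibniz, Derivation.leibniz, ihp, ihq]
      rfl
  · intro D hD
    apply MvPolynomial.derivation_ext
    intro i
    fin_cases i
    · simp only [Fin.zero_eta, mkDerivation_X, Matrix.cons_val_zero]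
      have this : D (X 0 ^ 2) = δ a := hD a
      apply mul_left_cancel₀ (mul_ne_zero (a := (2 : MvPolynomial (Fin 2) K))
          (by rw [← map_ofNat (C : K →+* MvPolynomial (Fin 2) K) 2]; simpa using two_ne_zero (α := K)) (X_ne_zero 0))
      rw [pow_two, Derivation.leibniz, smul_eq_mul] at this
      linear_combination this + hg - X 0 * h2c
    · simpa using hD y

end Groth.Misc8.PinchPoint

namespace Groth.Misc8.PinchPoint

open MvPolynomial

universe u

theorem chart_aux {B : Type u} [CommRing B] (b : B) (P : Polynomial B)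
    (hPdef : P = Polynomial.X ^ 2 - Polynomial.C b)
    (Ψ : MvPolynomial (Fin 2) B →ₐ[B] Polynomial (AdjoinRoot P))
    (hu : Ψ (X 0) = Polynomial.C (AdjoinRoot.root P) * Polynomial.X)
    (hv : Ψ (X 1) = Polynomial.X) :
    RingHom.ker Ψ.toRingHom = Ideal.span {X 0 ^ 2 - C b * X 1 ^ 2} ∧
      ∀ G : Polynomial (AdjoinRoot P),
        (∃ c : B, G.coeff 0 = algebraMap B (AdjoinRoot P) c) → G ∈ Ψ.range := by
  rcases subsingleton_or_nontrivial B with hB | hB
  · have : Subsingleton (MvPolynomial (Fin 2) B) := inferInstance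
    have h1 : Subsingleton (Polynomial (AdjoinRoot P)) :=
      Module.subsingleton B _
    exact ⟨Subsingleton.elim _ _, fun G _ => Subsingleton.elim (0 : Polynomial _) G ▸ zero_mem _⟩
  have hP : P.Monic := hPdef ▸ Polynomial.monic_X_pow_sub_C b two_ne_zero
  have hPd : P.natDegree = 2 := hPdef ▸ Polynomial.natDegree_X_pow_sub_C
  have hindep : ∀ x y : B, algebraMap B (AdjoinRoot P) x + algebraMap B (AdjoinRoot P) y * AdjoinRoot.root P = 0 →
      x = 0 ∧ y = 0 := by
    intro x y h
    have h' : AdjoinRoot.mk P (Polynomial.C x + Polynomial.C y * Polynomial.X) = 0 := by simpa using h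
    rw [AdjoinRoot.mk_eq_zero] at h'
    have hlt : (Polynomial.C x + Polynomial.C y * Polynomial.X).degree < P.degree := ?_
    have hz : Polynomial.C x + Polynomial.C y * Polynomial.X = 0 := by
      rw [← (Polynomial.modByMonic_eq_self_iff hP).mpr hlt]
      exact (Polynomial.modByMonic_eq_zero_iff_dvd hP).mpr h'
    · have h0 := congrArg (fun q => Polynomial.coeff q 0) hz
      have h1 := congrArg (fun q => Polynomial.coeff q 1) hz
      simp [Polynomial.coeff_C] at h0 h1
      exact ⟨h0, h1⟩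
    · rw [add_comm, Polynomial.degree_eq_natDegree hP.ne_zero, hPd]
      exact lt_of_le_of_lt (Polynomial.degree_linear_le) (by decide)
  have hspan : ∀ z : AdjoinRoot P, ∃ x y : B,
      z = algebraMap B (AdjoinRoot P) x + algebraMap B (AdjoinRoot P) y * AdjoinRoot.root P := by
    intro z
    obtain ⟨q, rfl⟩ := AdjoinRoot.mk_surjective z
    refine ⟨(q %ₘ P).coeff 0, (q %ₘ P).coeff 1, ?_⟩
    have hdeg : (q %ₘ P).natDegree ≤ 1 := by
      have := Polynomial.natDegree_modByMonic_lt q hP (fun h => by simp [h] at hPd)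
      omega
    conv_lhs => rw [← Polynomial.modByMonic_add_div q P, map_add, map_mul, AdjoinRoot.mk_self, zero_mul, add_zero,
      Polynomial.eq_X_add_C_of_natDegree_le_one hdeg]
    simp [AdjoinRoot.algebraMap_eq]
    ring
  have hrr : AdjoinRoot.root P * AdjoinRoot.root P = algebraMap B (AdjoinRoot P) b := by
    have := AdjoinRoot.eval₂_root P
    simp [congrArg (Polynomial.eval₂ (AdjoinRoot.of P) (AdjoinRoot.root P)) hPdef] at this
    rw [AdjoinRoot.algebraMap_eq]
    linear_combination this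
  set rel : MvPolynomial (Fin 2) B := X 0 ^ 2 - C b * X 1 ^ 2
  set ιv : Polynomial B →ₐ[B] MvPolynomial (Fin 2) B := Polynomial.aeval (X 1)
  have hιv : ∀ p : Polynomial B, Ψ (ιv p) = p.map (algebraMap B (AdjoinRoot P)) := by
    intro p
    rw [← Polynomial.aeval_algHom_apply, hv, ← Polynomial.aeval_map_algebraMap (AdjoinRoot P),
      Polynomial.aeval_X_left_apply]
  have hrel : Ψ rel = 0 := by
    simp only [rel, map_sub, map_mul, map_pow, hu, hv]
    rw [mul_pow, ← map_pow, pow_two (AdjoinRoot.root P), hrr, ← MvPolynomial.algebraMap_eq, AlgHom.commutes]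
    simp [Polynomial.algebraMap_apply]
  have hnf : ∀ f : MvPolynomial (Fin 2) B, ∃ p q : Polynomial B,
      f - (ιv p + X 0 * ιv q) ∈ Ideal.span {rel} := by
    intro f
    induction f using MvPolynomial.induction_on with
    | C a => exact ⟨Polynomial.C a, 0, by simp [ιv]⟩
    | add f g hf hg =>
      obtain ⟨p, q, h⟩ := hf
      obtain ⟨p', q', h'⟩ := hg
      refine ⟨p + p', q + q', ?_⟩
      convert Ideal.add_mem _ h h' using 1
      simp [map_add]; ring
    | mul_X f i hf =>
      obtain ⟨p, q, h⟩ := hf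
      obtain ⟨c, hc⟩ := Ideal.mem_span_singleton'.mp h
      fin_cases i
      · refine ⟨Polynomial.C b * Polynomial.X ^ 2 * q, p, Ideal.mem_span_singleton'.mpr ⟨c * X 0 + ιv q, ?_⟩⟩
        simp [ιv, rel] at hc ⊢
        linear_combination X 0 * hc
      · refine ⟨Polynomial.X * p, Polynomial.X * q, Ideal.mem_span_singleton'.mpr ⟨c * X 1, ?_⟩⟩
        simp [ιv] at hc ⊢
        linear_combination X 1 * hc
  refine ⟨le_antisymm ?_ ?_, ?_⟩
  · intro f hf
    obtain ⟨p, q, h⟩ := hnf f
    obtain ⟨c, hc⟩ := Ideal.mem_span_singleton'.mp h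
    have hf' : Ψ f = 0 := hf
    have hz : Ψ (ιv p + X 0 * ιv q) = 0 := by
      have := congrArg Ψ hc
      rw [map_mul, hrel, mul_zero, map_sub, hf', zero_sub, eq_comm, neg_eq_zero] at this
      exact this
    rw [map_add, map_mul, hu, hιv, hιv] at hz
    have hpq : p = 0 ∧ q = 0 := by
      have key : ∀ k, p.coeff k = 0 ∧ (Polynomial.X * q).coeff k = 0 := by
        intro k
        refine hindep _ _ ?_
        have := congrArg (fun G => Polynomial.coeff G k) hz
        simp only [Polynomial.coeff_add, Polynomial.coeff_zero, mul_assoc, Polynomial.coeff_C_mul] at this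
        rw [← Polynomial.map_X (algebraMap B (AdjoinRoot P)), ← Polynomial.map_mul, Polynomial.coeff_map,
          Polynomial.coeff_map] at this
        linear_combination this
      refine ⟨Polynomial.ext fun k => (key k).1, Polynomial.ext fun k => ?_⟩
      simpa using (key (k + 1)).2
    rw [hpq.1, hpq.2] at h
    simpa using h
  · rw [Ideal.span_le, Set.singleton_subset_iff]
    exact hrel
  · rintro G ⟨c, hc⟩
    have hX : ∀ G' : Polynomial (AdjoinRoot P), Polynomial.X * G' ∈ Ψ.range := by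
      intro G'
      induction G' using Polynomial.induction_on' with
      | add p q hp hq => rw [mul_add]; exact add_mem hp hq
      | monomial k z =>
        obtain ⟨x, y, rfl⟩ := hspan z
        refine ⟨C x * X 1 ^ (k + 1) + C y * X 0 * X 1 ^ k, ?_⟩
        rw [← Polynomial.C_mul_X_pow_eq_monomial]
        simp [hu, hv, ← MvPolynomial.algebraMap_eq, Polynomial.algebraMap_apply, AdjoinRoot.algebraMap_eq]
        ring
    rw [← Polynomial.X_mul_divX_add G, hc]
    refine add_mem (hX _) ⟨C c, ?_⟩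
    simp [← MvPolynomial.algebraMap_eq, Polynomial.algebraMap_apply]

theorem chart {B : Type u} [CommRing B] (b : B)
    (Ψ : MvPolynomial (Fin 2) B →ₐ[B] Polynomial (AdjoinRoot (Polynomial.X ^ 2 - Polynomial.C b)))
    (hu : Ψ (X 0) = Polynomial.C (AdjoinRoot.root (Polynomial.X ^ 2 - Polynomial.C b)) * Polynomial.X)
    (hv : Ψ (X 1) = Polynomial.X) :
    RingHom.ker Ψ.toRingHom = Ideal.span {X 0 ^ 2 - C b * X 1 ^ 2} ∧
      ∀ G : Polynomial (AdjoinRoot (Polynomial.X ^ 2 - Polynomial.C b)),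
        (∃ c : B, G.coeff 0 = algebraMap B (AdjoinRoot (Polynomial.X ^ 2 - Polynomial.C b)) c) →
          G ∈ Ψ.range :=
  chart_aux b _ rfl Ψ hu hv

theorem jacobian (K : Type u) [Field K] [NeZero (2 : K)] (n : ℕ)
    (Jac : Ideal (MvPolynomial (Fin (n + 3)) K))
    (hJ : Jac = Ideal.span {X 0 ^ 2 - X 1 ^ 2 * X 2, 2 * X 0, -(2 * X 1 * X 2), -(X 1 ^ 2)}) :
    Ideal.span {X 0, X 1} = Jac ⊔ Ideal.span {X 1} ∧
      Jac.colon (Ideal.span {(X 1 : MvPolynomial (Fin (n + 3)) K)}) = Ideal.span {X 0, X 1, X 2} := by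
  have hcc : (C (2 : K)⁻¹ : MvPolynomial (Fin (n + 3)) K) * 2 = 1 := by
    rw [← map_ofNat (C : K →+* MvPolynomial (Fin (n + 3)) K) 2, ← map_mul, inv_mul_cancel₀ two_ne_zero, map_one]
  have hle : ∀ g ∈ ({X 0 ^ 2 - X 1 ^ 2 * X 2, 2 * X 0, -(2 * X 1 * X 2), -(X 1 ^ 2)} :
      Set (MvPolynomial (Fin (n + 3)) K)), g ∈ Jac := fun g hg => hJ ▸ Ideal.subset_span hg
  have h0 : (X 0 : MvPolynomial (Fin (n + 3)) K) ∈ Jac := by
    have := Jac.mul_mem_left (C (2 : K)⁻¹) (hle (2 * X 0) (by simp))
    rwa [← mul_assoc, hcc, one_mul] at this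
  have h12 : (X 1 * X 2 : MvPolynomial (Fin (n + 3)) K) ∈ Jac := by
    have := Jac.mul_mem_left (C (2 : K)⁻¹) (neg_mem_iff.mp (hle _ (by simp) : -(2 * X 1 * X 2) ∈ Jac))
    rwa [mul_assoc (2 : MvPolynomial (Fin (n + 3)) K), ← mul_assoc, hcc, one_mul] at this
  have h11 : (X 1 ^ 2 : MvPolynomial (Fin (n + 3)) K) ∈ Jac :=
    neg_mem_iff.mp (hle _ (by simp))
  refine ⟨le_antisymm ?_ (sup_le ?_ ?_), le_antisymm ?_ ?_⟩
  · rw [Ideal.span_le]
    rintro _ (rfl | rfl)
    · exact Ideal.mem_sup_left h0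
    · exact Ideal.mem_sup_right (Ideal.mem_span_singleton_self _)
  · have m0 : (X 0 : MvPolynomial (Fin (n + 3)) K) ∈ Ideal.span {(X 0 : MvPolynomial (Fin (n + 3)) K), X 1} :=
      Ideal.subset_span (by simp)
    have m1 : (X 1 : MvPolynomial (Fin (n + 3)) K) ∈ Ideal.span {(X 0 : MvPolynomial (Fin (n + 3)) K), X 1} :=
      Ideal.subset_span (by simp)
    rw [hJ, Ideal.span_le]
    rintro _ (rfl | rfl | rfl | rfl) <;> simp only [pow_two, SetLike.mem_coe]
    · exact sub_mem (Ideal.mul_mem_left _ _ m0) (Ideal.mul_mem_right _ _ (Ideal.mul_mem_left _ _ m1))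
    · exact Ideal.mul_mem_left _ _ m0
    · exact neg_mem (Ideal.mul_mem_right _ _ (Ideal.mul_mem_left _ _ m1))
    · exact neg_mem (Ideal.mul_mem_left _ _ m1)
  · exact Ideal.span_mono (by simp)
  · intro f hf
    rw [Ideal.mem_colon_span_singleton] at hf
    let π : MvPolynomial (Fin (n + 3)) K →ₐ[K] MvPolynomial (Fin (n + 3)) K :=
      aeval fun i => if i = 0 ∨ i = 1 ∨ i = 2 then 0 else X i
    have hπ : Ideal.Quotient.mkₐ K (Ideal.span {(X 0 : MvPolynomial (Fin (n + 3)) K), X 1, X 2}) =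
        (Ideal.Quotient.mkₐ K _).comp π := by
      apply MvPolynomial.algHom_ext
      intro i
      simp only [AlgHom.comp_apply, π, aeval_X, Ideal.Quotient.mkₐ_eq_mk]
      split_ifs with h
      · rw [map_zero, Ideal.Quotient.eq_zero_iff_mem]
        rcases h with rfl | rfl | rfl <;> exact Ideal.subset_span (by simp)
      · rfl
    have hπ0 : π (X 0) = 0 ∧ π (X 1) = 0 ∧ π (X 2) = 0 := by simp [π]
    have key : ∀ g ∈ Jac, π g = 0 ∧ π (pderiv 1 g) = 0 := by
      intro g hg
      rw [hJ] at hg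
      induction hg using Submodule.span_induction with
      | mem g hg =>
        have d0 : pderiv 1 (X 0 : MvPolynomial (Fin (n + 3)) K) = 0 := pderiv_X_of_ne (by simp)
        have d1 : pderiv 1 (X 1 : MvPolynomial (Fin (n + 3)) K) = 1 := pderiv_X_self 1
        have d2 : pderiv 1 (X 2 : MvPolynomial (Fin (n + 3)) K) = 0 := pderiv_X_of_ne (by simp [Fin.ext_iff, Nat.mod_eq_of_lt (show 2 < n + 3 by omega)])
        rcases hg with rfl | rfl | rfl | rfl <;>
          simp [pow_two, two_mul, add_mul, d0, d1, d2, hπ0]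
      | zero => simp
      | add a b _ _ ha hb => exact ⟨by rw [map_add, ha.1, hb.1, add_zero], by rw [map_add, map_add, ha.2, hb.2, add_zero]⟩
      | smul r a _ ha =>
        exact ⟨by rw [smul_eq_mul, map_mul, ha.1, mul_zero],
          by rw [smul_eq_mul, pderiv_mul, map_add, map_mul, map_mul, ha.1, ha.2, mul_zero, mul_zero, add_zero]⟩
    have := (key _ hf).2
    rw [pderiv_mul, pderiv_X_self, map_add, map_mul, map_mul, hπ0.2.1, mul_zero, zero_add, map_one, mul_one] at this
    rw [← Ideal.Quotient.eq_zero_iff_mem, ← Ideal.Quotient.mkₐ_eq_mk K, hπ, AlgHom.comp_apply, this, map_zero]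
  · rw [Ideal.span_le]
    rintro _ (rfl | rfl | rfl) <;> rw [SetLike.mem_coe, Ideal.mem_colon_span_singleton]
    · exact Jac.mul_mem_right _ h0
    · rwa [← pow_two]
    · rwa [mul_comm]

end Groth.Misc8.PinchPoint
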