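import Groth.Agent.Misc8.SatFG
import Groth.Agent.PnCoh.VanishingClosed
import Groth.Agent.PnCoh.SectionsExact
import Groth.Agent.Ega2Proj.TwistPow
import Groth.Agent.PicAux.PullTensor
import Groth.Agent.LocFree.Affine
import Groth.Agent.PropsBasic.FPSections

/-!
Serre vanishing on closed subschemes of projective space, flat over a semilocal Prüfer domain.
-/

set_option autoImplicit false

universe u

open CategoryTheory CategoryTheory.Limits AlgebraicGeometry Opposite TopologicalSpace

namespace Groth.Misc8.PruferCoh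

open Groth.QCohMod Groth.PnCoh

section Scalars

variable {A : Type u} [CommRing A] {Y : Scheme.{u}} (f : Y ⟶ Spec (CommRingCat.of A))

/-- The scalars as functions on an open. -/
noncomputable def scalarHom (U : Y.Opens) : A →+* Γ(Y, U) :=
  (f.appLE ⊤ U le_top).hom.comp (Scheme.ΓSpecIso (CommRingCat.of A)).inv.hom

theorem scalarHom_eq_resTop (U : Y.Opens) (a : A) :
    scalarHom f U a = Coh.resTop Y (op U) (Coh.toGlobal f a) := rfl

theorem finiteType_scalarHom [LocallyOfFiniteType f] {U : Y.Opens} (hU : IsAffineOpen U) :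
    (scalarHom f U).FiniteType :=
  (f.finiteType_appLE (isAffineOpen_top _) hU _).comp
    (RingHom.FiniteType.of_surjective _
      (ConcreteCategory.bijective_of_isIso (Scheme.ΓSpecIso (CommRingCat.of A)).inv).2)

theorem flat_scalarHom [Flat f] {U : Y.Opens} (hU : IsAffineOpen U) :
    (scalarHom f U).Flat :=
  RingHom.Flat.comp
    (RingHom.Flat.of_bijective (ConcreteCategory.bijective_of_isIso (Scheme.ΓSpecIso (CommRingCat.of A)).inv))
    (f.flat_appLE (isAffineOpen_top _) hU _)

theorem scalarHom_comp {Z : Scheme.{u}} (g : Z ⟶ Y) (U : Y.Opens) :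
    scalarHom (g ≫ f) (g ⁻¹ᵁ U) = (g.app U).hom.comp (scalarHom f U) := by
  have h := Scheme.Hom.appLE_comp_appLE g f ⊤ U (g ⁻¹ᵁ U) le_top le_rfl
  rw [scalarHom, scalarHom, ← h, CommRingCat.hom_comp, Scheme.Hom.app_eq_appLE, RingHom.comp_assoc]

end Scalars

section Generic

variable {R A : Type u} [CommRing R] [CommRing A] [Algebra R A] (𝒜 : ℕ → Submodule R A) [GradedAlgebra 𝒜]

/-- Serre vanishing on `Proj` for a class of modules stable under presentations by twists. -/
theorem exists_subsingleton_of_presentations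
    (hgen : (HomogeneousIdeal.irrelevant 𝒜).toIdeal ≤ Ideal.span (𝒜 1 : Set A)) {B : Type u} [CommRing B]
    (f : Proj 𝒜 ⟶ Spec (CommRingCat.of B)) (r : ℕ)
    (hbig : ∀ (M : (Proj 𝒜).Modules) (q : ℕ), M.IsQuasicoherent → r < q →
      Subsingleton (Coh.HH (Proj 𝒜) M q))
    (htw : ∀ (e : ℤ) (q : ℕ), 0 < q → 0 ≤ e →
      Subsingleton (Coh.HH (Proj 𝒜) (Twist.twist 𝒜 e) q))
    (hqc : ∀ e : ℤ, (Twist.twist 𝒜 e).IsQuasicoherent)
    (hinv : ∀ e : ℤ, PicF.IsInvertible (Twist.twist 𝒜 e))
    (P : (Proj 𝒜).Modules → Prop) (hP : ∀ G, P G → G.IsQuasicoherent)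
    (hpres : ∀ G, P G → ∃ (m : ℕ) (e : Fin m → ℤ) (ψ : (∐ fun j => Twist.twist 𝒜 (e j)) ⟶ G),
      Epi ψ ∧ P (kernel ψ))
    (F : (Proj 𝒜).Modules) (hF : P F) :
    ∃ d₀ : ℤ, ∀ d : ℤ, d₀ ≤ d → ∀ q : ℕ, 0 < q →
      Subsingleton (Coh.HH (Proj 𝒜) (Twist.twistBy 𝒜 F d) q) := by
  suffices h : ∀ j, ∀ F : (Proj 𝒜).Modules, P F → ∃ d₀ : ℤ, ∀ d : ℤ, d₀ ≤ d →
      ∀ q : ℕ, 0 < q → r < q + j → Subsingleton (Coh.HH (Proj 𝒜) (Twist.twistBy 𝒜 F d) q) by
    obtain ⟨d₀, hd⟩ := h r F hF
    exact ⟨d₀, fun d hdd q hq => hd d hdd q hq (by omega)⟩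
  intro j
  induction j with
  | zero =>
    intro F hF
    exact ⟨0, fun d _ q hq hqj => hbig _ q
      (by have : F.IsQuasicoherent := hP F hF; have : (Twist.twist 𝒜 d).IsQuasicoherent := hqc d; exact Groth.QCohMod.isQCoh_tensorMod) (by omega)⟩
  | succ j ih =>
    intro F hF
    obtain ⟨m, e, ψ, hψ, hK⟩ := hpres F hF
    let E : Fin m → (Proj 𝒜).Modules := fun i => Twist.twist 𝒜 (e i)
    let S : ShortComplex (Proj 𝒜).Modules :=
      ShortComplex.mk (kernel.ι ψ) ψ (kernel.condition ψ)
    have hS : S.ShortExact :=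
      { exact := ShortComplex.exact_of_f_is_kernel _ (kernelIsKernel ψ) }
    obtain ⟨d₁, hd₁⟩ := ih (kernel ψ) hK
    let s : ℤ := (Finset.univ : Finset (Fin m)).sum fun i => |e i|
    refine ⟨max d₁ s, fun d hd q hq hqj => ?_⟩
    let T := DCoh.tensorRightMod (Twist.twist 𝒜 d)
    have hT := PicAux.shortExact_tensorRightMod (hinv d) hS
    have h3 : Subsingleton (CohFin.HA f (T.obj (kernel ψ)) (q + 1)) :=
      hd₁ d (le_trans (le_max_left _ _) hd) (q + 1) (by omega) (by omega)
    have h2 : Subsingleton (CohFin.HA f (T.obj (∐ E)) q) := by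
      refine subsingleton_of_forall_eq 0 fun x => ?_
      have hi : ∀ i, Subsingleton (CohFin.HA f (T.obj (E i)) q) := fun i => by
        obtain ⟨e'⟩ := Ega2Proj.nonempty_tensor_iso hgen (e i) d
        have h1 : |e i| ≤ s :=
          Finset.single_le_sum (f := fun i => |e i|) (fun i _ => abs_nonneg _) (Finset.mem_univ i)
        have h4 : 0 ≤ e i + d := by
          have := le_trans (le_max_right _ _) hd
          have := neg_abs_le (e i)
          omega
        have : Subsingleton (CohFin.HA f (Twist.twist 𝒜 (e i + d)) q) := htw _ q hq h4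
        let e'' : T.obj (E i) ≅ Twist.twist 𝒜 (e i + d) := e'
        exact (Function.LeftInverse.injective (g := CohFin.mapL f e''.inv q)
          (f := CohFin.mapL f e''.hom q) fun x => by
            rw [← CohFin.mapL_comp, e''.hom_inv_id, CohFin.mapL_id]).subsingleton
      have hid : ∑ i, T.map (sigmaProj E i) ≫ T.map (Sigma.ι E i) = 𝟙 (T.obj (∐ E)) := by
        simp only [← T.map_comp]
        rw [← T.map_sum, sigmaProj_total, T.map_id]
      rw [← CohFin.mapL_id f _ q x, ← hid, mapL_sum]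
      refine Finset.sum_eq_zero fun i _ => ?_
      rw [CohFin.mapL_comp, (hi i).elim (CohFin.mapL f (T.map (sigmaProj E i)) q x) 0, map_zero]
    refine subsingleton_of_forall_eq 0 fun (x : CohFin.HA f (T.obj F) q) => ?_
    obtain ⟨y, rfl⟩ := (CohFin.exact_mapL_delta hT q x).1 (h3.elim _ _)
    exact (congrArg _ (h2.elim y 0)).trans (map_zero _)

end Generic

variable {R : Type u} [CommRing R] [IsDomain R] {n : ℕ}

/-- The standard charts. -/
noncomputable abbrev chart (n : ℕ) (R : Type u) [CommRing R] (i : Fin (n + 1)) : (CohB1.ProjSpace n R).Opens :=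
  Proj.basicOpen (CohB1.polyGrading n R) (MvPolynomial.X i)

theorem X_mem (i : Fin (n + 1)) :
    (MvPolynomial.X i : MvPolynomial (Fin (n + 1)) R) ∈ CohB1.polyGrading n R 1 :=
  (MvPolynomial.mem_homogeneousSubmodule _ _).mpr (MvPolynomial.isHomogeneous_X R _)

theorem isAffineOpen_chart (i : Fin (n + 1)) : IsAffineOpen (chart n R i) :=
  Proj.isAffineOpen_basicOpen _ _ (X_mem i) one_pos

theorem hgen : (HomogeneousIdeal.irrelevant (CohB1.polyGrading n R)).toIdeal ≤
    Ideal.span ((CohB1.polyGrading n R) 1 : Set (MvPolynomial (Fin (n + 1)) R)) :=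
  (irrelevant_le_span_X n R).trans (Ideal.span_mono (by
    rintro _ ⟨i, rfl⟩
    exact X_mem _))

/-- The standard charts, as a covering family. -/
noncomputable def family : StdFamily (𝒜 := CohB1.polyGrading n R) (Fin (n + 1)) where
  e _ := 1
  g i := MvPolynomial.X i
  pos _ := one_pos
  mem i := X_mem i
  cover x := by
    obtain ⟨i, hi⟩ := Opens.mem_iSup.mp
      ((isAcyclicCover_stdOpen n R).cover.ge (show x ∈ (⊤ : (CohB1.ProjSpace n R).Opens) from trivial))
    exact ⟨i.down, hi⟩

theorem eq_zero_of_scalar_mul {U : (CohB1.ProjSpace n R).Opens} {r : R} (hr : r ≠ 0)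
    {s : Γ(CohB1.ProjSpace n R, U)}
    (h : scalarHom (CohB1.ProjSpace.toSpec n R) U r * s = 0) : s = 0 := by
  refine Ega2Proj.fun_ext (𝒜 := CohB1.polyGrading n R) fun x hx => ?_
  have h1 : fval (𝒜 := CohB1.polyGrading n R) (scalarHom (CohB1.ProjSpace.toSpec n R) U r * s) x hx = 0 := by
    rw [h]; exact HomogeneousLocalization.val_zero
  erw [fval_mul] at h1
  have h2 : fval (𝒜 := CohB1.polyGrading n R) (scalarHom (CohB1.ProjSpace.toSpec n R) U r) x hx =
      Localization.mk (MvPolynomial.C r) 1 := toGlobal_projSpace_val n R r U ⟨x, hx⟩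
  rw [h2] at h1
  have hle : x.asHomogeneousIdeal.toIdeal.primeCompl ≤ nonZeroDivisors (MvPolynomial (Fin (n + 1)) R) :=
    Ideal.primeCompl_le_nonZeroDivisors _
  haveI : IsDomain (Twist.Loc (CohB1.polyGrading n R) x) :=
    IsLocalization.isDomain_localization hle
  have hne : (Localization.mk (MvPolynomial.C r) 1 : Twist.Loc (CohB1.polyGrading n R) x) ≠ 0 := fun h0 => by
    rw [Localization.mk_one_eq_algebraMap, ← map_zero (algebraMap (MvPolynomial (Fin (n + 1)) R) _)] at h0
    exact hr (MvPolynomial.C_injective _ _ ((IsLocalization.injective _ hle h0).trans (map_zero _).symm))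
  exact ((mul_eq_zero.mp h1).resolve_left hne).trans HomogeneousLocalization.val_zero.symm

/-- Quasi-coherent with finitely presented sections on the standard charts. -/
def IsD (F : (CohB1.ProjSpace n R).Modules) : Prop :=
  F.IsQuasicoherent ∧ ∀ i, Module.FinitePresentation Γ(CohB1.ProjSpace n R, chart n R i) Γ(F, chart n R i)

/-- Sections of a finite sum of twists over a chart: finite projective, so torsion-free over `R`. -/
theorem sections_sigma {r : ℕ} (d : Fin r → ℤ) (i : Fin (n + 1)) :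
    Module.Finite Γ(CohB1.ProjSpace n R, chart n R i)
        Γ(∐ fun j => Twist.twistProjSpace n R (d j), chart n R i) ∧
      ∀ (a : R) (x : Γ(∐ fun j => Twist.twistProjSpace n R (d j), chart n R i)), a ≠ 0 →
        scalarHom (CohB1.ProjSpace.toSpec n R) (chart n R i) a • x = 0 → x = 0 := by
  let E : Fin r → (CohB1.ProjSpace n R).Modules := fun j => Twist.twistProjSpace n R (d j)
  have hp : ∀ j, Module.Finite Γ(CohB1.ProjSpace n R, chart n R i) Γ(E j, chart n R i) ∧
      Module.Projective Γ(CohB1.ProjSpace n R, chart n R i) Γ(E j, chart n R i) := fun j =>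
    LocFree.finite_projective_sections (LocFree.isFinLocFree_of_rank
      (LocFree.isInvertible_iff_ofRank_one.mp (isInvertible_twist n R (d j)))) (isAffineOpen_chart i)
  haveI := fun j => (hp j).1
  haveI := fun j => (hp j).2
  haveI : Module.Projective Γ(CohB1.ProjSpace n R, chart n R i) (∀ j, Γ(E j, chart n R i)) :=
    Module.Projective.of_equiv (DFinsupp.linearEquivFunOnFintype (R := Γ(CohB1.ProjSpace n R, chart n R i))
      (M := fun j => Γ(E j, chart n R i)))
  let L : (∀ j, Γ(E j, chart n R i)) →ₗ[Γ(CohB1.ProjSpace n R, chart n R i)] Γ(∐ E, chart n R i) :=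
    ∑ j, (appₗ (Sigma.ι E j) _).comp (LinearMap.proj j)
  let P : Γ(∐ E, chart n R i) →ₗ[Γ(CohB1.ProjSpace n R, chart n R i)] (∀ j, Γ(E j, chart n R i)) :=
    LinearMap.pi fun j => appₗ (sigmaProj E j) _
  have hLP : ∀ a, L (P a) = a := fun a => by
    simp only [L, P, LinearMap.coe_sum, Finset.sum_apply, LinearMap.comp_apply, LinearMap.proj_apply,
      LinearMap.pi_apply, appₗ_apply]
    refine Eq.trans ?_ (congrArg (fun φ => Scheme.Modules.Hom.app φ (chart n R i) a) (sigmaProj_total E))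
    rw [app_sum]
    rfl
  haveI : Module.Projective Γ(CohB1.ProjSpace n R, chart n R i) Γ(∐ E, chart n R i) :=
    Module.Projective.of_split P L (LinearMap.ext hLP)
  refine ⟨Module.Finite.of_surjective L fun a => ⟨P a, hLP a⟩, fun a x ha hax => ?_⟩
  obtain ⟨s, hs⟩ := (‹Module.Projective Γ(CohB1.ProjSpace n R, chart n R i) Γ(∐ E, chart n R i)›).out
  have h0 : s x = 0 := Finsupp.ext fun m => eq_zero_of_scalar_mul ha (by
    have := congrArg (fun v => s v m) hax
    simpa using this)
  rw [← hs x, h0, map_zero]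

instance : LocallyOfFiniteType (CohB1.ProjSpace.toSpec n R) :=
  inferInstance

variable (hR : ∀ (p : Ideal R) [p.IsPrime], ValuationRing (Localization.AtPrime p))
  [Finite (MaximalSpectrum R)]

include hR in
theorem exists_presentation (G : (CohB1.ProjSpace n R).Modules) (hG : IsD G) :
    ∃ (m : ℕ) (e : Fin m → ℤ) (ψ : (∐ fun j => Twist.twistProjSpace n R (e j)) ⟶ G),
      Epi ψ ∧ IsD (kernel ψ) := by
  classical
  haveI : G.IsQuasicoherent := hG.1
  haveI := hG.2
  choose S hS using fun k => (inferInstance :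
    Module.Finite Γ(CohB1.ProjSpace n R, chart n R k) Γ(G, chart n R k)).fg_top
  let G' : (Proj (CohB1.polyGrading n R)).Modules := G
  haveI : G'.IsQuasicoherent := hG.1
  let J := (k : Fin (n + 1)) × S k
  choose N₀ hN₀ using fun j : J =>
    exists_hom_twist (family (n := n) (R := R)) G' (X_mem (R := R) j.1) j.2.1
  choose φ t ht using fun j : J => hN₀ j (N₀ j) le_rfl
  let e : Fin (Fintype.card J) ≃ J := (Fintype.equivFin J).symm
  let d : Fin (Fintype.card J) → ℤ := fun i => -((N₀ (e i) * 1 : ℕ) : ℤ)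
  let E : Fin (Fintype.card J) → (CohB1.ProjSpace n R).Modules := fun i => Twist.twistProjSpace n R (d i)
  let ψ : ∐ E ⟶ G := Sigma.desc fun i => φ (e i)
  have hepi : Epi ψ := by
    refine epi_of_affine_cover ψ (chart n R) isAffineOpen_chart (family (n := n) (R := R)).cover
      (fun k => (S k : Set _)) hS fun k s hs => ?_
    have key : ∀ j : J, ∃ m, ψ.app (chart n R j.1) m = j.2.1 := fun j => by
      obtain ⟨i, rfl⟩ := e.surjective j
      refine ⟨(Sigma.ι E i).app _ (t (e i)), ?_⟩
      rw [← ConcreteCategory.comp_apply, ← Scheme.Modules.Hom.comp_app, Sigma.ι_desc]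
      exact ht (e i)
    exact key ⟨k, s, hs⟩
  refine ⟨_, d, ψ, hepi, ?_⟩
  have hEq : ∀ i, (E i).IsQuasicoherent := fun i => (isQCoh_twist n R (d i) : _)
  haveI : ∀ j, ((Discrete.functor E).obj j).IsQuasicoherent := fun j => hEq j.as
  haveI : (∐ E).IsQuasicoherent :=
    QCohMod.isQCoh_of_isColimit (Discrete.functor E) _ (colimit.isColimit _)
  refine ⟨inferInstance, fun i => ?_⟩
  have hU := isAffineOpen_chart (R := R) (n := n) i
  haveI := (sections_sigma (R := R) d i).1
  let ι' := appₗ (kernel.ι ψ) (chart n R i)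
  have hinj : Function.Injective ι' := app_injective_of_mono (kernel.ι ψ) (chart n R i)
  have hrange : LinearMap.range ι' = LinearMap.ker (appₗ ψ (chart n R i)) := by
    ext x
    constructor
    · rintro ⟨y, rfl⟩
      exact congr($(congrArg (fun φ : kernel ψ ⟶ G => φ.app (chart n R i)) (kernel.condition ψ)) y)
    · intro hx
      exact exists_app_eq_of_exact (S := ShortComplex.mk (kernel.ι ψ) ψ (kernel.condition ψ))
        (ShortComplex.exact_of_f_is_kernel _ (kernelIsKernel ψ)) hU x hx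
  haveI : Module.Finite Γ(CohB1.ProjSpace n R, chart n R i) Γ(kernel ψ, chart n R i) := by
    refine ⟨Submodule.fg_of_fg_map_injective ι' hinj ?_⟩
    rw [Submodule.map_top, hrange]
    exact Module.FinitePresentation.fg_ker (appₗ ψ (chart n R i)) (app_surjective_of_epi ψ hU)
  let c := scalarHom (CohB1.ProjSpace.toSpec n R) (chart n R i)
  letI : Algebra R Γ(CohB1.ProjSpace n R, chart n R i) := c.toAlgebra
  haveI : Algebra.FiniteType R Γ(CohB1.ProjSpace n R, chart n R i) := finiteType_scalarHom _ hU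
  letI : Module R Γ(kernel ψ, chart n R i) := Module.compHom _ c
  haveI : IsScalarTower R Γ(CohB1.ProjSpace n R, chart n R i) Γ(kernel ψ, chart n R i) :=
    ⟨fun a x m => mul_smul (c a) x m⟩
  refine SatFG.finitePresentation hR _ _ fun a x ha hax => hinj ?_
  rw [map_zero]
  refine (sections_sigma (R := R) d i).2 a (ι' x) ha ?_
  rw [← map_smul]
  exact (congrArg ι' hax).trans (map_zero _)

include hR in
/-- Serre vanishing for modules with finitely presented sections on charts. -/
theorem exists_subsingleton (F : (CohB1.ProjSpace n R).Modules) (hF : IsD F) :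
    ∃ d₀ : ℤ, ∀ d : ℤ, d₀ ≤ d → ∀ q : ℕ, 0 < q →
      Subsingleton (Coh.HH (CohB1.ProjSpace n R)
        (CohB1.tensorMod F (Twist.twistProjSpace n R d)) q) := by
  refine exists_subsingleton_of_presentations (CohB1.polyGrading n R) hgen
    (CohB1.ProjSpace.toSpec n R) n
    (fun M q hM hq => by
      have : Coh.IsQCoh (X := CohB1.ProjSpace n R) M := hM
      exact subsingleton_HH_of_lt n R (M : (CohB1.ProjSpace n R).Modules) hq)
    (fun e q hq he => subsingleton_HH_twist e q (fun h => by omega) (fun h => by omega))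
    (fun e => (isQCoh_twist n R e : _)) (fun e => Ega2Proj.isInvertible_twist (hgen (n := n) (R := R)) e) IsD (fun G hG => hG.1)
    (fun G hG => exists_presentation hR G hG) F hF

variable {X : Scheme.{u}} (ι : X ⟶ CohB1.ProjSpace n R) [IsClosedImmersion ι]
  [Flat (ι ≫ CohB1.ProjSpace.toSpec n R)]

include hR in
/-- Serre vanishing on flat closed subschemes. -/
theorem exists_subsingleton_closed (F : X.Modules) [F.IsQuasicoherent]
    (hF : ∀ i, Module.FinitePresentation Γ(X, ι ⁻¹ᵁ chart n R i) Γ(F, ι ⁻¹ᵁ chart n R i)) :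
    ∃ N : ℕ, ∀ d : ℕ, N ≤ d → ∀ q : ℕ, 0 < q →
      Subsingleton (Coh.HH X (CohB1.tensorMod F
        (CohB1.tensorPow ((Scheme.Modules.pullback ι).obj (Twist.twistProjSpace n R 1)) d)) q) := by
  haveI := isQCoh_pushforward F ι
  have hD : IsD ((Scheme.Modules.pushforward ι).obj F) := by
    refine ⟨inferInstance, fun i => ?_⟩
    have hU := isAffineOpen_chart (R := R) (n := n) i
    have hV : IsAffineOpen (ι ⁻¹ᵁ chart n R i) := hU.preimage ι
    let c := scalarHom (CohB1.ProjSpace.toSpec n R) (chart n R i)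
    let g := (ι.app (chart n R i)).hom
    letI : Algebra R Γ(CohB1.ProjSpace n R, chart n R i) := c.toAlgebra
    haveI : Algebra.FiniteType R Γ(CohB1.ProjSpace n R, chart n R i) := finiteType_scalarHom _ hU
    letI : Algebra R Γ(X, ι ⁻¹ᵁ chart n R i) :=
      (scalarHom (ι ≫ CohB1.ProjSpace.toSpec n R) (ι ⁻¹ᵁ chart n R i)).toAlgebra
    haveI : Module.Flat R Γ(X, ι ⁻¹ᵁ chart n R i) :=
      flat_scalarHom (ι ≫ CohB1.ProjSpace.toSpec n R) hV
    letI : Algebra Γ(CohB1.ProjSpace n R, chart n R i) Γ(X, ι ⁻¹ᵁ chart n R i) := g.toAlgebra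
    haveI : IsScalarTower R Γ(CohB1.ProjSpace n R, chart n R i) Γ(X, ι ⁻¹ᵁ chart n R i) :=
      IsScalarTower.of_algebraMap_eq fun a =>
        RingHom.congr_fun (scalarHom_comp (CohB1.ProjSpace.toSpec n R) ι (chart n R i)) a
    haveI : Module.Finite Γ(CohB1.ProjSpace n R, chart n R i) Γ(X, ι ⁻¹ᵁ chart n R i) :=
      Module.Finite.of_surjective (Algebra.linearMap _ _) (ι.app_surjective _ hU)
    haveI : Module.FinitePresentation Γ(CohB1.ProjSpace n R, chart n R i) Γ(X, ι ⁻¹ᵁ chart n R i) :=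
      SatFG.finitePresentation hR _ _ fun a x ha hax =>
        (Module.Flat.isSMulRegular_of_nonZeroDivisors (mem_nonZeroDivisors_of_ne_zero ha))
          (hax.trans (smul_zero a).symm)
    haveI := hF i
    letI : Module Γ(CohB1.ProjSpace n R, chart n R i) Γ(F, ι ⁻¹ᵁ chart n R i) := Module.compHom _ g
    haveI : IsScalarTower Γ(CohB1.ProjSpace n R, chart n R i) Γ(X, ι ⁻¹ᵁ chart n R i)
        Γ(F, ι ⁻¹ᵁ chart n R i) := ⟨fun a x m => mul_smul (g a) x m⟩
    haveI := Module.FinitePresentation.trans Γ(CohB1.ProjSpace n R, chart n R i)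
      Γ(F, ι ⁻¹ᵁ chart n R i) Γ(X, ι ⁻¹ᵁ chart n R i)
    let e : Γ(F, ι ⁻¹ᵁ chart n R i) ≃ₗ[Γ(CohB1.ProjSpace n R, chart n R i)]
        Γ((Scheme.Modules.pushforward ι).obj F, chart n R i) :=
      { AddEquiv.refl _ with map_smul' := fun _ _ => rfl }
    exact Module.FinitePresentation.of_equiv e
  obtain ⟨d₀, hd⟩ := exists_subsingleton hR _ hD
  refine ⟨d₀.toNat, fun d hdd q hq => ?_⟩
  obtain ⟨a⟩ := nonempty_linearEquiv_push_twist n R ι F (d : ℤ) q
  have h : Subsingleton (CohFin.HA (CohB1.ProjSpace.toSpec n R)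
      (CohB1.tensorMod ((Scheme.Modules.pushforward ι).obj F) (Twist.twistProjSpace n R d)) q) :=
    hd d (by omega) q hq
  obtain ⟨e₁⟩ := Ega2Proj.nonempty_pow_iso (𝒜 := CohB1.polyGrading n R) hgen d
  obtain ⟨e₂⟩ := PicAux.pullback_tensorPow ι (Twist.twistProjSpace n R 1) d
  let e₁' : Twist.twistProjSpace n R d ≅ CohB1.tensorPow (Twist.twistProjSpace n R 1) d := e₁
  exact subsingleton_HH_of_iso (ι ≫ CohB1.ProjSpace.toSpec n R)
    (PicGrp.tensorModIso (Iso.refl F) ((Scheme.Modules.pullback ι).mapIso e₁' ≪≫ e₂))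
    (a.symm.toEquiv.subsingleton : _)

include hR in
/-- An epimorphism is surjective on global sections of high twists. -/
theorem exists_surjective_closed (F G : X.Modules) [F.IsQuasicoherent] [G.IsQuasicoherent]
    (hF : ∀ i, Module.FinitePresentation Γ(X, ι ⁻¹ᵁ chart n R i) Γ(F, ι ⁻¹ᵁ chart n R i))
    (hG : ∀ i, Module.FinitePresentation Γ(X, ι ⁻¹ᵁ chart n R i) Γ(G, ι ⁻¹ᵁ chart n R i))
    (φ : F ⟶ G) [Epi φ] :
    ∃ N : ℕ, ∀ d : ℕ, N ≤ d → Function.Surjective (((DCoh.tensorRightMod
      (CohB1.tensorPow ((Scheme.Modules.pullback ι).obj (Twist.twistProjSpace n R 1)) d)).map φ).app ⊤) := by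
  have hK : ∀ i, Module.FinitePresentation Γ(X, ι ⁻¹ᵁ chart n R i) Γ(kernel φ, ι ⁻¹ᵁ chart n R i) := by
    intro i
    have hV : IsAffineOpen (ι ⁻¹ᵁ chart n R i) := (isAffineOpen_chart i).preimage ι
    haveI := hF i
    haveI := hG i
    letI : Algebra R Γ(X, ι ⁻¹ᵁ chart n R i) :=
      (scalarHom (ι ≫ CohB1.ProjSpace.toSpec n R) (ι ⁻¹ᵁ chart n R i)).toAlgebra
    haveI : Module.Flat R Γ(X, ι ⁻¹ᵁ chart n R i) :=
      flat_scalarHom (ι ≫ CohB1.ProjSpace.toSpec n R) hV
    haveI : Algebra.FiniteType R Γ(X, ι ⁻¹ᵁ chart n R i) :=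
      finiteType_scalarHom (ι ≫ CohB1.ProjSpace.toSpec n R) hV
    let ι' := appₗ (kernel.ι φ) (ι ⁻¹ᵁ chart n R i)
    have hinj : Function.Injective ι' := app_injective_of_mono (kernel.ι φ) _
    have hrange : LinearMap.range ι' = LinearMap.ker (appₗ φ (ι ⁻¹ᵁ chart n R i)) := by
      ext x
      constructor
      · rintro ⟨y, rfl⟩
        exact congr($(congrArg (fun ψ : kernel φ ⟶ G => ψ.app (ι ⁻¹ᵁ chart n R i)) (kernel.condition φ)) y)
      · intro hx
        exact exists_app_eq_of_exact (S := ShortComplex.mk (kernel.ι φ) φ (kernel.condition φ))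
          (ShortComplex.exact_of_f_is_kernel _ (kernelIsKernel φ)) hV x hx
    haveI := SatFG.finitePresentation_of_fg_submodule hR _ _ (LinearMap.range ι')
      (hrange ▸ Module.FinitePresentation.fg_ker _ (app_surjective_of_epi φ hV))
    exact Module.FinitePresentation.of_equiv (LinearEquiv.ofInjective ι' hinj).symm
  obtain ⟨N, hN⟩ := exists_subsingleton_closed hR ι (kernel φ) hK
  refine ⟨N, fun d hd => ?_⟩
  let L := CohB1.tensorPow ((Scheme.Modules.pullback ι).obj (Twist.twistProjSpace n R 1)) d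
  have hL : PicF.IsInvertible L :=
    PicAux.isInvertible_tensorPow (PicAux.isInvertible_pullback _ (isInvertible_twist n R 1)) d
  let S : ShortComplex X.Modules := ShortComplex.mk (kernel.ι φ) φ (kernel.condition φ)
  have hS : S.ShortExact :=
    { exact := ShortComplex.exact_of_f_is_kernel _ (kernelIsKernel φ) }
  have hT := PicAux.shortExact_tensorRightMod hL hS
  let f := ι ≫ CohB1.ProjSpace.toSpec n R
  intro z
  have h1 : Subsingleton (CohFin.HA f ((DCoh.tensorRightMod L).obj (kernel φ)) 1) := hN d hd 1 one_pos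
  obtain ⟨x, hx⟩ := (CohFin.exact_mapL_delta (f := f) hT 0
    ((CohFin.equivSections f ((DCoh.tensorRightMod L).obj G)).symm z)).1 (h1.elim _ _)
  refine ⟨CohFin.equivSections f ((DCoh.tensorRightMod L).obj F) x, ?_⟩
  have h2 := congrArg (CohFin.equivSections f ((DCoh.tensorRightMod L).obj G)) hx
  erw [CohFin.equivSections_mapL, AddEquiv.apply_symm_apply] at h2
  exact h2

end Groth.Misc8.PruferCoh
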