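import Groth.Agent.Calg3.Bezout
import Mathlib.RingTheory.MvPolynomial.Homogeneous
import Mathlib.RingTheory.Localization.AtPrime.Basic
import Mathlib.RingTheory.Spectrum.Maximal.Basic
import Mathlib.RingTheory.Finiteness.Nakayama
import Mathlib.RingTheory.Flat.TorsionFree

/-!
Over a semilocal Prüfer domain, finite torsion-free modules over algebras of finite type are finitely presented.
-/

set_option autoImplicit false

open MvPolynomial

namespace Groth.Misc8.SatFG

universe u

variable {R : Type u} [CommRing R] [IsDomain R]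

theorem isBezout_of_semilocal (hR : ∀ (p : Ideal R) [p.IsPrime], ValuationRing (Localization.AtPrime p))
    [Finite (MaximalSpectrum R)] : IsBezout R := by
  classical
  have := Fintype.ofFinite (MaximalSpectrum R)
  rw [IsBezout.iff_span_pair_isPrincipal]
  intro x y
  have hdiv : ∀ m : MaximalSpectrum R, ∃ z : R, (z = x ∨ z = y) ∧ ∀ w ∈ Ideal.span ({x, y} : Set R),
      algebraMap R (Localization.AtPrime m.asIdeal) z ∣ algebraMap R _ w := fun m => by
    have := hR m.asIdeal
    rcases ValuationRing.dvd_total (algebraMap R (Localization.AtPrime m.asIdeal) x) (algebraMap R _ y) with h | h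
    · refine ⟨x, Or.inl rfl, fun w hw => ?_⟩
      obtain ⟨a, b, rfl⟩ := Ideal.mem_span_pair.mp hw
      rw [map_add, map_mul, map_mul]
      exact dvd_add (dvd_mul_of_dvd_right dvd_rfl _) (dvd_mul_of_dvd_right h _)
    · refine ⟨y, Or.inr rfl, fun w hw => ?_⟩
      obtain ⟨a, b, rfl⟩ := Ideal.mem_span_pair.mp hw
      rw [map_add, map_mul, map_mul]
      exact dvd_add (dvd_mul_of_dvd_right h _) (dvd_mul_of_dvd_right dvd_rfl _)
  choose z hz hzd using hdiv
  have hzm : ∀ m, z m ∈ Ideal.span ({x, y} : Set R) := fun m => by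
    rcases hz m with h | h <;> rw [h] <;> exact Ideal.subset_span (by simp)
  have hex : ∀ m : MaximalSpectrum R, ∃ e : R, (∀ n, n ≠ m → e ∈ n.asIdeal) ∧ e ∉ m.asIdeal := fun m => by
    have h : ∀ n : MaximalSpectrum R, n ≠ m → ∃ r, r ∈ n.asIdeal ∧ r ∉ m.asIdeal := fun n hn => by
      by_contra hc
      push Not at hc
      exact hn (MaximalSpectrum.ext (n.isMaximal.eq_of_le m.isMaximal.ne_top hc))
    choose r hr hr' using h
    refine ⟨∏ n ∈ (Finset.univ.erase m).attach, r n.1 (Finset.ne_of_mem_erase n.2), fun n hn => ?_, fun hmem => ?_⟩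
    · exact n.asIdeal.mem_of_dvd (Finset.dvd_prod_of_mem _ (Finset.mem_attach _ ⟨n, by simp [hn]⟩)) (hr n hn)
    · obtain ⟨n, -, hn⟩ := (Ideal.IsPrime.prod_mem_iff (hp := m.isMaximal.isPrime)).mp hmem
      exact hr' _ _ hn
  choose e he he' using hex
  refine ⟨⟨∑ m, e m * z m, le_antisymm (fun w hw => ?_) ?_⟩⟩
  · refine Ideal.mem_of_localization_maximal fun P hP => ?_
    let m : MaximalSpectrum R := ⟨P, hP⟩
    let L := Localization.AtPrime P
    have hc : ∀ j, ∃ c, algebraMap R L (z j) = algebraMap R L (z m) * c := fun j => hzd m _ (hzm j)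
    choose c hc using hc
    have hu : IsUnit (algebraMap R L (e m) + ∑ j ∈ Finset.univ.erase m, algebraMap R L (e j) * c j) := by
      by_contra hu
      have h1 : (∑ j ∈ Finset.univ.erase m, algebraMap R L (e j) * c j) ∈ IsLocalRing.maximalIdeal L :=
        Ideal.sum_mem _ fun j hj => Ideal.mul_mem_right _ _
          ((IsLocalization.AtPrime.to_map_mem_maximal_iff L P _).mpr (he j m (Finset.ne_of_mem_erase hj).symm))
      have h2 : algebraMap R L (e m) ∈ IsLocalRing.maximalIdeal L := by
        have := (IsLocalRing.maximalIdeal L).sub_mem ((IsLocalRing.mem_maximalIdeal _).mpr hu) h1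
        simpa using this
      exact he' m ((IsLocalization.AtPrime.to_map_mem_maximal_iff L P _).mp h2)
    have hsum : algebraMap R L (∑ j, e j * z j) = algebraMap R L (z m) *
        (algebraMap R L (e m) + ∑ j ∈ Finset.univ.erase m, algebraMap R L (e j) * c j) := by
      rw [← Finset.add_sum_erase _ _ (Finset.mem_univ m), map_add, map_sum, mul_add, Finset.mul_sum, map_mul,
        mul_comm (algebraMap R L (e m))]
      congr 1
      refine Finset.sum_congr rfl fun j _ => ?_
      rw [map_mul, hc j]
      ring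
    obtain ⟨d, hd⟩ := hzd m w hw
    obtain ⟨v, hv⟩ := hu
    rw [← hv] at hsum
    have key : algebraMap R L w = algebraMap R L (∑ j, e j * z j) * (↑v⁻¹ * d) := by
      rw [hsum, mul_assoc, ← mul_assoc (v : L), Units.mul_inv, one_mul]; exact hd
    rw [key]
    exact Ideal.mul_mem_right _ _ (Ideal.mem_map_of_mem _ (Submodule.mem_span_singleton_self _))
  · rw [Ideal.submodule_span_eq, Ideal.span_le, Set.singleton_subset_iff]
    exact Ideal.sum_mem _ fun m _ => Ideal.mul_mem_left _ _ (hzm m)

section Graded

variable {σ : Type u} [Finite σ] {r : ℕ}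

/-- Dehomogenisation. -/
noncomputable def δ : MvPolynomial (Option σ) R →ₐ[R] MvPolynomial σ R :=
  aeval fun o => o.elim 1 X

/-- Componentwise dehomogenisation. -/
noncomputable def δr : (Fin r → MvPolynomial (Option σ) R) →ₗ[R] (Fin r → MvPolynomial σ R) :=
  (δ (R := R) (σ := σ)).toLinearMap.compLeft (Fin r)

theorem exists_homogeneous (f : MvPolynomial σ R) (d : ℕ) (hd : f.totalDegree ≤ d) :
    ∃ F : MvPolynomial (Option σ) R, F.IsHomogeneous d ∧ δ F = f := by
  classical
  refine ⟨∑ m ∈ f.support, monomial (m.mapDomain Option.some + Finsupp.single none (d - m.degree)) (f.coeff m),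
    IsHomogeneous.sum _ _ _ fun m hm => isHomogeneous_monomial _ ?_, ?_⟩
  · have : m.degree ≤ d := le_trans (by simpa [Finsupp.degree_apply, Finsupp.sum] using le_totalDegree hm) hd
    rw [map_add, Finsupp.degree_mapDomain, Finsupp.degree_single]
    omega
  · conv_rhs => rw [f.as_sum]
    rw [map_sum]
    refine Finset.sum_congr rfl fun m hm => ?_
    simp only [δ, aeval_monomial]
    rw [Finsupp.prod_add_index' (by simp) (by simp [pow_add]),
      Finsupp.prod_mapDomain_index (by simp) (by simp [pow_add]), Finsupp.prod_single_index (by simp),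
      monomial_eq]
    simp

variable (K : Submodule (MvPolynomial σ R) (Fin r → MvPolynomial σ R))

/-- Homogeneous vectors of degree `d`. -/
noncomputable def Hd (σ : Type u) (r d : ℕ) : Submodule R (Fin r → MvPolynomial (Option σ) R) :=
  Submodule.pi Set.univ fun _ => homogeneousSubmodule (Option σ) R d

theorem fg_Hd (d : ℕ) : (Hd (R := R) σ r d).FG := by
  classical
  refine Submodule.fg_pi fun _ => ?_
  rw [homogeneousSubmodule_eq_finsupp_supported]
  have : {m : Option σ →₀ ℕ | m.degree = d}.Finite := by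
    have := Fintype.ofFinite (Option σ)
    refine ((Finset.univ : Finset (Option σ)).finsuppAntidiag d).finite_toSet.subset fun m hm => ?_
    simp only [Finset.mem_coe, Finset.mem_finsuppAntidiag]
    exact ⟨by rw [← Finsupp.degree_eq_sum]; exact hm, Finset.subset_univ _⟩
  rw [AddMonoidAlgebra.supported_eq_span_single]
  exact Submodule.fg_span (this.image _)

/-- Homogeneous vectors whose dehomogenisation lies in `K`. -/
noncomputable def Ld (d : ℕ) : Submodule R (Fin r → MvPolynomial (Option σ) R) :=
  Hd σ r d ⊓ (K.restrictScalars R).comap δr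

theorem Ld_props [IsBezout R] (hK : ∀ a : R, a ≠ 0 → ∀ v, a • v ∈ K → v ∈ K) (d : ℕ) :
    (Ld K d).FG ∧ ∀ (p : Ideal R) (v : Fin r → MvPolynomial (Option σ) R),
      v ∈ Ld K d → v ∈ p • Hd (R := R) σ r d → v ∈ p • Ld K d := by
  classical
  let H := Hd (R := R) σ r d
  haveI : Module.Finite R H := Module.Finite.iff_fg.mpr (fg_Hd d)
  let N : Submodule R H := (Ld K d).comap H.subtype
  haveI : Module.IsTorsionFree R (H ⧸ N) := Module.IsTorsionFree.of_smul_eq_zero fun a q h => by
    obtain ⟨v, rfl⟩ := Submodule.Quotient.mk_surjective _ q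
    refine or_iff_not_imp_left.mpr fun ha => ?_
    rw [← Submodule.Quotient.mk_smul, Submodule.Quotient.mk_eq_zero] at h
    rw [Submodule.Quotient.mk_eq_zero]
    refine ⟨v.2, hK a ha _ ?_⟩
    have := h.2
    change δr (a • (v : Fin r → MvPolynomial (Option σ) R)) ∈ K at this
    rw [map_smul] at this
    exact this
  haveI := Groth.Calg3.Bezout.free_of_torsionFree (R := R) (H ⧸ N)
  obtain ⟨s, hs⟩ := Module.projective_lifting_property N.mkQ LinearMap.id (Submodule.mkQ_surjective N)
  let ρ : H →ₗ[R] H := LinearMap.id - s ∘ₗ N.mkQ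
  have hρmem : ∀ h, ρ h ∈ N := fun h => by
    rw [← Submodule.Quotient.mk_eq_zero]
    show N.mkQ (h - s (N.mkQ h)) = 0
    rw [map_sub, show N.mkQ (s (N.mkQ h)) = N.mkQ h from LinearMap.congr_fun hs _, sub_self]
  have hρid : ∀ h, h ∈ N → ρ h = h := fun h hh => by
    show h - s (N.mkQ h) = h
    rw [show N.mkQ h = 0 from (Submodule.Quotient.mk_eq_zero _).mpr hh, map_zero, sub_zero]
  let ρ' : H →ₗ[R] (Fin r → MvPolynomial (Option σ) R) := H.subtype ∘ₗ ρ
  have himage : LinearMap.range ρ' = Ld K d := by
    refine le_antisymm ?_ fun v hv => ⟨⟨v, hv.1⟩, ?_⟩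
    · rintro _ ⟨h, rfl⟩; exact hρmem h
    · show (ρ ⟨v, hv.1⟩ : Fin r → MvPolynomial (Option σ) R) = v
      rw [hρid _ hv]
  refine ⟨himage ▸ ?_, fun p v hv hpv => ?_⟩
  · rw [LinearMap.range_eq_map]; exact Module.Finite.fg_top.map _
  · have hpv' : (⟨v, hv.1⟩ : H) ∈ p • (⊤ : Submodule R H) := by
      have hpv2 : v ∈ (p • (⊤ : Submodule R H)).map H.subtype := by
        rw [Submodule.map_smul'', Submodule.map_subtype_top]; exact hpv
      obtain ⟨w, hw, hwv⟩ := hpv2
      rwa [← (Subtype.ext hwv : w = ⟨v, hv.1⟩)]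
    have h1 := Submodule.mem_map_of_mem (f := ρ') hpv'
    rw [Submodule.map_smul'', Submodule.map_top, himage] at h1
    rwa [show ρ' ⟨v, hv.1⟩ = v from congrArg Subtype.val (hρid _ hv)] at h1

/-- Reduction of coefficients. -/
noncomputable def red (p : Ideal R) (F : Fin r → MvPolynomial (Option σ) R) (i : Fin r) :
    MvPolynomial (Option σ) (R ⧸ p) :=
  MvPolynomial.map (Ideal.Quotient.mk p) (F i)

theorem exists_gens (p : Ideal R) [p.IsMaximal] :
    ∃ G : Finset (Fin r → MvPolynomial (Option σ) R), (∀ g ∈ G, ∃ e, g ∈ Ld K e) ∧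
      ∀ d, ∀ F ∈ Ld K d, red p F ∈ Submodule.span (MvPolynomial (Option σ) (R ⧸ p))
        (red p '' (G : Set (Fin r → MvPolynomial (Option σ) R))) := by
  classical
  let := Ideal.Quotient.field p
  obtain ⟨T, hT, hTspan⟩ := (Submodule.fg_span_iff_fg_span_finset_subset _).mp
    (IsNoetherian.noetherian (Submodule.span (MvPolynomial (Option σ) (R ⧸ p))
      (red p '' (⋃ d, (Ld K d : Set (Fin r → MvPolynomial (Option σ) R))))))
  obtain ⟨G, hG, rfl⟩ := Finset.subset_set_image_iff.mp hT
  refine ⟨G, fun g hg => Set.mem_iUnion.mp (hG hg), fun d F hF => ?_⟩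
  have h1 := Submodule.subset_span (R := MvPolynomial (Option σ) (R ⧸ p))
    (Set.mem_image_of_mem (red p) ((Set.mem_iUnion (s := fun d => (Ld K d : Set (Fin r → MvPolynomial (Option σ) R)))).mpr ⟨d, hF⟩))
  rwa [hTspan, Finset.coe_image] at h1

theorem exists_congr (p : Ideal R) (N : Submodule (MvPolynomial σ R) (Fin r → MvPolynomial σ R)) (hNK : N ≤ K)
    (G : Finset (Fin r → MvPolynomial (Option σ) R)) (hG : ∀ g ∈ G, ∃ e, g ∈ Ld K e) (hGN : ∀ g ∈ G, δr g ∈ N)
    (d : ℕ) (F : Fin r → MvPolynomial (Option σ) R) (hF : F ∈ Ld K d)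
    (hmem : red p F ∈ Submodule.span (MvPolynomial (Option σ) (R ⧸ p))
        (red p '' (G : Set (Fin r → MvPolynomial (Option σ) R)))) :
    ∃ F' : Fin r → MvPolynomial (Option σ) R, F' ∈ Ld K d ∧ F' ∈ p • Hd (R := R) σ r d ∧
      δr (F - F') ∈ N := by
  classical
  rw [Submodule.mem_span_image_finset_iff_exists_fun] at hmem
  obtain ⟨c, hc⟩ := hmem
  choose e he using fun g : ↥G => hG g g.2
  choose c₀ hc₀ using fun g => MvPolynomial.map_surjective (σ := Option σ) (Ideal.Quotient.mk p)
    Ideal.Quotient.mk_surjective (c g)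
  let C : ↥G → MvPolynomial (Option σ) R := fun g =>
    if e g ≤ d then homogeneousComponent (d - e g) (c₀ g) else 0
  let F' : Fin r → MvPolynomial (Option σ) R := F - ∑ g, C g • (g : Fin r → MvPolynomial (Option σ) R)
  have hCd : ∀ g : ↥G, C g • (g : Fin r → MvPolynomial (Option σ) R) ∈ Hd (R := R) σ r d ∧
      δr (C g • (g : Fin r → MvPolynomial (Option σ) R)) ∈ N := fun g => by
    constructor
    · refine Submodule.mem_pi.mpr fun i _ => ?_
      show C g * (g : Fin r → MvPolynomial (Option σ) R) i ∈ homogeneousSubmodule (Option σ) R d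
      by_cases hle : e g ≤ d
      · simp only [C, if_pos hle]
        have := (homogeneousComponent_isHomogeneous (d - e g) (c₀ g)).mul
          (Submodule.mem_pi.mp (he g).1 i trivial)
        rwa [Nat.sub_add_cancel hle] at this
      · simp only [C, if_neg hle, zero_mul]; exact zero_mem _
    · have : δr (C g • (g : Fin r → MvPolynomial (Option σ) R)) =
          δ (C g) • δr (g : Fin r → MvPolynomial (Option σ) R) := by
        ext i; simp [δr]
      rw [this]
      exact N.smul_mem _ (hGN g g.2)
  have hF' : F' ∈ Ld K d := by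
    refine ⟨(Hd (R := R) σ r d).sub_mem hF.1 (Submodule.sum_mem _ fun g _ => (hCd g).1), ?_⟩
    show δr F' ∈ K
    simp only [F', map_sub, map_sum]
    exact K.sub_mem hF.2 (Submodule.sum_mem _ fun g _ => hNK (hCd g).2)
  have hred : ∀ i, MvPolynomial.map (Ideal.Quotient.mk p) (F' i) = 0 := by
    intro i
    have hci := congrFun hc i
    simp only [Finset.sum_apply, Pi.smul_apply, smul_eq_mul] at hci
    have hFi : (red p F i).IsHomogeneous d := IsHomogeneous.map (Submodule.mem_pi.mp hF.1 i trivial) _
    have e1 : red p F i = homogeneousComponent d (red p F i) := by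
      rw [homogeneousComponent_of_mem hFi, if_pos rfl]
    simp only [F', Pi.sub_apply, map_sub, Finset.sum_apply, map_sum]
    rw [show MvPolynomial.map (Ideal.Quotient.mk p) (F i) = red p F i from rfl, e1, ← hci, map_sum,
      ← Finset.sum_sub_distrib]
    refine Finset.sum_eq_zero fun g _ => sub_eq_zero.mpr ?_
    rw [Pi.smul_apply, smul_eq_mul, show red p (g : Fin r → MvPolynomial (Option σ) R) i =
      MvPolynomial.map (Ideal.Quotient.mk p) ((g : Fin r → MvPolynomial (Option σ) R) i) from rfl, ← hc₀ g]
    have hgi := Submodule.mem_pi.mp (he g).1 i trivial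
    rw [← map_mul (MvPolynomial.map (Ideal.Quotient.mk p))]
    have hcomm : ∀ (n : ℕ) (f : MvPolynomial (Option σ) R),
        homogeneousComponent n (MvPolynomial.map (Ideal.Quotient.mk p) f) =
          MvPolynomial.map (Ideal.Quotient.mk p) (homogeneousComponent n f) := fun n f => by
      ext m
      rw [coeff_homogeneousComponent, coeff_map, coeff_map, coeff_homogeneousComponent]
      split_ifs <;> simp
    rw [hcomm]
    congr 1
    by_cases hle : e g ≤ d
    · simp only [C, if_pos hle]
      conv_lhs => rw [← sum_homogeneousComponent (c₀ g), Finset.sum_mul, map_sum]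
      rw [Finset.sum_eq_single (d - e g)]
      · rw [homogeneousComponent_of_mem ((homogeneousComponent_isHomogeneous _ _).mul hgi), if_pos (by omega)]
      · intro b _ hb
        rw [homogeneousComponent_of_mem ((homogeneousComponent_isHomogeneous _ _).mul hgi), if_neg (by omega)]
      · intro hb
        rw [homogeneousComponent_eq_zero (d - e g) (c₀ g) (by simp at hb; omega), zero_mul, map_zero]
    · simp only [C, if_neg hle, zero_mul]
      conv_lhs => rw [← sum_homogeneousComponent (c₀ g), Finset.sum_mul, map_sum]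
      refine Finset.sum_eq_zero fun b _ => ?_
      rw [homogeneousComponent_of_mem ((homogeneousComponent_isHomogeneous _ _).mul hgi), if_neg (by omega)]
  refine ⟨F', hF', ?_, ?_⟩
  · have e2 : F' = ∑ i, ∑ m ∈ (F' i).support, (F' i).coeff m • Pi.single i (monomial m (1 : R)) := by
      funext j
      simp only [Finset.sum_apply, Pi.smul_apply, Pi.single_apply, smul_ite, smul_zero, smul_monomial,
        smul_eq_mul, mul_one, Finset.sum_ite_irrel, Finset.sum_const_zero]
      rw [Finset.sum_ite_eq Finset.univ j]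
      simp only [Finset.mem_univ, if_true]
      exact (F' j).as_sum
    rw [e2]
    refine Submodule.sum_mem _ fun i _ => Submodule.sum_mem _ fun m hm => Submodule.smul_mem_smul ?_ ?_
    · rw [← Ideal.Quotient.eq_zero_iff_mem, ← coeff_map, hred i, coeff_zero]
    · refine Submodule.mem_pi.mpr fun j _ => ?_
      rw [Pi.single_apply]
      split_ifs
      · refine isHomogeneous_monomial _ ?_
        have h4 : (F' i).IsHomogeneous d := Submodule.mem_pi.mp hF'.1 i trivial
        have := h4 (mem_support_iff.mp hm)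
        simpa [Finsupp.weight_apply, Finsupp.degree_apply, Finsupp.sum] using this
      · exact zero_mem _
  · simp only [F', sub_sub_cancel, map_sum]
    exact Submodule.sum_mem _ fun g _ => (hCd g).2

theorem fg_of_saturated [IsBezout R] [Finite (MaximalSpectrum R)]
    (hK : ∀ a : R, a ≠ 0 → ∀ v, a • v ∈ K → v ∈ K) : K.FG := by
  classical
  have := Fintype.ofFinite (MaximalSpectrum R)
  choose G hGdeg hGspan using fun p : MaximalSpectrum R => exists_gens K p.asIdeal
  let Gall : Finset (Fin r → MvPolynomial σ R) := Finset.univ.biUnion fun p => (G p).image δr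
  let N := Submodule.span (MvPolynomial σ R) (Gall : Set (Fin r → MvPolynomial σ R))
  have hGN : ∀ p, ∀ g ∈ G p, δr g ∈ N := fun p g hg => Submodule.subset_span (Finset.mem_coe.mpr
    (Finset.mem_biUnion.mpr ⟨p, Finset.mem_univ p, Finset.mem_image_of_mem _ hg⟩))
  have hNK : N ≤ K := by
    rw [Submodule.span_le]
    intro x hx
    obtain ⟨p, -, hx⟩ := Finset.mem_biUnion.mp (Finset.mem_coe.mp hx)
    obtain ⟨g, hg, rfl⟩ := Finset.mem_image.mp hx
    obtain ⟨e, he⟩ := hGdeg p g hg
    exact he.2
  refine ⟨Gall, le_antisymm hNK fun v hv => ?_⟩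
  obtain ⟨d, hd⟩ : ∃ d, ∀ i, (v i).totalDegree ≤ d :=
    ⟨Finset.univ.sup fun i => (v i).totalDegree,
      fun i => Finset.le_sup (f := fun i => (v i).totalDegree) (Finset.mem_univ i)⟩
  choose F hF hδ using fun i => exists_homogeneous (v i) d (hd i)
  have hδr : δr F = v := funext hδ
  have hFL : F ∈ Ld K d := ⟨Submodule.mem_pi.mpr fun i _ => hF i, by
    show δr F ∈ K
    rw [hδr]; exact hv⟩
  let π : (Fin r → MvPolynomial (Option σ) R) →ₗ[R] ((Fin r → MvPolynomial σ R) ⧸ N.restrictScalars R) :=
    (N.restrictScalars R).mkQ ∘ₗ δr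
  let Q := (Ld K d).map π
  have hstep : ∀ p : MaximalSpectrum R, Q ≤ p.asIdeal • Q := by
    intro p
    rintro _ ⟨F₁, hF₁, rfl⟩
    obtain ⟨F', h1, h2, h3⟩ := exists_congr K p.asIdeal N hNK (G p) (hGdeg p) (hGN p) d F₁ hF₁
      (hGspan p d F₁ hF₁)
    have h4 := Submodule.mem_map_of_mem (f := π) ((Ld_props K hK d).2 p.asIdeal F' h1 h2)
    rw [Submodule.map_smul''] at h4
    have e3 : π F₁ = π F' := by
      rw [← sub_eq_zero, ← map_sub]
      exact (Submodule.Quotient.mk_eq_zero _).mpr h3
    rwa [e3]
  have hprod : ∀ s : Finset (MaximalSpectrum R), Q ≤ (∏ p ∈ s, p.asIdeal) • Q := fun s => by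
    induction s using Finset.induction_on with
    | empty => simp
    | insert a s ha ih =>
      rw [Finset.prod_insert ha, Submodule.mul_smul]
      exact (hstep a).trans (Submodule.smul_mono le_rfl ih)
  have hjac : (∏ p : MaximalSpectrum R, p.asIdeal) ≤ Ideal.jacobson ⊥ := le_sInf fun J hJ =>
    Ideal.prod_le_inf.trans (Finset.inf_le (Finset.mem_univ (⟨J, hJ.2⟩ : MaximalSpectrum R)))
  have hQbot : Q = ⊥ := Submodule.eq_bot_of_le_smul_of_le_jacobson_bot _ Q
    ((Ld_props K hK d).1.map π) (hprod Finset.univ) hjac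
  have hm : π F ∈ Q := Submodule.mem_map_of_mem hFL
  rw [hQbot, Submodule.mem_bot] at hm
  have hmem : δr F ∈ N.restrictScalars R := (Submodule.Quotient.mk_eq_zero _).mp hm
  rw [hδr] at hmem
  exact hmem

end Graded

theorem descend {P A M : Type u} [CommRing P] [CommRing A] [Algebra P A] (hf : Function.Surjective (algebraMap P A))
    [AddCommGroup M] [Module P M] [Module A M] [IsScalarTower P A M] [Module.FinitePresentation P M] :
    Module.FinitePresentation A M := by
  obtain ⟨n, π, hπ⟩ := Module.Finite.exists_fin' P M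
  let πA : (Fin n → A) →ₗ[A] M := Fintype.linearCombination A fun i => π (Pi.single i 1)
  let q : (Fin n → P) →ₗ[P] (Fin n → A) := (Algebra.linearMap P A).compLeft (Fin n)
  have hq : ∀ x, πA (q x) = π x := fun x => by
    conv_rhs => rw [pi_eq_sum_univ' x]
    simp only [πA, Fintype.linearCombination_apply, q, map_sum, map_smul, LinearMap.compLeft_apply,
      Algebra.linearMap_apply, algebraMap_smul, Function.comp_apply]
  have hqs : ∀ y, ∃ x, q x = y := fun y => by
    choose x hx using fun i => hf (y i)
    exact ⟨x, funext hx⟩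
  obtain ⟨G, hG⟩ := Module.FinitePresentation.fg_ker π hπ
  classical
  refine Module.finitePresentation_of_surjective πA (fun m => ?_) ⟨G.image q, le_antisymm ?_ fun y hy => ?_⟩
  · obtain ⟨x, rfl⟩ := hπ m
    exact ⟨q x, hq x⟩
  · rw [Submodule.span_le, Finset.coe_image]
    rintro _ ⟨x, hx, rfl⟩
    rw [SetLike.mem_coe, LinearMap.mem_ker, hq]
    exact (hG.le (Submodule.subset_span hx) :)
  · obtain ⟨x, rfl⟩ := hqs y
    rw [LinearMap.mem_ker, hq] at hy
    have hx : x ∈ Submodule.span P (G : Set (Fin n → P)) := hG.ge hy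
    have := Submodule.mem_map_of_mem (f := q) hx
    rw [Submodule.map_span, ← Finset.coe_image] at this
    exact Submodule.span_le_restrictScalars P A _ this

/-- A finite module over an algebra of finite type which is torsion-free over the base is finitely presented. -/
theorem finitePresentation (hR : ∀ (p : Ideal R) [p.IsPrime], ValuationRing (Localization.AtPrime p))
    [Finite (MaximalSpectrum R)] (A : Type u) [CommRing A] [Algebra R A] [Algebra.FiniteType R A]
    (M : Type u) [AddCommGroup M] [Module A M] [Module R M] [IsScalarTower R A M] [Module.Finite A M]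
    (htf : ∀ (a : R) (x : M), a ≠ 0 → a • x = 0 → x = 0) : Module.FinitePresentation A M := by
  haveI := isBezout_of_semilocal hR
  obtain ⟨σ, _, f, hf⟩ := Algebra.FiniteType.iff_quotient_mvPolynomial'.mp ‹Algebra.FiniteType R A›
  letI : Algebra (MvPolynomial σ R) A := f.toRingHom.toAlgebra
  letI : Module (MvPolynomial σ R) M := Module.compHom M f.toRingHom
  haveI : IsScalarTower (MvPolynomial σ R) A M := ⟨fun x a m => mul_smul (f x) a m⟩
  haveI : IsScalarTower R (MvPolynomial σ R) M := ⟨fun a x m => by
    show f (a • x) • m = a • f x • m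
    rw [map_smul, smul_assoc]⟩
  haveI : Module.Finite (MvPolynomial σ R) A := Module.Finite.of_surjective (Algebra.linearMap _ A) hf
  haveI : Module.Finite (MvPolynomial σ R) M := Module.Finite.trans A M
  obtain ⟨r, π, hπ⟩ := Module.Finite.exists_fin' (MvPolynomial σ R) M
  haveI : Module.FinitePresentation (MvPolynomial σ R) M := Module.finitePresentation_of_surjective π hπ
    (fg_of_saturated (LinearMap.ker π) fun a ha v hv => by
      rw [LinearMap.mem_ker, LinearMap.map_smul_of_tower] at hv
      exact htf a _ ha hv)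
  exact descend (P := MvPolynomial σ R) hf

/-- A flat algebra of finite type is coherent: finite submodules of finitely presented modules are finitely
presented. -/
theorem finitePresentation_of_fg_submodule (hR : ∀ (p : Ideal R) [p.IsPrime], ValuationRing (Localization.AtPrime p))
    [Finite (MaximalSpectrum R)] (A : Type u) [CommRing A] [Algebra R A] [Algebra.FiniteType R A] [Module.Flat R A]
    (M : Type u) [AddCommGroup M] [Module A M] [Module.FinitePresentation A M] (N : Submodule A M) (hN : N.FG) :
    Module.FinitePresentation A N := by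
  obtain ⟨n, π, hπ⟩ := Module.Finite.exists_fin' A M
  let N' : Submodule A (Fin n → A) := N.comap π
  have hker : (LinearMap.ker π).FG := Module.FinitePresentation.fg_ker π hπ
  have hN' : N'.FG := by
    refine Submodule.fg_of_fg_map_of_fg_inf_ker π ?_ ?_
    · rwa [Submodule.map_comap_eq_of_surjective hπ]
    · rwa [inf_eq_right.mpr (LinearMap.ker_le_comap π)]
  haveI : Module.Finite A N' := Module.Finite.iff_fg.mpr hN'
  haveI : Module.FinitePresentation A N' := finitePresentation hR A N' fun a x ha hax => by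
    ext i
    have h1 : a • ((x : Fin n → A) i) = 0 := congrFun (congrArg Subtype.val hax) i
    exact (Module.Flat.isSMulRegular_of_nonZeroDivisors (M := A) (mem_nonZeroDivisors_of_ne_zero ha))
      (h1.trans (smul_zero a).symm)
  let l : N' →ₗ[A] N := (π.comp N'.subtype).codRestrict N fun x => x.2
  refine Module.finitePresentation_of_surjective l (fun ⟨y, hy⟩ => ?_) ?_
  · obtain ⟨x, rfl⟩ := hπ y
    exact ⟨⟨x, hy⟩, rfl⟩
  · have hle : LinearMap.ker π ≤ N' := LinearMap.ker_le_comap π
    have : LinearMap.ker l = (LinearMap.ker π).comap N'.subtype := by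
      rw [LinearMap.ker_codRestrict, LinearMap.ker_comp]
    rw [this]
    exact (Submodule.fg_map_iff (f := N'.subtype) N'.injective_subtype).mp
      (by rwa [Submodule.map_comap_eq, Submodule.range_subtype, inf_eq_right.mpr hle])

end Groth.Misc8.SatFG
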