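import Groth.Agent.Misc8.ValDimAlg
import Groth.Agent.Misc8.SatFG

/-!
# The dimension function of an algebra of finite type over a Prüfer domain
-/

set_option autoImplicit false
set_option linter.style.haveILetI false

universe u

open TensorProduct

namespace Groth.Misc8.PruferDim

variable {R : Type u} [CommRing R] [IsDomain R]

theorem valuationRing_quotient (hR : ∀ (p : Ideal R) [p.IsPrime], ValuationRing (Localization.AtPrime p))
    (p : Ideal R) [p.IsPrime] (q : Ideal (R ⧸ p)) [q.IsPrime] :
    ValuationRing (Localization.AtPrime q) := by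
  haveI : IsDomain (Localization.AtPrime q) :=
    IsLocalization.isDomain_localization (Ideal.primeCompl_le_nonZeroDivisors q)
  have := hR (q.comap (Ideal.Quotient.mk p))
  let h : Localization.AtPrime (q.comap (Ideal.Quotient.mk p)) →+* Localization.AtPrime q :=
    Localization.localRingHom _ q (Ideal.Quotient.mk p) rfl
  have hs : Function.Surjective h := fun x => by
    obtain ⟨a, s, rfl⟩ := IsLocalization.exists_mk'_eq q.primeCompl x
    obtain ⟨a, rfl⟩ := Ideal.Quotient.mk_surjective a
    obtain ⟨t, ht⟩ := Ideal.Quotient.mk_surjective (s : R ⧸ p)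
    exact ⟨IsLocalization.mk' _ a (⟨t, fun h => s.2 (ht ▸ h)⟩ : (q.comap (Ideal.Quotient.mk p)).primeCompl), by
      rw [Localization.localRingHom_mk']; congr 1; exact Subtype.ext ht⟩
  rw [ValuationRing.iff_dvd_total]
  refine ⟨fun x y => ?_⟩
  obtain ⟨x, rfl⟩ := hs x
  obtain ⟨y, rfl⟩ := hs y
  exact (ValuationRing.dvd_total x y).imp (map_dvd h) (map_dvd h)

theorem exists_chart (A D V : Type u) [CommRing A] [CommRing D] [Algebra A D] [CommRing V] [Algebra A V]
    (N : Submonoid A) [IsLocalization N V] :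
    ∃ (E : Type u) (_ : CommRing E) (_ : Algebra A E) (_ : Algebra V E) (_ : Algebra D E) (_ : IsScalarTower A D E)
      (_ : IsScalarTower A V E) (_ : IsLocalization (Algebra.algebraMapSubmonoid D N) E),
      Nonempty ((V ⊗[A] D) ≃ₐ[V] E) := by
  letI : Algebra D (V ⊗[A] D) := Algebra.TensorProduct.rightAlgebra
  haveI : IsScalarTower A D (V ⊗[A] D) := IsScalarTower.of_algebraMap_eq fun a => by
    show algebraMap A (V ⊗[A] D) a = (1 : V) ⊗ₜ[A] algebraMap A D a
    simp [Algebra.algebraMap_eq_smul_one, TensorProduct.tmul_smul, Algebra.TensorProduct.one_def]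
  exact ⟨V ⊗[A] D, inferInstance, inferInstance, inferInstance, inferInstance, inferInstance, inferInstance,
    IsLocalization.tensorRight V N, ⟨AlgEquiv.refl⟩⟩

variable {S : Type u} [CommRing S] [Algebra R S] [Algebra.FiniteType R S]

/-- The transcendence degree at a prime. -/
noncomputable def nT (R : Type u) [CommRing R] {S : Type u} [CommRing S] [Algebra R S] (M : PrimeSpectrum S) : ℕ :=
  Cardinal.toNat (Algebra.trdeg (R ⧸ M.asIdeal.under R) (S ⧸ M.asIdeal))

theorem chart (hR : ∀ (p : Ideal R) [p.IsPrime], ValuationRing (Localization.AtPrime p))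
    (P Q : PrimeSpectrum S) (hPQ : P ≤ Q) :
    nT R Q ≤ nT R P ∧
      (Q.asIdeal.under R = P.asIdeal.under R → P < Q → nT R Q < nT R P) ∧
      (P ⋖ Q → Q.asIdeal.under R = P.asIdeal.under R → nT R Q + 1 = nT R P) ∧
      (P ⋖ Q → Q.asIdeal.under R ≠ P.asIdeal.under R → nT R Q = nT R P ∧
        ∀ r : Ideal R, r.IsPrime → P.asIdeal.under R < r → r ≤ Q.asIdeal.under R → r = Q.asIdeal.under R) := by
  classical
  let A := R ⧸ P.asIdeal.under R
  let D := S ⧸ P.asIdeal
  haveI : Algebra.FiniteType A D := Algebra.FiniteType.of_restrictScalars_finiteType R A D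
  have hAD : Function.Injective (algebraMap A D) := Ideal.algebraMap_quotient_injective
  let π := Ideal.Quotient.mk P.asIdeal
  let Qb : Ideal D := Q.asIdeal.map π
  haveI : Qb.IsPrime := Ideal.map_isPrime_of_surjective Ideal.Quotient.mk_surjective (by rw [Ideal.mk_ker]; exact hPQ)
  have hQb : Qb.comap π = Q.asIdeal := by
    rw [Ideal.comap_map_of_surjective' _ Ideal.Quotient.mk_surjective, Ideal.mk_ker, sup_eq_left]
    exact hPQ
  let qb : Ideal A := Qb.under A
  have hqb : ∀ a : R, Ideal.Quotient.mk (P.asIdeal.under R) a ∈ qb ↔ a ∈ Q.asIdeal.under R := fun a => by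
    conv_rhs => rw [← hQb]
    rfl
  obtain ⟨V, _, _, hV, _, _⟩ : ∃ (V : Type u) (_ : CommRing V) (_ : Algebra A V) (_ : IsLocalization.AtPrime V qb)
      (_ : IsDomain V), ValuationRing V :=
    ⟨Localization.AtPrime qb, inferInstance, inferInstance, inferInstance,
      IsLocalization.isDomain_localization (Ideal.primeCompl_le_nonZeroDivisors qb), valuationRing_quotient hR _ qb⟩
  haveI : IsLocalization qb.primeCompl V := hV
  obtain ⟨E, _, _, _, _, _, _, hE, ⟨eE⟩⟩ := exists_chart A D V qb.primeCompl
  haveI : Algebra.FiniteType V E := Algebra.FiniteType.equiv inferInstance eE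
  let M := Algebra.algebraMapSubmonoid D qb.primeCompl
  haveI : IsLocalization M E := hE
  have hM : M ≤ nonZeroDivisors D := by
    rintro _ ⟨s, hs, rfl⟩
    exact mem_nonZeroDivisors_of_ne_zero fun h => hs ((hAD (h.trans (map_zero _).symm)) ▸ qb.zero_mem)
  haveI : IsDomain E := IsLocalization.isDomain_of_le_nonZeroDivisors E hM
  have hDE : Function.Injective (algebraMap D E) := IsLocalization.injective E hM
  have hAV : Function.Injective (algebraMap A V) := IsLocalization.injective V (Ideal.primeCompl_le_nonZeroDivisors qb)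
  have hVE : Function.Injective (algebraMap V E) := by
    rw [injective_iff_map_eq_zero]
    intro v hv
    obtain ⟨a, s, rfl⟩ := IsLocalization.exists_mk'_eq qb.primeCompl v
    have h1 : algebraMap D E (algebraMap A D a) = 0 := by
      rw [← IsScalarTower.algebraMap_apply, IsScalarTower.algebraMap_apply A V E,
        ← IsLocalization.mk'_spec V a s, map_mul, hv, zero_mul]
    rw [hAD ((hDE (h1.trans (map_zero _).symm)).trans (map_zero _).symm), IsLocalization.mk'_zero]
  haveI : Algebra.IsAlgebraic D E := IsLocalization.isAlgebraic E M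
  haveI : Algebra.IsAlgebraic A V := IsLocalization.isAlgebraic V qb.primeCompl
  -- primes of `E` inside those of `S`
  let ψ : PrimeSpectrum E → PrimeSpectrum S := fun x =>
    PrimeSpectrum.comap π (PrimeSpectrum.comap (algebraMap D E) x)
  have hψle : ∀ x y, ψ x ≤ ψ y ↔ x ≤ y := fun x y => by
    refine ⟨fun h => ?_, fun h => Ideal.comap_mono (Ideal.comap_mono h)⟩
    have h1 : x.asIdeal.comap (algebraMap D E) ≤ y.asIdeal.comap (algebraMap D E) :=
      (Ideal.comap_le_comap_iff_of_surjective _ Ideal.Quotient.mk_surjective _ _).mp h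
    exact (IsLocalization.map_under M E x.asIdeal).symm.le.trans ((Ideal.map_mono h1).trans (IsLocalization.map_under M E y.asIdeal).le)
  have hdisj : Disjoint (M : Set D) (Qb : Set D) := Set.disjoint_left.mpr (by
    rintro _ ⟨s, hs, rfl⟩ h
    exact hs h)
  haveI := IsLocalization.isPrime_of_isPrime_disjoint M E Qb inferInstance hdisj
  let Q' : PrimeSpectrum E := ⟨Qb.map (algebraMap D E), inferInstance⟩
  have hQ'D : Q'.asIdeal.comap (algebraMap D E) = Qb :=
    IsLocalization.under_map_of_isPrime_disjoint M E inferInstance hdisj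
  have hψQ : ψ Q' = Q := PrimeSpectrum.ext (by
    show Ideal.comap π (Q'.asIdeal.comap (algebraMap D E)) = _
    rw [hQ'D, hQb])
  let z0 : PrimeSpectrum E := ⟨⊥, Ideal.isPrime_bot⟩
  have hψ0 : ψ z0 = P := PrimeSpectrum.ext (by
    show Ideal.comap π (Ideal.comap (algebraMap D E) ⊥) = _
    rw [Ideal.comap_bot_of_injective _ hDE]
    exact Ideal.mk_ker)
  have hVQ : ∀ x : PrimeSpectrum E, (∀ a : R, a ∈ (ψ x).asIdeal.under R ↔ a ∈ Q.asIdeal.under R) →
      PrimeSpectrum.comap (algebraMap V E) x = IsLocalRing.closedPoint V := fun x hx => by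
    refine PrimeSpectrum.ext ((IsLocalization.map_under qb.primeCompl V _).symm.trans ((congrArg (Ideal.map (algebraMap A V)) (Ideal.ext fun a => ?_)).trans (IsLocalization.map_under qb.primeCompl V _)))
    change _ ↔ a ∈ (IsLocalRing.maximalIdeal V).under A
    rw [IsLocalization.AtPrime.under_maximalIdeal V qb]
    obtain ⟨a, rfl⟩ := Ideal.Quotient.mk_surjective a
    rw [hqb, ← hx]
    show algebraMap V E (algebraMap A V (Ideal.Quotient.mk _ a)) ∈ x.asIdeal ↔
      algebraMap D E (algebraMap A D (Ideal.Quotient.mk _ a)) ∈ x.asIdeal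
    rw [← IsScalarTower.algebraMap_apply A V E, ← IsScalarTower.algebraMap_apply A D E]
  have hQm : PrimeSpectrum.comap (algebraMap V E) Q' = IsLocalRing.closedPoint V :=
    hVQ Q' fun a => by rw [hψQ]
  -- the two transcendence degrees as dimensions
  obtain ⟨L, _, _, _, _, _, _, hL', ⟨eL⟩⟩ := @exists_chart V E (FractionRing V) _ _ _ _ _ (nonZeroDivisors V) (inferInstanceAs (IsFractionRing V (FractionRing V)))
  haveI : Algebra.FiniteType (FractionRing V) L := Algebra.FiniteType.equiv inferInstance eL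
  let M' := Algebra.algebraMapSubmonoid E (nonZeroDivisors V)
  haveI : IsLocalization M' L := hL'
  have hM' : M' ≤ nonZeroDivisors E := by
    rintro _ ⟨s, hs, rfl⟩
    exact mem_nonZeroDivisors_of_ne_zero fun h => nonZeroDivisors.ne_zero hs (hVE (h.trans (map_zero _).symm))
  haveI : IsDomain L := IsLocalization.isDomain_of_le_nonZeroDivisors L hM'
  haveI : Algebra.IsAlgebraic E L := IsLocalization.isAlgebraic L M'
  haveI : Algebra.IsAlgebraic V (FractionRing V) := IsLocalization.isAlgebraic _ (nonZeroDivisors V)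
  have hP : Algebra.trdeg A D = Algebra.trdeg V E := ValFibre.trdeg_eq_of_algebraic A D V E hAV hAD hVE hDE
  have hL : ringKrullDim L = (nT R P : ℕ) := by
    rw [ValFibre.ringKrullDim_eq_trdeg (FractionRing V) L, ← ValFibre.trdeg_eq_of_algebraic V E (FractionRing V) L
      (IsFractionRing.injective _ _) hVE (algebraMap (FractionRing V) L).injective (IsLocalization.injective L hM'), ← hP]
    rfl
  have hQ : ringKrullDim (E ⧸ Q'.asIdeal) = (nT R Q : ℕ) := by
    let k := IsLocalRing.ResidueField V
    let l := E ⧸ Q'.asIdeal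
    have hm : IsLocalRing.maximalIdeal V = Q'.asIdeal.comap (algebraMap V E) :=
      (congrArg PrimeSpectrum.asIdeal hQm).symm
    letI : Algebra k l := (Ideal.Quotient.lift (IsLocalRing.maximalIdeal V) ((Ideal.Quotient.mk Q'.asIdeal).comp (algebraMap V E))
      fun v hv => Ideal.Quotient.eq_zero_iff_mem.mpr (hm.le hv)).toAlgebra
    haveI : IsScalarTower V k l := IsScalarTower.of_algebraMap_eq fun v => rfl
    haveI : Algebra.FiniteType V l := Algebra.FiniteType.trans (S := E) inferInstance inferInstance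
    haveI : Algebra.FiniteType k l := Algebra.FiniteType.of_restrictScalars_finiteType V k l
    let qR := Q.asIdeal.under R
    let uD : S →+* l := (Ideal.Quotient.mk Q'.asIdeal).comp ((algebraMap D E).comp π)
    have huD : RingHom.ker uD = Q.asIdeal := by
      ext s
      rw [RingHom.mem_ker]
      show Ideal.Quotient.mk Q'.asIdeal (algebraMap D E (π s)) = 0 ↔ _
      rw [Ideal.Quotient.eq_zero_iff_mem, ← Ideal.mem_comap, hQ'D, ← Ideal.mem_comap, hQb]
    let uA : R →+* k := (IsLocalRing.residue V).comp ((algebraMap A V).comp (Ideal.Quotient.mk _))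
    have huA : RingHom.ker uA = qR := by
      ext a
      rw [RingHom.mem_ker]
      show IsLocalRing.residue V (algebraMap A V (Ideal.Quotient.mk _ a)) = 0 ↔ _
      rw [IsLocalRing.residue_eq_zero_iff, IsLocalization.AtPrime.to_map_mem_maximal_iff V qb]
      exact hqb a
    letI : Algebra (R ⧸ qR) k := (Ideal.Quotient.lift qR uA fun a ha => RingHom.mem_ker.mp (huA.ge ha)).toAlgebra
    letI : Algebra (S ⧸ Q.asIdeal) l := (Ideal.Quotient.lift Q.asIdeal uD fun a ha => RingHom.mem_ker.mp (huD.ge ha)).toAlgebra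
    letI : Algebra (R ⧸ qR) l := ((algebraMap k l).comp (algebraMap (R ⧸ qR) k)).toAlgebra
    haveI : IsScalarTower (R ⧸ qR) k l := IsScalarTower.of_algebraMap_eq fun _ => rfl
    haveI : IsScalarTower (R ⧸ qR) (S ⧸ Q.asIdeal) l := IsScalarTower.of_algebraMap_eq fun a => by
      obtain ⟨a, rfl⟩ := Ideal.Quotient.mk_surjective a
      show Ideal.Quotient.mk Q'.asIdeal (algebraMap V E (algebraMap A V (Ideal.Quotient.mk _ a))) =
        Ideal.Quotient.mk Q'.asIdeal (algebraMap D E (algebraMap A D (Ideal.Quotient.mk _ a)))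
      rw [← IsScalarTower.algebraMap_apply A V E, ← IsScalarTower.algebraMap_apply A D E]
    have i1 : Function.Injective (algebraMap (R ⧸ qR) k) :=
      RingHom.lift_injective_of_ker_le_ideal _ _ huA.le
    have i2 : Function.Injective (algebraMap (S ⧸ Q.asIdeal) l) :=
      RingHom.lift_injective_of_ker_le_ideal _ _ huD.le
    haveI : Algebra.IsAlgebraic (R ⧸ qR) k := ValFibre.isAlgebraic_of_exists_mul _ _ i1 fun x => by
      obtain ⟨v, rfl⟩ := IsLocalRing.residue_surjective x
      obtain ⟨⟨a, s⟩, h⟩ := IsLocalization.surj qb.primeCompl v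
      obtain ⟨a', ha'⟩ := Ideal.Quotient.mk_surjective a
      obtain ⟨s', hs'⟩ := Ideal.Quotient.mk_surjective (s : A)
      refine ⟨Ideal.Quotient.mk _ s', Ideal.Quotient.mk _ a', fun h0 => s.2 ?_, ?_⟩
      · rw [← hs']; exact (hqb _).mpr (Ideal.Quotient.eq_zero_iff_mem.mp h0)
      · show IsLocalRing.residue V v * IsLocalRing.residue V (algebraMap A V (Ideal.Quotient.mk _ s')) =
          IsLocalRing.residue V (algebraMap A V (Ideal.Quotient.mk _ a'))
        rw [← map_mul, hs', ha', h]
    haveI : Algebra.IsAlgebraic (S ⧸ Q.asIdeal) l := ValFibre.isAlgebraic_of_exists_mul _ _ i2 fun x => by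
      obtain ⟨e, rfl⟩ := Ideal.Quotient.mk_surjective x
      obtain ⟨⟨d, s⟩, h⟩ := IsLocalization.surj M e
      obtain ⟨d', hd'⟩ := Ideal.Quotient.mk_surjective d
      obtain ⟨s', hs'⟩ := Ideal.Quotient.mk_surjective (s : D)
      refine ⟨Ideal.Quotient.mk _ s', Ideal.Quotient.mk _ d', fun h0 => ?_, ?_⟩
      · refine Set.disjoint_left.mp hdisj s.2 ?_
        rw [← hs', SetLike.mem_coe]
        exact Ideal.mem_map_of_mem π (Ideal.Quotient.eq_zero_iff_mem.mp h0)
      · show Ideal.Quotient.mk Q'.asIdeal e * Ideal.Quotient.mk Q'.asIdeal (algebraMap D E (π s')) =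
          Ideal.Quotient.mk Q'.asIdeal (algebraMap D E (π d'))
        rw [← map_mul, hs', hd', h]
    rw [ValFibre.ringKrullDim_eq_trdeg k l, ← ValFibre.trdeg_eq_of_algebraic (R ⧸ qR) (S ⧸ Q.asIdeal) k l
      i1 Ideal.algebraMap_quotient_injective (algebraMap k l).injective i2]
    rfl
  obtain ⟨hle, heq⟩ := ValFibre.ringKrullDim_quotient_le V E hVE Q' hQm
  rw [hQ, ringKrullDim_eq_of_ringEquiv eL.toRingEquiv, hL] at hle heq
  -- the base is a field when the contractions agree
  have hfield : Q.asIdeal.under R = P.asIdeal.under R → qb = ⊥ := fun h => eq_bot_iff.mpr fun a ha => by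
    obtain ⟨a, rfl⟩ := Ideal.Quotient.mk_surjective a
    rw [hqb, h] at ha
    exact (Submodule.mem_bot A).mpr (Ideal.Quotient.eq_zero_iff_mem.mpr ha)
  have hdim : Q.asIdeal.under R = P.asIdeal.under R → IsField V ∧ ringKrullDim E = (nT R P : ℕ) := fun h => by
    have hF : IsField V := by
      rw [IsLocalRing.isField_iff_maximalIdeal_eq, ← IsLocalization.map_under qb.primeCompl V (IsLocalRing.maximalIdeal V),
        IsLocalization.AtPrime.under_maximalIdeal V qb, hfield h, Ideal.map_bot]
    refine ⟨hF, ?_⟩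
    letI := hF.toField
    rw [ValFibre.ringKrullDim_eq_trdeg V E, ← hP]
    rfl
  refine ⟨Nat.cast_le.mp (WithBot.coe_le_coe.mp hle), fun h hlt => ?_, fun hc h => ?_, fun hc h => ?_⟩
  · obtain ⟨hF, hE⟩ := hdim h
    have hne : Q'.asIdeal ≠ ⊥ := fun h0 => hlt.ne (hψ0 ▸ hψQ ▸ congrArg ψ (PrimeSpectrum.ext h0 : Q' = z0).symm)
    obtain ⟨x, hx, hx0⟩ := (Submodule.ne_bot_iff _).mp hne
    have h3 := ringKrullDim_quotient_succ_le_of_nonZeroDivisor (mem_nonZeroDivisors_of_ne_zero hx0)
    have h4 : ringKrullDim (E ⧸ Q'.asIdeal) + 1 ≤ ringKrullDim E :=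
      le_trans (add_le_add (ringKrullDim_le_of_surjective (Ideal.Quotient.factor ((Ideal.span_singleton_le_iff_mem _).mpr hx))
        (Ideal.Quotient.factor_surjective _)) le_rfl) h3
    rw [hQ, hE, ← Nat.cast_one, ← Nat.cast_add, Nat.cast_le] at h4
    omega
  · obtain ⟨hF, hE⟩ := hdim h
    letI := hF.toField
    have hcov : (⊥ : PrimeSpectrum E) ⋖ Q' := by
      have hb : (⊥ : PrimeSpectrum E) = z0 := rfl
      refine ⟨lt_of_le_not_ge bot_le fun h0 => hc.lt.not_ge ?_, fun x h1 h2 => hc.2 (c := ψ x) ?_ ?_⟩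
      · rw [← hψQ, ← hψ0, ← hb]; exact (hψle _ _).mpr h0
      · rw [← hψ0, ← hb]; exact lt_of_le_not_ge ((hψle _ _).mpr h1.le) fun h0 => h1.not_ge ((hψle _ _).mp h0)
      · rw [← hψQ]; exact lt_of_le_not_ge ((hψle _ _).mpr h2.le) fun h0 => h2.not_ge ((hψle _ _).mp h0)
    have h4 := Groth.Variety2.Dim.ringKrullDim_quotient_add_one_of_covBy_bot V E Q' hcov
    rw [hQ, hE, ← Nat.cast_one, ← Nat.cast_add] at h4
    exact Nat.cast_inj.mp h4
  · refine ⟨Nat.cast_inj.mp (heq fun x hx hxm => ?_), fun r hr hpr hrq => ?_⟩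
    · have hxR : (ψ x).asIdeal.under R = Q.asIdeal.under R := by
        ext a
        rw [← hqb, ← IsLocalization.AtPrime.to_map_mem_maximal_iff V qb]
        show algebraMap D E (algebraMap A D (Ideal.Quotient.mk _ a)) ∈ x.asIdeal ↔ _
        rw [← IsScalarTower.algebraMap_apply A D E, IsScalarTower.algebraMap_apply A V E]
        exact SetLike.ext_iff.mp (congrArg PrimeSpectrum.asIdeal hxm) _
      have h1 : P ≤ ψ x := hψ0 ▸ (hψle z0 x).mpr bot_le
      have h2 : ψ x ≤ Q := hψQ ▸ (hψle x Q').mpr hx
      rcases hc.eq_or_eq h1 h2 with h3 | h3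
      · exact absurd (hxR.symm.trans (by rw [h3])) h
      · exact le_antisymm hx ((hψle Q' x).mp (by rw [hψQ, h3]))
    · by_contra hrne
      haveI : Module.Flat V E := by
        haveI : Finite (MaximalSpectrum V) := Finite.of_injective (fun _ => ()) fun a b _ => MaximalSpectrum.ext
          ((IsLocalRing.eq_maximalIdeal a.isMaximal).trans (IsLocalRing.eq_maximalIdeal b.isMaximal).symm)
        rw [Module.Flat.flat_iff_torsion_eq_bot_of_isBezout, eq_bot_iff]
        rintro x ⟨⟨a, ha⟩, hax⟩
        change a • x = 0 at hax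
        rw [Algebra.smul_def, mul_eq_zero] at hax
        exact hax.resolve_left fun h0 => nonZeroDivisors.ne_zero ha (hVE (h0.trans (map_zero _).symm))
      let rb : Ideal A := r.map (Ideal.Quotient.mk _)
      haveI : rb.IsPrime := Ideal.map_isPrime_of_surjective Ideal.Quotient.mk_surjective (by rw [Ideal.mk_ker]; exact hpr.le)
      have hrb : rb.comap (Ideal.Quotient.mk _) = r := by
        rw [Ideal.comap_map_of_surjective' _ Ideal.Quotient.mk_surjective, Ideal.mk_ker, sup_eq_left]
        exact hpr.le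
      have hrd : Disjoint (qb.primeCompl : Set A) (rb : Set A) := Set.disjoint_left.mpr fun a ha ha' => by
        obtain ⟨a, rfl⟩ := Ideal.Quotient.mk_surjective a
        exact ha ((hqb a).mpr (hrq (hrb.le ha')))
      haveI := IsLocalization.isPrime_of_isPrime_disjoint qb.primeCompl V rb inferInstance hrd
      haveI : Q'.asIdeal.LiesOver (IsLocalRing.maximalIdeal V) := ⟨(congrArg PrimeSpectrum.asIdeal hQm).symm⟩
      obtain ⟨x, hxQ, hx, hxr⟩ := Ideal.exists_ideal_le_liesOver_of_le (p := rb.map (algebraMap A V))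
        (q := IsLocalRing.maximalIdeal V) Q'.asIdeal (IsLocalRing.le_maximalIdeal (Ideal.IsPrime.ne_top inferInstance))
      let w : PrimeSpectrum E := ⟨x, hx⟩
      have hwR : ∀ a : R, a ∈ (ψ w).asIdeal.under R ↔ a ∈ r := fun a => by
        show algebraMap D E (algebraMap A D (Ideal.Quotient.mk _ a)) ∈ x ↔ _
        rw [← IsScalarTower.algebraMap_apply A D E, IsScalarTower.algebraMap_apply A V E]
        show algebraMap A V (Ideal.Quotient.mk _ a) ∈ x.under V ↔ _
        rw [← hxr.over]
        show Ideal.Quotient.mk _ a ∈ (rb.map (algebraMap A V)).under A ↔ _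
        rw [IsLocalization.under_map_of_isPrime_disjoint qb.primeCompl V inferInstance hrd]
        exact SetLike.ext_iff.mp hrb a
      rcases hc.eq_or_eq (hψ0 ▸ (hψle z0 w).mpr bot_le) (hψQ ▸ (hψle w Q').mpr hxQ) with h3 | h3
      · refine hpr.ne (Ideal.ext fun a => ?_)
        rw [← hwR, h3]
      · refine hrne (Ideal.ext fun a => ?_)
        rw [← hwR, h3]

end Groth.Misc8.PruferDim

namespace Groth.Misc8.PruferDim

variable {R : Type u} [CommRing R] [IsDomain R] {S : Type u} [CommRing S] [Algebra R S] [Algebra.FiniteType R S]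

/-- The dimension function `trdeg - height`. -/
noncomputable def dd (R : Type u) [CommRing R] {S : Type u} [CommRing S] [Algebra R S] (M : PrimeSpectrum S) : ℤ :=
  (nT R M : ℤ) - ((M.asIdeal.under R).height.toNat : ℤ)

theorem comparable (hR : ∀ (p : Ideal R) [p.IsPrime], ValuationRing (Localization.AtPrime p))
    {q r r' : Ideal R} (hq : q.IsPrime) (hr : r.IsPrime) (hr' : r'.IsPrime) (h : r ≤ q) (h' : r' ≤ q) :
    r ≤ r' ∨ r' ≤ r := by
  haveI := hq
  haveI := hR q
  let V := Localization.AtPrime q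
  have hd : ∀ r : Ideal R, r ≤ q → Disjoint (q.primeCompl : Set R) (r : Set R) := fun r hle =>
    Set.disjoint_left.mpr fun a ha har => ha (hle har)
  haveI : IsDomain V := IsLocalization.isDomain_localization (Ideal.primeCompl_le_nonZeroDivisors q)
  rcases (inferInstance : Std.Total (α := Ideal V) (· ≤ ·)).total (r.map (algebraMap R V)) (r'.map (algebraMap R V)) with h1 | h1
  · refine Or.inl ?_
    rw [← IsLocalization.under_map_of_isPrime_disjoint q.primeCompl V hr (hd r h),
      ← IsLocalization.under_map_of_isPrime_disjoint q.primeCompl V hr' (hd r' h')]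
    exact Ideal.comap_mono h1
  · refine Or.inr ?_
    rw [← IsLocalization.under_map_of_isPrime_disjoint q.primeCompl V hr (hd r h),
      ← IsLocalization.under_map_of_isPrime_disjoint q.primeCompl V hr' (hd r' h')]
    exact Ideal.comap_mono h1

theorem exists_height_eq (hdim : ringKrullDim R < ⊤) (p : PrimeSpectrum R) : ∃ n : ℕ, p.asIdeal.height = n := by
  refine ENat.ne_top_iff_exists.mp (fun h => ?_) |>.imp fun n hn => hn.symm
  have := Ideal.height_le_ringKrullDim_of_ne_top (I := p.asIdeal) (Ideal.IsPrime.ne_top inferInstance)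
  rw [h] at this
  exact hdim.ne (top_le_iff.mp this)

theorem dd_lt (hR : ∀ (p : Ideal R) [p.IsPrime], ValuationRing (Localization.AtPrime p))
    (hdim : ringKrullDim R < ⊤) {P Q : PrimeSpectrum S} (h : P < Q) : dd R Q < dd R P := by
  obtain ⟨c1, c2, -, -⟩ := chart hR P Q h.le
  obtain ⟨a, ha⟩ := exists_height_eq hdim (PrimeSpectrum.comap (algebraMap R S) P)
  obtain ⟨b, hb⟩ := exists_height_eq hdim (PrimeSpectrum.comap (algebraMap R S) Q)
  change (P.asIdeal.under R).height = a at ha
  change (Q.asIdeal.under R).height = b at hb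
  by_cases he : Q.asIdeal.under R = P.asIdeal.under R
  · have := c2 he h
    unfold dd
    rw [he]
    omega
  · have hlt : PrimeSpectrum.comap (algebraMap R S) P < PrimeSpectrum.comap (algebraMap R S) Q :=
      lt_of_le_of_ne (Ideal.comap_mono h.le) fun e => he (congrArg PrimeSpectrum.asIdeal e).symm
    have h2 : (P.asIdeal.under R).height < (Q.asIdeal.under R).height := by
      change (PrimeSpectrum.comap (algebraMap R S) P).asIdeal.height < (PrimeSpectrum.comap (algebraMap R S) Q).asIdeal.height
      rw [PrimeSpectrum.height_eq_orderHeight, PrimeSpectrum.height_eq_orderHeight]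
      refine Order.height_strictMono hlt ?_
      rw [← PrimeSpectrum.height_eq_orderHeight]
      show (P.asIdeal.under R).height < ⊤
      rw [ha]; exact ENat.coe_lt_top a
    rw [ha, hb, Nat.cast_lt] at h2
    unfold dd
    rw [ha, hb, ENat.toNat_coe, ENat.toNat_coe]
    omega

theorem dd_of_covBy (hR : ∀ (p : Ideal R) [p.IsPrime], ValuationRing (Localization.AtPrime p))
    (hdim : ringKrullDim R < ⊤) {P Q : PrimeSpectrum S} (h : P ⋖ Q) : dd R P = dd R Q + 1 := by
  obtain ⟨-, -, c3, c4⟩ := chart hR P Q h.le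
  by_cases he : Q.asIdeal.under R = P.asIdeal.under R
  · have := c3 h he
    unfold dd
    rw [he]
    omega
  · obtain ⟨hn, hr⟩ := c4 h he
    let p := PrimeSpectrum.comap (algebraMap R S) P
    let q := PrimeSpectrum.comap (algebraMap R S) Q
    have hlt : p < q := lt_of_le_of_ne (Ideal.comap_mono h.le) fun e => he (congrArg PrimeSpectrum.asIdeal e).symm
    obtain ⟨a, ha⟩ := exists_height_eq hdim p
    have hq : Order.height q = Order.height p + 1 := by
      rw [Order.height_eq_iSup_lt_height]
      refine le_antisymm (iSup₂_le fun r hrq => add_le_add (Order.height_mono ?_) le_rfl)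
        (le_iSup₂ (f := fun r (_ : r < q) => Order.height r + 1) p hlt)
      rcases comparable hR q.2 r.2 p.2 hrq.le hlt.le with h1 | h1
      · exact h1
      · by_contra h2
        exact hrq.ne (PrimeSpectrum.ext (hr r.asIdeal r.2 (lt_of_le_not_ge h1 h2) hrq.le))
    rw [← PrimeSpectrum.height_eq_orderHeight, ← PrimeSpectrum.height_eq_orderHeight, ha] at hq
    change (Q.asIdeal.under R).height = _ at hq
    change (P.asIdeal.under R).height = _ at ha
    unfold dd
    rw [hn, ha, hq, ENat.toNat_coe, show ((a : ℕ∞) + 1) = ((a + 1 : ℕ) : ℕ∞) by simp, ENat.toNat_coe]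
    omega

theorem exists_bound (hdim : ringKrullDim R < ⊤) :
    ∃ c : ℕ, ∀ M : PrimeSpectrum S, -(c : ℤ) ≤ dd R M ∧ dd R M ≤ c := by
  obtain ⟨n, f, hf⟩ := Algebra.FiniteType.iff_quotient_mvPolynomial''.mp ‹Algebra.FiniteType R S›
  obtain ⟨d, hd⟩ : ∃ d : ℕ, ringKrullDim R ≤ d := by
    cases h : ringKrullDim R with
    | bot => exact ⟨0, bot_le⟩
    | coe x =>
      cases x with
      | top => rw [h] at hdim; exact absurd hdim (lt_irrefl _)
      | coe k => exact ⟨k, le_rfl⟩
  refine ⟨n + d, fun M => ?_⟩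
  have h1 : nT R M ≤ n := by
    let A := R ⧸ M.asIdeal.under R
    let g : MvPolynomial (Fin n) A →ₐ[A] S ⧸ M.asIdeal :=
      MvPolynomial.aeval fun i => Ideal.Quotient.mk M.asIdeal (f (MvPolynomial.X i))
    have hg : Function.Surjective g := fun x => by
      obtain ⟨x, rfl⟩ := Ideal.Quotient.mk_surjective x
      obtain ⟨x, rfl⟩ := hf x
      refine ⟨MvPolynomial.map (algebraMap R A) x, ?_⟩
      simp only [g, MvPolynomial.aeval_map_algebraMap]
      exact (AlgHom.congr_fun (MvPolynomial.comp_aeval (R := R) MvPolynomial.X ((Ideal.Quotient.mkₐ R M.asIdeal).comp f)) x).symm.trans (by rw [MvPolynomial.aeval_X_left]; rfl)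
    have := trdeg_le_of_surjective g hg
    rw [MvPolynomial.trdeg_of_isDomain, Cardinal.mk_fin, Cardinal.lift_natCast] at this
    have := Cardinal.toNat_le_toNat this Cardinal.natCast_lt_aleph0
    rwa [Cardinal.toNat_natCast] at this
  have h2 : (M.asIdeal.under R).height.toNat ≤ d := by
    have := (Ideal.height_le_ringKrullDim_of_ne_top (I := M.asIdeal.under R) (Ideal.IsPrime.ne_top inferInstance)).trans hd
    exact ENat.toNat_le_of_le_coe (WithBot.coe_le_coe.mp this)
  unfold dd
  omega

theorem series_length_le (hR : ∀ (p : Ideal R) [p.IsPrime], ValuationRing (Localization.AtPrime p))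
    (hdim : ringKrullDim R < ⊤) (s : LTSeries (PrimeSpectrum S)) :
    (s.length : ℤ) ≤ dd R s.head - dd R s.last := by
  have key : ∀ i : ℕ, (hi : i < s.length + 1) → (i : ℤ) ≤ dd R s.head - dd R (s ⟨i, hi⟩) := by
    intro i
    induction i with
    | zero => intro _; rw [Nat.cast_zero, sub_nonneg]; rfl
    | succ i ih =>
      intro hi
      have h1 := ih (by omega)
      have h2 := dd_lt hR hdim (s.strictMono (show (⟨i, by omega⟩ : Fin (s.length + 1)) < ⟨i + 1, hi⟩ from Nat.lt_succ_self i))
      push_cast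
      omega
  exact key s.length (by omega)

theorem series_length_eq (hR : ∀ (p : Ideal R) [p.IsPrime], ValuationRing (Localization.AtPrime p))
    (hdim : ringKrullDim R < ⊤) (s : LTSeries (PrimeSpectrum S))
    (hs : ∀ i : Fin s.length, s (Fin.castSucc i) ⋖ s (Fin.succ i)) :
    (s.length : ℤ) = dd R s.head - dd R s.last := by
  have key : ∀ i : ℕ, (hi : i < s.length + 1) → (i : ℤ) = dd R s.head - dd R (s ⟨i, hi⟩) := by
    intro i
    induction i with
    | zero => intro _; rw [Nat.cast_zero]; exact (sub_self _).symm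
    | succ i ih =>
      intro hi
      have h1 := ih (by omega)
      have h2 : dd R (s ⟨i, by omega⟩) = dd R (s ⟨i + 1, hi⟩) + 1 := dd_of_covBy hR hdim (hs ⟨i, by omega⟩)
      push_cast
      omega
  exact key s.length (by omega)

end Groth.Misc8.PruferDim
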