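import Mathlib.RingTheory.Valuation.ValuationSubring
import Mathlib.RingTheory.Valuation.ValuationRing
import Mathlib.RingTheory.Spectrum.Maximal.Basic
import Mathlib.RingTheory.Localization.AtPrime.Basic
import Mathlib.RingTheory.KrullDimension.Basic
import Mathlib.RingTheory.AlgebraicIndependent.TranscendenceBasis
import Mathlib.RingTheory.AlgebraicIndependent.Transcendental
import Mathlib.Data.ZMod.Basic
import Mathlib.RingTheory.Polynomial.UniqueFactorization
import Mathlib.Tactic

/-! Finite intersections of valuation rings; dimension of subrings of finitely generated fields. -/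

set_option autoImplicit false

namespace Groth.Misc8.PruferInter

universe u v w

open Polynomial

theorem geom_sum_ne_zero {F : Type*} [Field F] (a : F) {q : ℕ} (hq : q.Prime) (h1 : q ≠ ringChar F)
    (h2 : q ≠ orderOf a) : (∑ j ∈ Finset.range q, a ^ j) ≠ 0 := by
  intro h0
  have ha : a ^ q = 1 := by
    have := geom_sum_mul a q
    rw [h0, zero_mul] at this
    exact sub_eq_zero.mp this.symm
  rcases eq_or_ne a 1 with e | e
  · rw [e] at h0
    simp only [one_pow, Finset.sum_const, Finset.card_range, nsmul_eq_mul, mul_one] at h0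
    rw [ringChar.spec, Nat.dvd_prime hq] at h0
    rcases h0 with h0 | h0
    · exact CharP.ringChar_ne_one h0
    · exact h1 h0.symm
  · have := Fact.mk hq
    exact h2 (orderOf_eq_prime ha e).symm

section Inter

variable {A : Type u} {K : Type v} [CommRing A] [Field K] {ι : Type w} [Finite ι]
  (φ : A →+* K) (hinj : Function.Injective φ) (W : ι → ValuationSubring K)
  (hφ : ∀ x : K, x ∈ Set.range φ ↔ ∀ i, x ∈ W i)

include hφ in
/-- A partition of unity `∑ j < q, b j = 1` of `A` with `b j = b 0 * x ^ j`. -/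
theorem exists_partition (x : K) :
    ∃ (q : ℕ) (b : ℕ → A), 1 < q ∧ φ (∑ j ∈ Finset.range q, b j) = 1 ∧ φ (b 0) ≠ 0 ∧
      ∀ j, j < q → φ (b j) = φ (b 0) * x ^ j := by
  classical
  have := Fintype.ofFinite ι
  let y : ∀ i, W i := fun i => if h : x ∈ W i then ⟨x, h⟩ else ⟨x⁻¹, ((W i).mem_or_inv_mem x).resolve_left h⟩
  let bad : Finset ℕ := Finset.univ.biUnion (fun i =>
    {ringChar (IsLocalRing.ResidueField (W i)), orderOf (IsLocalRing.residue (W i) (y i))}) ∪
    {ringChar K, orderOf x}
  obtain ⟨q, hq1, hq⟩ := Nat.exists_infinite_primes (bad.sup id + 3)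
  have hnb : q ∉ bad := fun h => by
    have := Finset.le_sup (f := id) h
    simp only [id] at this; omega
  simp only [bad, Finset.mem_union, Finset.mem_biUnion, Finset.mem_univ, true_and, Finset.mem_insert,
    Finset.mem_singleton, not_or, not_exists] at hnb
  obtain ⟨hnW, hnK⟩ := hnb
  set S : K := ∑ j ∈ Finset.range q, x ^ j with hSdef
  have hS : S ≠ 0 := geom_sum_ne_zero x hq hnK.1 hnK.2
  have hmem : ∀ j < q, ∀ i, S⁻¹ * x ^ j ∈ W i := by
    intro j hj i
    have hu : IsUnit (∑ k ∈ Finset.range q, (y i) ^ k) := by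
      rw [← IsLocalRing.residue_ne_zero_iff_isUnit, map_sum]
      simpa only [map_pow] using geom_sum_ne_zero _ hq (hnW i).1 (hnW i).2
    obtain ⟨v, hv⟩ := hu
    have hv1 : ((v : W i) : K) = ∑ k ∈ Finset.range q, ((y i : W i) : K) ^ k := by
      rw [hv]; push_cast; rfl
    have hv2 : ((v : W i) : K)⁻¹ ∈ W i := by
      have h := map_units_inv (W i).subtype v
      exact h ▸ ((v⁻¹ : (W i)ˣ) : W i).2
    by_cases hx : x ∈ W i
    · have e : ((y i : W i) : K) = x := by simp [y, dif_pos hx]
      rw [hSdef, ← e, ← hv1, e]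
      exact mul_mem hv2 (pow_mem hx j)
    · have e : ((y i : W i) : K) = x⁻¹ := by simp [y, dif_neg hx]
      have hx0 : x ≠ 0 := fun h => hx (h ▸ zero_mem _)
      have hrefl : S = x ^ (q - 1) * ((v : W i) : K) := by
        rw [hv1, e, hSdef, Finset.mul_sum, ← Finset.sum_range_reflect (fun k => x ^ k) q]
        refine Finset.sum_congr rfl fun k hk => ?_
        rw [inv_pow, pow_sub₀ x hx0 (by rw [Finset.mem_range] at hk; omega)]
      have e2 : S⁻¹ * x ^ j = ((v : W i) : K)⁻¹ * x⁻¹ ^ (q - 1 - j) := by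
        rw [hrefl, mul_inv, pow_sub₀ x⁻¹ (inv_ne_zero hx0) (by omega : j ≤ q - 1), inv_pow, inv_pow, inv_inv]
        ring
      rw [e2]
      exact mul_mem hv2 (pow_mem (((W i).mem_or_inv_mem x).resolve_left hx) _)
  have hA : ∀ j, ∃ a : A, j < q → φ a = S⁻¹ * x ^ j := fun j => by
    by_cases hj : j < q
    · obtain ⟨a, ha⟩ := (hφ _).mpr (hmem j hj)
      exact ⟨a, fun _ => ha⟩
    · exact ⟨0, fun h => absurd h hj⟩
  choose b hb using hA
  have hq0 : 0 < q := hq.pos
  refine ⟨q, b, hq.one_lt, ?_, ?_, fun j hj => ?_⟩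
  · rw [map_sum, Finset.sum_congr rfl fun j hj => hb j (Finset.mem_range.mp hj), ← Finset.mul_sum,
      inv_mul_cancel₀ hS]
  · rw [hb 0 hq0, pow_zero, mul_one]; exact inv_ne_zero hS
  · rw [hb j hj, hb 0 hq0, pow_zero, mul_one]

include hφ in
theorem exists_fraction (x : K) : ∃ a b : A, φ b ≠ 0 ∧ x = φ a / φ b := by
  obtain ⟨q, b, hq, -, h0, hb⟩ := exists_partition φ W hφ x
  exact ⟨b 1, b 0, h0, by rw [hb 1 hq, pow_one, mul_div_cancel_left₀ _ h0]⟩

include hφ hinj in
theorem valuationRing_atPrime [IsDomain A] (p : Ideal A) [p.IsPrime] : ValuationRing (Localization.AtPrime p) := by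
  classical
  rw [ValuationRing.iff_dvd_total]
  refine ⟨fun r r' => ?_⟩
  obtain ⟨c, s, rfl⟩ := IsLocalization.exists_mk'_eq p.primeCompl r
  obtain ⟨c', s', rfl⟩ := IsLocalization.exists_mk'_eq p.primeCompl r'
  have key : algebraMap A (Localization.AtPrime p) c ∣ algebraMap A _ c' ∨
      algebraMap A (Localization.AtPrime p) c' ∣ algebraMap A _ c := by
    rcases eq_or_ne c 0 with rfl | hc
    · exact Or.inr (by rw [map_zero]; exact dvd_zero _)
    have hc0 : φ c ≠ 0 := (map_ne_zero_iff φ hinj).mpr hc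
    obtain ⟨q, b, hq, hsum, h0, hb⟩ := exists_partition φ W hφ (φ c' / φ c)
    have hsum' : (∑ j ∈ Finset.range q, b j) = 1 := hinj (by rw [hsum, map_one])
    obtain ⟨j, hj, hjp⟩ : ∃ j < q, b j ∉ p := by
      by_contra! h
      exact Ideal.IsPrime.one_notMem ‹_› (hsum' ▸ Ideal.sum_mem p fun j hj => h j (Finset.mem_range.mp hj))
    have hu : IsUnit (algebraMap A (Localization.AtPrime p) (b j)) :=
      IsLocalization.map_units _ (⟨b j, hjp⟩ : p.primeCompl)
    have rel : ∀ k, k + 1 < q → b k * c' = b (k + 1) * c := fun k hk => hinj (by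
      rw [map_mul, map_mul, hb k (by omega), hb (k + 1) hk, pow_succ, mul_assoc, mul_assoc,
        mul_assoc, div_mul_cancel₀ _ hc0])
    by_cases hj1 : j + 1 < q
    · refine Or.inl (hu.dvd_mul_left.mp ?_)
      rw [← map_mul, rel j hj1]
      exact map_dvd _ (dvd_mul_left c _)
    · refine Or.inr (hu.dvd_mul_left.mp ?_)
      obtain ⟨k, rfl⟩ : ∃ k, j = k + 1 := ⟨j - 1, by omega⟩
      rw [← map_mul, ← rel k hj]
      exact map_dvd _ (dvd_mul_left c' _)
  have hcs : ∀ (d : A) (t : p.primeCompl), Associated (algebraMap A (Localization.AtPrime p) d)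
      (IsLocalization.mk' _ d t) := fun d t => by
    conv_lhs => rw [← IsLocalization.mk'_spec (Localization.AtPrime p) d t]
    exact associated_mul_unit_left _ _ (IsLocalization.map_units _ t)
  exact key.imp (fun h => (hcs c s).dvd_iff_dvd_left.mp ((hcs c' s').dvd_iff_dvd_right.mp h))
    (fun h => (hcs c' s').dvd_iff_dvd_left.mp ((hcs c s).dvd_iff_dvd_right.mp h))

include hφ hinj in
theorem finite_maximalSpectrum : Finite (MaximalSpectrum A) := by
  classical
  have := Fintype.ofFinite ι
  let W' : Option ι → ValuationSubring K := fun o => o.elim ⊤ W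
  have hφ' : ∀ x, x ∈ Set.range φ ↔ ∀ o, x ∈ W' o := fun x => (hφ x).trans
    ⟨fun h o => by cases o with | none => trivial | some i => exact h i, fun h i => h (some i)⟩
  let ψ : ∀ o, A →+* W' o := fun o => φ.codRestrict (W' o) fun a => (hφ' (φ a)).mp ⟨a, rfl⟩ o
  let P : Option ι → Ideal A := fun o => (IsLocalRing.maximalIdeal (W' o)).comap (ψ o)
  have hP : ∀ o, (P o).IsPrime := fun o => inferInstance
  have hcover : ∀ m : MaximalSpectrum A, ∃ o, m.asIdeal = P o := by
    intro m
    have hsub : (m.asIdeal : Set A) ⊆ ⋃ o ∈ ((Finset.univ : Finset (Option ι)) : Set (Option ι)), (P o : Set A) := by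
      intro a ha
      by_contra hn
      have hu : ∀ o, IsUnit (ψ o a) := fun o => by
        by_contra hno
        exact hn (Set.mem_biUnion (Finset.mem_coe.mpr (Finset.mem_univ o)) hno)
      refine m.isMaximal.ne_top (Ideal.eq_top_of_isUnit_mem _ ha ?_)
      have h0 : φ a ≠ 0 := ((hu none).map (W' none).subtype).ne_zero
      obtain ⟨b, hb⟩ := (hφ' (φ a)⁻¹).mpr fun o => by
        obtain ⟨v, hv⟩ := hu o
        have h := map_units_inv (W' o).subtype v
        rw [hv] at h
        exact (show ((W' o).subtype (ψ o a))⁻¹ ∈ W' o from h ▸ ((v⁻¹ : (W' o)ˣ) : W' o).2)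
      exact IsUnit.of_mul_eq_one b (hinj (by rw [map_mul, map_one, hb, mul_inv_cancel₀ h0]))
    rw [Ideal.subset_union_prime none none (fun o _ _ _ => hP o)] at hsub
    obtain ⟨o, -, hle⟩ := hsub
    exact ⟨o, m.isMaximal.eq_of_le (hP o).ne_top hle⟩
  choose o ho using hcover
  exact Finite.of_injective o fun m m' h => MaximalSpectrum.ext ((ho m).trans ((congrArg P h).trans (ho m').symm))

end Inter

section Dim

open AlgebraicIndependent in
theorem indep_of_chain (k : Type w) [CommRing k] : ∀ (n : ℕ) (V : Type u) [CommRing V] [IsDomain V] [Algebra k V]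
    (P : Fin (n + 1) → PrimeSpectrum V), StrictMono P →
    (∀ z, algebraMap k V z ∈ (P (Fin.last n)).asIdeal → z = 0) → ∃ t : Fin n → V, AlgebraicIndependent k t := by
  intro n
  induction n with
  | zero =>
    intro V _ _ _ P _ h
    refine ⟨Fin.elim0, algebraicIndependent_empty_type_iff.mpr ((injective_iff_map_eq_zero _).mpr fun z hz => h z ?_)⟩
    rw [hz]; exact zero_mem _
  | succ n ih =>
    intro V _ _ _ P hP h
    let p := (P 1).asIdeal
    have : p.IsPrime := (P 1).isPrime
    have hle : ∀ j : Fin (n + 1), p ≤ (P j.succ).asIdeal := fun j =>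
      hP.monotone (by rw [Fin.le_def]; simp)
    let P' : Fin (n + 1) → PrimeSpectrum (V ⧸ p) := fun j => ⟨(P j.succ).asIdeal.map (Ideal.Quotient.mk p),
      Ideal.map_isPrime_of_surjective Ideal.Quotient.mk_surjective (by rw [Ideal.mk_ker]; exact hle j)⟩
    have hback : ∀ j, Ideal.comap (Ideal.Quotient.mk p) (P' j).asIdeal = (P j.succ).asIdeal := fun j => by
      show Ideal.comap _ (Ideal.map _ _) = _
      rw [Ideal.comap_map_of_surjective' _ Ideal.Quotient.mk_surjective, Ideal.mk_ker, sup_eq_left.mpr (hle j)]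
    have hP' : StrictMono P' := fun i j hij => by
      refine lt_of_le_of_ne (Ideal.map_mono (hP.monotone (Fin.succ_le_succ_iff.mpr hij.le))) fun e => ?_
      exact (hP (Fin.succ_lt_succ_iff.mpr hij)).ne (PrimeSpectrum.ext (by rw [← hback i, ← hback j, e]))
    obtain ⟨t', ht'⟩ := ih (V ⧸ p) P' hP' fun z hz => h z (by
      rw [← Fin.succ_last, ← hback, Ideal.mem_comap]
      exact hz)
    choose s hs using fun j => Ideal.Quotient.mk_surjective (t' j)
    have hfun : (⇑(Ideal.Quotient.mkₐ k p) ∘ s : Fin n → V ⧸ p) = t' := funext hs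
    have hs' : AlgebraicIndependent k s := AlgebraicIndependent.of_comp (Ideal.Quotient.mkₐ k p) (hfun ▸ ht')
    obtain ⟨x, hx, hx0⟩ := SetLike.exists_of_lt (show (P 0).asIdeal < p from hP Fin.zero_lt_one)
    have hx0' : x ≠ 0 := fun e => hx0 (e ▸ zero_mem _)
    have htr : Transcendental (Algebra.adjoin k (Set.range s)) x := by
      rw [transcendental_iff]
      intro f
      induction hd : f.natDegree using Nat.strong_induction_on generalizing f with
      | _ d IH =>
        intro hf
        have hc : f.coeff 0 = 0 := by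
          have hsplit := congrArg (Polynomial.aeval x) (f.X_mul_divX_add)
          rw [map_add, map_mul, Polynomial.aeval_X, Polynomial.aeval_C, hf] at hsplit
          have hmem : ((f.coeff 0 : Algebra.adjoin k (Set.range s)) : V) ∈ p := by
            rw [show ((f.coeff 0 : Algebra.adjoin k (Set.range s)) : V) = -(x * Polynomial.aeval x f.divX) from
              eq_neg_of_add_eq_zero_right hsplit]
            exact neg_mem (p.mul_mem_right _ hx)
          obtain ⟨g, hg⟩ : ((f.coeff 0 : Algebra.adjoin k (Set.range s)) : V) ∈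
              (MvPolynomial.aeval s : MvPolynomial (Fin n) k →ₐ[k] V).range := by
            rw [← Algebra.adjoin_range_eq_range_aeval]; exact (f.coeff 0).2
          have hg0 : MvPolynomial.aeval t' g = 0 := by
            have e : MvPolynomial.aeval t' g = Ideal.Quotient.mkₐ k p (MvPolynomial.aeval s g) := by
              rw [← AlgHom.comp_apply, MvPolynomial.comp_aeval]
              congr 1
              exact congrArg _ (funext fun j => (hs j).symm)
            rw [e]
            exact Ideal.Quotient.eq_zero_iff_mem.mpr (by rw [show MvPolynomial.aeval s g = _ from hg]; exact hmem)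
          apply Subtype.ext
          rw [← hg, ht'.eq_zero_of_aeval_eq_zero g hg0, map_zero]
          rfl
        have hf' : f = Polynomial.X * f.divX := by
          conv_lhs => rw [← f.X_mul_divX_add, hc, map_zero, add_zero]
        by_contra hne
        have hdiv : f.divX ≠ 0 := fun e => hne (by rw [hf', e, mul_zero])
        refine hdiv (IH _ ?_ f.divX rfl ?_)
        · rw [← hd]
          conv_rhs => rw [hf', Polynomial.natDegree_X_mul hdiv]
          omega
        · rw [hf', map_mul, Polynomial.aeval_X] at hf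
          exact (mul_eq_zero.mp hf).resolve_left hx0'
    exact ⟨_, ((hs'.option_iff_transcendental x).mpr htr).comp _ (finSuccEquiv n).injective⟩

theorem card_le_of_algebraicIndependent {K : Type u} [Field K] (R : Type) [CommRing R] [Nontrivial R] [Algebra R K]
    (s : Finset K) (hs : Subfield.closure (↑s : Set K) = ⊤) {m : ℕ} {t : Fin m → K}
    (ht : AlgebraicIndependent R t) : m ≤ s.card := by
  have hsub : ∀ y ∈ Subring.closure (↑s : Set K), y ∈ Algebra.adjoin R (↑s : Set K) := fun y hy =>
    (Subring.closure_le (t := (Algebra.adjoin R (↑s : Set K)).toSubring)).mpr Algebra.subset_adjoin hy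
  have : Algebra.IsAlgebraic (Algebra.adjoin R (↑s : Set K)) K := ⟨fun x => by
    obtain ⟨y, hy, z, hz, rfl⟩ := Subfield.mem_closure_iff.mp (hs.symm ▸ Subfield.mem_top x)
    rw [div_eq_mul_inv]
    exact (isAlgebraic_algebraMap (⟨y, hsub y hy⟩ : Algebra.adjoin R (↑s : Set K))).mul
      (isAlgebraic_algebraMap (⟨z, hsub z hz⟩ : Algebra.adjoin R (↑s : Set K))).inv⟩
  have h1 := ht.lift_cardinalMk_le_trdeg
  have h2 : Algebra.trdeg R K ≤ Cardinal.mk (↑s : Set K) := Algebra.IsAlgebraic.trdeg_le_cardinalMk R _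
  have h3 := h1.trans (Cardinal.lift_le.mpr h2)
  simpa using h3

theorem chain_length_le {K : Type u} [Field K] (s : Finset K) (hs : Subfield.closure (↑s : Set K) = ⊤)
    {V : Type v} [CommRing V] [IsDomain V] (φ : V →+* K) (hφ : Function.Injective φ)
    (P : LTSeries (PrimeSpectrum V)) : P.length ≤ 2 * s.card + 1 := by
  classical
  by_contra hlt
  set N := s.card with hN
  let mid : Fin (P.length + 1) := ⟨N + 1, by omega⟩
  by_cases hz : ∀ z : ℤ, (z : V) ∈ (P mid).asIdeal → z = 0
  · let Q : Fin (N + 1 + 1) → PrimeSpectrum V := fun j => P ⟨j, by omega⟩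
    obtain ⟨t, ht⟩ := indep_of_chain ℤ (N + 1) V Q (fun i j hij => P.strictMono hij) fun z hmem => hz z (by
      simpa [Q, mid, Fin.val_last] using hmem)
    have := card_le_of_algebraicIndependent ℤ s hs (ht.map' (f := φ.toIntAlgHom) hφ)
    omega
  let p := (P mid).asIdeal
  have : p.IsPrime := (P mid).isPrime
  let q := ringChar (V ⧸ p)
  have hq0 : q ≠ 0 := by
    intro h0
    have : CharZero (V ⧸ p) := (CharP.ringChar_zero_iff_CharZero _).mp h0
    refine hz fun z hmem => ?_
    have : ((z : ℤ) : V ⧸ p) = 0 := by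
      rw [← map_intCast (Ideal.Quotient.mk p)]; exact Ideal.Quotient.eq_zero_iff_mem.mpr hmem
    exact_mod_cast this
  have hqp : q.Prime := (CharP.char_is_prime_or_zero (V ⧸ p) q).resolve_right hq0
  have := Fact.mk hqp
  let := ZMod.algebra (V ⧸ p) q
  let m := P.length - (N + 1)
  have hle : ∀ j : Fin (m + 1), p ≤ (P ⟨N + 1 + j, by omega⟩).asIdeal := fun j =>
    P.monotone (by rw [Fin.le_def]; simp [mid])
  let Q : Fin (m + 1) → PrimeSpectrum (V ⧸ p) := fun j =>
    ⟨(P ⟨N + 1 + j, by omega⟩).asIdeal.map (Ideal.Quotient.mk p),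
      Ideal.map_isPrime_of_surjective Ideal.Quotient.mk_surjective (by rw [Ideal.mk_ker]; exact hle j)⟩
  have hback : ∀ j, Ideal.comap (Ideal.Quotient.mk p) (Q j).asIdeal = (P ⟨N + 1 + j, by omega⟩).asIdeal := fun j => by
    show Ideal.comap _ (Ideal.map _ _) = _
    rw [Ideal.comap_map_of_surjective' _ Ideal.Quotient.mk_surjective, Ideal.mk_ker, sup_eq_left.mpr (hle j)]
  have hQ : StrictMono Q := fun i j hij => by
    refine lt_of_le_of_ne (Ideal.map_mono (P.monotone ?_)) fun e => ?_
    · rw [Fin.le_def]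
      have : (i : ℕ) ≤ j := hij.le
      simpa using this
    · exact (P.strictMono (show (⟨N + 1 + i, by omega⟩ : Fin (P.length + 1)) < ⟨N + 1 + j, by omega⟩ by
        rw [Fin.lt_def]; simpa using hij)).ne (PrimeSpectrum.ext (by rw [← hback i, ← hback j, e]))
  obtain ⟨t', ht'⟩ := indep_of_chain (ZMod q) m (V ⧸ p) Q hQ fun z hmem => by
    by_contra hne
    exact (Q _).isPrime.ne_top (Ideal.eq_top_of_isUnit_mem _ hmem ((Ne.isUnit hne).map _))
  choose t ht using fun j => Ideal.Quotient.mk_surjective (t' j)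
  have hm : N < m := by omega
  rcases eq_or_ne (ringChar K) q with e | hne
  · have hVq : CharP V q := (RingHom.charP_iff φ hφ q).mpr (e ▸ ringChar.charP K)
    have hKq : CharP K q := e ▸ ringChar.charP K
    let := ZMod.algebra V q
    let := ZMod.algebra K q
    let π : V →ₐ[ZMod q] V ⧸ p :=
      { Ideal.Quotient.mk p with commutes' := fun z => RingHom.congr_fun (Subsingleton.elim
          ((Ideal.Quotient.mk p).comp (algebraMap (ZMod q) V)) (algebraMap (ZMod q) (V ⧸ p))) z }
    let φ' : V →ₐ[ZMod q] K :=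
      { φ with commutes' := fun z => RingHom.congr_fun (Subsingleton.elim
          (φ.comp (algebraMap (ZMod q) V)) (algebraMap (ZMod q) K)) z }
    have hti : AlgebraicIndependent (ZMod q) t := AlgebraicIndependent.of_comp π (by
      convert ht' using 1; exact funext ht)
    have := card_le_of_algebraicIndependent (ZMod q) s hs (hti.map' (f := φ') hφ)
    omega
  · have hK : ((q : ℕ) : K) ≠ 0 := by
      intro h0
      rw [ringChar.spec, Nat.dvd_prime hqp] at h0
      exact h0.elim CharP.ringChar_ne_one hne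
    have hVq : ((q : ℕ) : V) ≠ 0 := fun h => hK (by rw [← map_natCast φ, h, map_zero])
    have hti : AlgebraicIndependent ℤ t := by
      rw [algebraicIndependent_iff]
      intro f hf
      by_contra hf0
      have hnu : ¬ IsUnit (MvPolynomial.C (q : ℤ) : MvPolynomial (Fin m) ℤ) := by
        intro hC
        have hu : IsUnit (q : ℤ) := by simpa using hC.map MvPolynomial.constantCoeff
        exact (Nat.prime_iff_prime_int.mp hqp).not_isUnit hu
      obtain ⟨e, g, hg, rfl⟩ := WfDvdMonoid.max_power_factor' hf0 hnu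
      rw [map_mul, map_pow, MvPolynomial.aeval_C] at hf
      have hg0 : MvPolynomial.aeval t g = 0 := (mul_eq_zero.mp hf).resolve_left (pow_ne_zero _ (by simpa using hVq))
      apply hg
      rw [MvPolynomial.C_dvd_iff_map_hom_eq_zero (Int.castRingHom (ZMod q)) (q : ℤ)
        (fun r => by rw [eq_intCast, ZMod.intCast_zmod_eq_zero_iff_dvd])]
      apply ht'.eq_zero_of_aeval_eq_zero
      rw [show MvPolynomial.aeval t' (MvPolynomial.map (Int.castRingHom (ZMod q)) g) =
        Ideal.Quotient.mk p (MvPolynomial.aeval t g) from ?_, hg0, map_zero]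
      rw [MvPolynomial.aeval_def, MvPolynomial.eval₂_map, MvPolynomial.aeval_def, MvPolynomial.eval₂_comp_left]
      congr 1
      · exact Subsingleton.elim _ _
      · exact (funext ht).symm
    have := card_le_of_algebraicIndependent ℤ s hs (hti.map' (f := φ.toIntAlgHom) hφ)
    omega

theorem ringKrullDim_lt_top {K : Type u} [Field K] (s : Finset K) (hs : Subfield.closure (↑s : Set K) = ⊤)
    {V : Type v} [CommRing V] [IsDomain V] (φ : V →+* K) (hφ : Function.Injective φ) :
    ringKrullDim V < ⊤ := by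
  refine lt_of_le_of_lt (b := ((2 * s.card + 1 : ℕ) : WithBot ℕ∞)) (iSup_le fun P => ?_) ?_
  · exact_mod_cast chain_length_le s hs φ hφ P
  · exact WithBot.coe_lt_coe.mpr (ENat.natCast_lt_top _)

end Dim
section Max

/-- A domain whose localisations at primes are valuation rings is the intersection of valuation rings of its
fraction field indexed by the maximal ideals. -/
theorem exists_valuationSubrings {R : Type u} {L : Type v} [CommRing R] [IsDomain R] [Field L] [Algebra R L]
    [IsFractionRing R L] (hR : ∀ (p : Ideal R) [p.IsPrime], ValuationRing (Localization.AtPrime p)) :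
    ∃ V : MaximalSpectrum R → ValuationSubring L, ∀ x : L, x ∈ Set.range (algebraMap R L) ↔ ∀ m, x ∈ V m := by
  classical
  have hu : ∀ (m : MaximalSpectrum R) (y : m.asIdeal.primeCompl), IsUnit (algebraMap R L y) := fun m y =>
    isUnit_iff_ne_zero.mpr ((map_ne_zero_iff _ (IsFractionRing.injective R L)).mpr fun h => y.2 (by
      rw [h]; exact zero_mem _))
  let ψ : ∀ m : MaximalSpectrum R, Localization.AtPrime m.asIdeal →+* L := fun m => IsLocalization.lift (hu m)
  have hψ : ∀ m r, ψ m (algebraMap R _ r) = algebraMap R L r := fun m r => IsLocalization.lift_eq (hu m) r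
  have hVR : ∀ m : MaximalSpectrum R, ∀ x : L, x ∈ (ψ m).range ∨ x⁻¹ ∈ (ψ m).range := by
    intro m x
    obtain ⟨a, b, hb, rfl⟩ := IsFractionRing.div_surjective (A := R) x
    have hb0 : algebraMap R L b ≠ 0 := IsFractionRing.to_map_ne_zero_of_mem_nonZeroDivisors hb
    have := hR m.asIdeal
    rcases (ValuationRing.iff_dvd_total.mp this).total (algebraMap R (Localization.AtPrime m.asIdeal) a)
      (algebraMap R _ b) with ⟨c, hc⟩ | ⟨c, hc⟩
    · right
      rcases eq_or_ne (algebraMap R L a) 0 with h0 | h0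
      · rw [h0, zero_div, inv_zero]; exact zero_mem _
      refine ⟨c, ?_⟩
      rw [inv_div, eq_div_iff h0, ← hψ m a, ← hψ m b, hc, map_mul]; ring
    · left
      refine ⟨c, ?_⟩
      rw [eq_div_iff hb0, ← hψ m a, ← hψ m b, hc, map_mul]; ring
  refine ⟨fun m => { toSubring := (ψ m).range, mem_or_inv_mem' := hVR m }, fun x => ⟨?_, fun h => ?_⟩⟩
  · rintro ⟨r, rfl⟩ m
    exact ⟨algebraMap R _ r, hψ m r⟩
  · let I : Ideal R :=
      { carrier := {s | algebraMap R L s * x ∈ Set.range (algebraMap R L)}
        add_mem' := by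
          rintro a b ⟨c, hc⟩ ⟨d, hd⟩
          exact ⟨c + d, by rw [map_add, map_add, hc, hd, add_mul]⟩
        zero_mem' := ⟨0, by simp⟩
        smul_mem' := by
          rintro r a ⟨c, hc⟩
          exact ⟨r * c, by rw [smul_eq_mul, map_mul, map_mul, hc, mul_assoc]⟩ }
    have hI : I = ⊤ := by
      by_contra hne
      obtain ⟨M, hM, hle⟩ := Ideal.exists_le_maximal I hne
      obtain ⟨c, hc⟩ := h ⟨M, hM⟩
      obtain ⟨a, s, rfl⟩ := IsLocalization.exists_mk'_eq M.primeCompl c
      refine s.2 (hle (show (s : R) ∈ I from ⟨a, ?_⟩))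
      rw [← hc, ← hψ ⟨M, hM⟩ s, ← hψ ⟨M, hM⟩ a, ← map_mul, IsLocalization.mk'_spec']
    obtain ⟨r, hr⟩ := (hI ▸ Submodule.mem_top : (1 : R) ∈ I)
    exact ⟨r, by rw [hr, map_one, one_mul]⟩

end Max

end Groth.Misc8.PruferInter
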