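import Groth.Agent.Misc8.QuietComp
import Groth.Agent.AlgStBasic.SmoothDescent

/-! Lifting quiet morphisms along closed immersions. -/

set_option autoImplicit false

open CategoryTheory CategoryTheory.Limits AlgebraicGeometry Polynomial
open Groth.Misc8.RootTower Groth.Misc8.QuietComp

namespace Groth.Misc8.QuietLift

universe u

variable {p : ℕ}

theorem isPushout_of_ker_le {R R' Q Q' : CommRingCat.{u}} (φ : R ⟶ R') (a : R ⟶ Q) (b : R' ⟶ Q') (π : Q ⟶ Q')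
    (w : φ ≫ b = a ≫ π) (hπ : Function.Surjective π.hom) (hφ : Function.Surjective φ.hom)
    (hker : RingHom.ker π.hom ≤ (RingHom.ker φ.hom).map a.hom) : IsPushout φ a b π := by
  have hle : ∀ (s : PushoutCocone φ a), RingHom.ker π.hom ≤ RingHom.ker s.inr.hom := fun s => by
    refine hker.trans (Ideal.map_le_iff_le_comap.mpr fun x hx => ?_)
    have h1 := congr($(s.condition).hom x)
    simp only [CommRingCat.hom_comp, RingHom.comp_apply] at h1
    simp [RingHom.mem_ker.mp hx, ← h1]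
  refine ⟨⟨w⟩, ⟨PushoutCocone.IsColimit.mk w
    (fun s => CommRingCat.ofHom (RingHom.liftOfSurjective π.hom hπ ⟨s.inr.hom, hle s⟩)) ?_ ?_ ?_⟩⟩
  · intro s
    ext x
    obtain ⟨r, rfl⟩ := hφ x
    have h1 := congr($(s.condition).hom r)
    have h2 := congr($(w).hom r)
    simp only [CommRingCat.hom_comp, RingHom.comp_apply] at h1 h2
    simp [h2, h1, RingHom.liftOfRightInverse_comp_apply]
  · intro s
    ext x
    simp [RingHom.liftOfRightInverse_comp_apply]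
  · intro s m h1 h2
    ext x
    obtain ⟨q, rfl⟩ := hπ x
    have h3 := congr($(h2).hom q)
    simp only [CommRingCat.hom_comp, RingHom.comp_apply] at h3
    simp [h3, RingHom.liftOfRightInverse_comp_apply]

theorem surjective_of_isPushout {A B A' B' : CommRingCat.{u}} {f : A ⟶ B} {g : A ⟶ A'} {h : B ⟶ B'} {k : A' ⟶ B'}
    (H : IsPushout f g h k) (hg : Function.Surjective g.hom) : Function.Surjective h.hom := by
  have hk : ∀ x, k.hom x ∈ h.hom.range := fun x => by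
    obtain ⟨y, rfl⟩ := hg x
    exact ⟨f.hom y, congr($(H.w).hom y)⟩
  let d : B' ⟶ CommRingCat.of h.hom.range :=
    H.desc (CommRingCat.ofHom h.hom.rangeRestrict) (CommRingCat.ofHom (k.hom.codRestrict h.hom.range hk))
      (CommRingCat.hom_ext (RingHom.ext fun y => Subtype.ext congr($(H.w).hom y)))
  have hd : d ≫ CommRingCat.ofHom h.hom.range.subtype = 𝟙 B' := by
    apply H.hom_ext <;> simp only [d, Category.comp_id, IsPushout.inl_desc_assoc, IsPushout.inr_desc_assoc] <;> rfl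
  intro x
  have hx : ((d.hom x : h.hom.range) : B') = x := congr($(hd).hom x)
  exact hx ▸ (d.hom x : h.hom.range).2

theorem exists_tower_lift (n : ℕ) : ∀ {Q E D : CommRingCat.{u}} (π : Q ⟶ E) (ψ : E ⟶ D),
    Function.Surjective π.hom → Tower p n ψ.hom →
    ∃ (Q' : CommRingCat.{u}) (ψ' : Q ⟶ Q') (π' : Q' ⟶ D), Tower p n ψ'.hom ∧ IsPushout ψ' π π' ψ := by
  induction n with
  | zero =>
    intro Q E D π ψ _ hψ
    have : IsIso ψ := (ConcreteCategory.isIso_iff_bijective ψ).mpr ((tower_zero _).mp hψ)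
    exact ⟨Q, 𝟙 Q, π ≫ ψ, (tower_zero _).mpr Function.bijective_id, IsPushout.of_horiz_isIso ⟨by simp⟩⟩
  | succ n ih =>
    intro Q E D π ψ hπ hψ
    obtain ⟨a, χ, hχ, hT⟩ := (tower_succ n _).mp hψ
    obtain ⟨b, rfl⟩ := hπ a
    obtain ⟨γ, hγ⟩ := isPushout_rootRing (p := p) π b
    let χc : CommRingCat.of (Quiet.RootRing p E (π.hom b)) ⟶ D := CommRingCat.ofHom χ
    obtain ⟨Q', ψ', π', hT', H⟩ := ih γ χc (surjective_of_isPushout hγ hπ) hT
    refine ⟨Q', CommRingCat.ofHom (AdjoinRoot.of (X ^ p - C b)) ≫ ψ', π',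
      (tower_succ n _).mpr ⟨b, ψ'.hom, rfl, hT'⟩, ?_⟩
    have e : ψ = CommRingCat.ofHom (AdjoinRoot.of (X ^ p - C (π.hom b))) ≫ χc := CommRingCat.hom_ext hχ.symm
    rw [e]
    exact hγ.paste_horiz H

theorem isPthRoot_specMap {A B : CommRingCat.{u}} (ψ : A ⟶ B) {n : ℕ} (h : Tower p n ψ.hom) :
    Quiet.IsPthRoot p (Spec.map ψ) := by
  rw [isPthRoot_iff]
  intro x
  refine ⟨⟨⊤, isAffineOpen_top _⟩, trivial, ?_, n, ?_⟩
  · exact isAffineOpen_top (Spec B)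
  · exact tower_baseChange n (φ := ψ) (g := (Scheme.ΓSpecIso A).inv) (h := (Scheme.ΓSpecIso B).inv)
      (φ' := (Spec.map ψ).appTop) (IsPushout.of_vert_isIso ⟨Scheme.ΓSpecIso_inv_naturality ψ⟩) h

theorem isPullback_fromSpec {X Y : Scheme.{u}} (r : Y ⟶ X) {U : X.Opens} (hU : IsAffineOpen U)
    (hUV : IsAffineOpen (r ⁻¹ᵁ U)) :
    IsPullback hUV.fromSpec (Spec.map (r.app U)) r hU.fromSpec := by
  refine IsPullback.of_iso (isPullback_morphismRestrict r U).flip hUV.isoSpec (Iso.refl _) hU.isoSpec (Iso.refl _)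
    ?_ ?_ ?_ ?_
  · rw [Iso.refl_hom, Category.comp_id, ← IsAffineOpen.isoSpec_inv_ι hUV, Iso.hom_inv_id_assoc]
  · rw [← cancel_mono hU.fromSpec, Category.assoc, Category.assoc, ← IsAffineOpen.isoSpec_inv_ι hU,
      Iso.hom_inv_id_assoc, IsAffineOpen.isoSpec_inv_ι, ← Scheme.Hom.appLE_eq_app, IsAffineOpen.SpecMap_appLE_fromSpec _ _ hUV,
      ← IsAffineOpen.isoSpec_inv_ι hUV, Category.assoc, Iso.hom_inv_id_assoc, morphismRestrict_ι]
  · simp
  · rw [Iso.refl_hom, Category.comp_id, ← IsAffineOpen.isoSpec_inv_ι hU, Iso.hom_inv_id_assoc]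

theorem isPullback_specMap {A B C D : CommRingCat.{u}} {f : A ⟶ B} {g : A ⟶ C} {h : B ⟶ D} {k : C ⟶ D}
    (H : IsPushout f g h k) : IsPullback (Spec.map h) (Spec.map k) (Spec.map f) (Spec.map g) :=
  isPullback_SpecMap_of_isPushout _ _ _ _ H

/-- A quiet morphism lifts, locally on the source, along a closed immersion. -/
theorem exists_lift [Fact p.Prime] {T U U' : Scheme.{u}} (i : U ⟶ T) [IsClosedImmersion i] (f' : U' ⟶ U)
    (hf' : Quiet.IsQuiet p f') (u : U') :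
    ∃ (V : U'.Opens) (T' : Scheme.{u}) (q : T' ⟶ T) (j : (V : Scheme.{u}) ⟶ T'),
      u ∈ V ∧ Quiet.IsQuiet p q ∧ IsPullback j (V.ι ≫ f') q i := by
  obtain ⟨V₀, Y', r, e, hu, hr, he, hre⟩ := hf' u
  haveI := he
  let y : Y' := r ⟨u, hu⟩
  obtain ⟨U₁, hy₁, hA₁, n, hT⟩ := (isPthRoot_iff r).mp hr y
  obtain ⟨W, hW, hyW, -⟩ := exists_isAffineOpen_mem_and_subset (X := T) (x := i (e y)) (U := ⊤) trivial
  have hWU : IsAffineOpen (i ⁻¹ᵁ W) := hW.preimage i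
  obtain ⟨Y₀, hY₀, hy₀, hle⟩ := exists_isAffineOpen_mem_and_subset (X := Y') (x := y)
    (U := U₁.1 ⊓ e ⁻¹ᵁ (i ⁻¹ᵁ W)) ⟨hy₁, hyW⟩
  have hY₀e : Y₀ ≤ e ⁻¹ᵁ (i ⁻¹ᵁ W) := fun z hz => (hle hz).2
  obtain ⟨hrY, hT₀⟩ := tower_restrict r U₁.2 hA₁ hT hY₀ (fun z hz => (hle hz).1)
  let φ : Γ(T, W) ⟶ Γ(U, i ⁻¹ᵁ W) := i.app W
  let α : Γ(U, i ⁻¹ᵁ W) ⟶ Γ(Y', Y₀) := e.appLE _ Y₀ hY₀e
  have hφ : Function.Surjective φ.hom := i.app_surjective W hW
  algebraize [φ.hom, α.hom, α.hom.comp φ.hom]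
  haveI : Algebra.Etale Γ(U, i ⁻¹ᵁ W) Γ(Y', Y₀) :=
    RingHom.etale_algebraMap.mp (e.etale_appLE hWU hY₀ hY₀e)
  obtain ⟨Q, _, _, π, hQ, hπs, hker⟩ :=
    Groth.AlgStBasic.SmoothDescent.exists_etale_lift (P := Γ(T, W)) (C := Γ(Y', Y₀)) hφ
  let a : Γ(T, W) ⟶ CommRingCat.of Q := CommRingCat.ofHom (algebraMap Γ(T, W) Q)
  let πc : CommRingCat.of Q ⟶ Γ(Y', Y₀) := CommRingCat.ofHom π.toRingHom
  have hw : φ ≫ α = a ≫ πc := CommRingCat.hom_ext (RingHom.ext fun x => (π.commutes x).symm)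
  have H₁ : IsPushout φ a α πc := isPushout_of_ker_le φ a α πc hw hπs hφ hker.le
  obtain ⟨Q', ψ', π', hT', H₂⟩ := exists_tower_lift (p := p) n πc (r.app Y₀) hπs hT₀
  haveI : Etale (Spec.map a) := (HasRingHomProperty.Spec_iff (P := @Etale)).mpr (RingHom.etale_algebraMap.mpr hQ)
  let q : Spec Q' ⟶ T := Spec.map ψ' ≫ Spec.map a ≫ hW.fromSpec
  have hq : Quiet.IsQuiet p q := fun z => by
    haveI : IsIso (⊤ : (Spec Q').Opens).ι := inferInstanceAs (IsIso (Spec Q').topIso.hom)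
    refine ⟨⊤, Spec (CommRingCat.of Q), (⊤ : (Spec Q').Opens).ι ≫ Spec.map ψ', Spec.map a ≫ hW.fromSpec, trivial,
      isPthRoot_of_isPullback (g := 𝟙 _) (g' := (⊤ : (Spec Q').Opens).ι) (IsPullback.of_horiz_isIso ⟨by simp⟩)
        (isPthRoot_specMap ψ' hT'), inferInstance, by simp [q]⟩
  have big : IsPullback (Spec.map π') (Spec.map (r.app Y₀) ≫ Spec.map α ≫ hWU.fromSpec) q i :=
    (isPullback_specMap H₂).paste_vert ((isPullback_specMap H₁.flip).paste_vert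
      (isPullback_fromSpec i hW hWU).flip)
  let m : Spec Γ(↑V₀, r ⁻¹ᵁ Y₀) ⟶ U' := hrY.fromSpec ≫ V₀.ι
  have hm : Spec.map (r.app Y₀) ≫ Spec.map α ≫ hWU.fromSpec = m ≫ f' := by
    rw [IsAffineOpen.SpecMap_appLE_fromSpec _ _ hY₀, ← reassoc_of% (isPullback_fromSpec r hY₀ hrY).w, hre]
    simp [m]
  rw [hm] at big
  refine ⟨m.opensRange, Spec Q', q, (Scheme.Hom.isoOpensRange m).inv ≫ Spec.map π', ?_, hq, ?_⟩
  · obtain ⟨w, hw⟩ : (⟨u, hu⟩ : (V₀ : Scheme.{u})) ∈ Set.range hrY.fromSpec.base := by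
      rw [hrY.range_fromSpec]; exact hy₀
    exact ⟨w, by rw [show m = hrY.fromSpec ≫ V₀.ι from rfl, Scheme.Hom.comp_apply, hw]; rfl⟩
  · refine IsPullback.of_iso big (Scheme.Hom.isoOpensRange m) (Iso.refl _) (Iso.refl _) (Iso.refl _)
      (by simp) ?_ (by simp) (by simp)
    simp

end Groth.Misc8.QuietLift
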