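import Groth.Agent.Misc8.FrobRoot
import Groth.Prelude.Def_RegImm
import Mathlib.RingTheory.Extension.Presentation.Basic
import Mathlib.RingTheory.Unramified.LocalStructure
import Mathlib.RingTheory.RingHom.LocallyStandardSmooth
import Mathlib.RingTheory.QuasiFinite.Basic

/-! Quasi-étale morphisms are syntomic. -/

set_option autoImplicit false
set_option linter.style.haveILetI false

open CategoryTheory AlgebraicGeometry TensorProduct

namespace Groth.Misc8.QuietSyntomic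

open RootTower

universe u

variable {p : ℕ} [Fact p.Prime]

/-- A flat quasi-finite algebra with as many relations as generators. -/
def QS (A B : Type u) [CommRing A] [CommRing B] [Algebra A B] : Prop :=
  Module.Flat A B ∧ Algebra.FinitePresentation A B ∧ Algebra.QuasiFinite A B ∧
    ∃ n : ℕ, Nonempty (Algebra.Presentation A B (Fin n) (Fin n))

theorem QS.comp {A B C : Type u} [CommRing A] [CommRing B] [CommRing C] [Algebra A B] [Algebra B C] [Algebra A C]
    [IsScalarTower A B C] (h₁ : QS A B) (h₂ : QS B C) : QS A C := by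
  obtain ⟨f₁, p₁, q₁, n, ⟨P⟩⟩ := h₁
  obtain ⟨f₂, p₂, q₂, m, ⟨Q⟩⟩ := h₂
  exact ⟨Module.Flat.trans A B C, Algebra.FinitePresentation.trans A B C, Algebra.QuasiFinite.trans A B C, m + n,
    ⟨(Q.comp P).reindex finSumFinEquiv.symm finSumFinEquiv.symm⟩⟩

theorem QS.of_etale (A B : Type u) [CommRing A] [CommRing B] [Algebra A B] [Algebra.Etale A B] : QS A B := by
  refine ⟨inferInstance, inferInstance, inferInstance, ?_⟩
  obtain ⟨ι, σ, hσ, hι, P, hP⟩ := (Algebra.Etale.iff_isStandardSmoothOfRelativeDimension_zero (R := A) (S := B)).mp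
    inferInstance
  have hle : Nat.card σ ≤ Nat.card ι := Nat.card_le_card_of_injective P.map P.map_inj
  have hcard : Nat.card ι = Nat.card σ := by
    simp only [Algebra.Presentation.dimension] at hP
    omega
  exact ⟨Nat.card ι, ⟨P.toPresentation.reindex (Finite.equivFin ι).symm (Finite.equivFinOfCardEq hcard.symm).symm⟩⟩

theorem QS.rootRing (A : Type u) [CommRing A] (a : A) : QS A (Quiet.RootRing p A a) := by
  have hm : (Polynomial.X ^ p - Polynomial.C a).Monic := Polynomial.monic_X_pow_sub_C a (Fact.out : p.Prime).ne_zero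
  haveI := hm.free_adjoinRoot
  haveI := hm.finite_adjoinRoot
  haveI : Algebra.FinitePresentation A (Quiet.RootRing p A a) := inferInstance
  refine ⟨inferInstance, inferInstance, inferInstance, 1, ⟨?_⟩⟩
  let e : MvPolynomial (Fin 1) A ≃ₐ[A] Polynomial A := MvPolynomial.uniqueAlgEquiv A (Fin 1)
  let v : Fin 1 → MvPolynomial (Fin 1) A := fun _ => e.symm (Polynomial.X ^ p - Polynomial.C a)
  refine (Algebra.Presentation.naive (v := v)).ofAlgEquiv
    (Ideal.quotientEquivAlg _ _ e ?_ : (MvPolynomial (Fin 1) A ⧸ Ideal.span (Set.range v)) ≃ₐ[A] Quiet.RootRing p A a)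
  rw [Set.range_const, Ideal.map_span, Set.image_singleton]
  congr 2
  exact (e.apply_symm_apply _).symm

theorem QS.of_tower (n : ℕ) : ∀ {A B : Type u} [CommRing A] [CommRing B] (φ : A →+* B), Tower p n φ →
    @QS A B _ _ φ.toAlgebra := by
  induction n with
  | zero =>
    intro A B _ _ φ hφ
    letI := φ.toAlgebra
    haveI : Algebra.Etale A B :=
      Algebra.Etale.of_equiv (AlgEquiv.ofBijective (Algebra.ofId A B) ((tower_zero φ).mp hφ))
    exact QS.of_etale A B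
  | succ n ih =>
    intro A B _ _ φ hφ
    obtain ⟨a, ψ, hψ, hT⟩ := (tower_succ n φ).mp hφ
    letI := φ.toAlgebra
    letI := ψ.toAlgebra
    haveI : IsScalarTower A (Quiet.RootRing p A a) B := IsScalarTower.of_algebraMap_eq' hψ.symm
    exact (QS.rootRing A a).comp (ih ψ hT)

theorem QS.isSyntomic {A B : Type u} [CommRing A] [CommRing B] [Algebra A B] (h : QS A B) : Synt.IsSyntomic A B := by
  obtain ⟨hf, hp, hq, n, ⟨P⟩⟩ := h
  refine ⟨hf, hp, fun q => ⟨inferInstance, fun x => ⟨1, x.asIdeal.one_notMem, ?_⟩⟩⟩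
  let F := q.asIdeal.Fiber B
  let e : F ≃ₐ[q.asIdeal.ResidueField] Localization.Away (1 : F) :=
    (IsLocalization.atUnits F (Submonoid.powers (1 : F)) (by simp)).restrictScalars _
  rcases subsingleton_or_nontrivial (Localization.Away (1 : F)) with h | h
  · exact Or.inl h
  refine Or.inr ⟨n, n, le_rfl, ?_⟩
  let P' := (P.baseChange q.asIdeal.ResidueField).ofAlgEquiv e
  refine ⟨MvPolynomial.aeval P'.val, P'.relation, ?_, ?_, ?_⟩
  · intro z
    obtain ⟨y, rfl⟩ := P'.algebraMap_surjective z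
    exact ⟨y, (P'.algebraMap_apply y).symm⟩
  · exact (P'.span_range_relation_eq_ker.trans P'.ker_eq_ker_aeval_val).symm
  · haveI : Nontrivial F := e.toEquiv.nontrivial
    haveI : IsArtinianRing F := inferInstance
    rw [← ringKrullDim_eq_of_ringEquiv e.toRingEquiv, Nat.sub_self]
    rw [Nat.cast_zero]
    exact le_antisymm (Ring.krullDimLE_iff.mp inferInstance) ringKrullDim_nonneg_of_nontrivial

theorem isSyntomicMor_of_isQuiet {X Y : Scheme.{u}} (f : Y ⟶ X) (hf : Quiet.IsQuiet p f) :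
    Synt.IsSyntomicMor f := by
  intro y
  obtain ⟨V, Y', r, e, hyV, hr, he, hre⟩ := hf y
  obtain ⟨U, hyU, hUA, n, hT⟩ := (isPthRoot_iff r).mp hr (r ⟨y, hyV⟩)
  obtain ⟨W, hW, hyW, -⟩ := exists_isAffineOpen_mem_and_subset (X := X) (x := e (r ⟨y, hyV⟩)) (U := ⊤) trivial
  obtain ⟨U', hU', hyU', hle⟩ := exists_isAffineOpen_mem_and_subset (U := U.1 ⊓ e ⁻¹ᵁ W) ⟨hyU, hyW⟩
  obtain ⟨hA, hT'⟩ := QuietComp.tower_restrict r U.2 hUA hT hU' (fun z hz => (hle hz).1)
  have hle₂ : U' ≤ e ⁻¹ᵁ W := fun z hz => (hle hz).2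
  let O : Y.Opens := V.ι ''ᵁ (r ⁻¹ᵁ U')
  have hO : IsAffineOpen O := hA.image_of_isOpenImmersion V.ι
  have hOle : O ≤ f ⁻¹ᵁ W := by
    rintro _ ⟨z, hz, rfl⟩
    show f (V.ι z) ∈ W
    rw [← Scheme.Hom.comp_apply, ← hre, Scheme.Hom.comp_apply]
    exact hle₂ hz
  refine ⟨⟨O, hO⟩, ⟨W, hW⟩, hOle, ⟨⟨y, hyV⟩, hyU', rfl⟩, ?_⟩
  have hz : r ⁻¹ᵁ U' ≤ V.ι ⁻¹ᵁ O := (V.ι.preimage_image_eq _).ge
  have hpre : r ⁻¹ᵁ U' ≤ (r ≫ e) ⁻¹ᵁ W := fun z hz' => hle₂ hz'
  have key : f.appLE W O hOle ≫ V.ι.appLE O (r ⁻¹ᵁ U') hz = e.appLE W U' hle₂ ≫ r.app U' := by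
    rw [Scheme.Hom.appLE_comp_appLE, ← Scheme.Hom.appLE_eq_app, Scheme.Hom.appLE_comp_appLE]
    simp only [hre]
  haveI : IsIso (V.ι.appLE O (r ⁻¹ᵁ U') hz) := by
    rw [show V.ι.appLE O (r ⁻¹ᵁ U') hz = (V.ι.appIso (r ⁻¹ᵁ U')).hom from (V.ι.appIso_hom' _).symm]
    infer_instance
  have h2 : f.appLE W O hOle = e.appLE W U' hle₂ ≫ r.app U' ≫ inv (V.ι.appLE O (r ⁻¹ᵁ U') hz) := by
    rw [← Category.assoc, ← key, Category.assoc, IsIso.hom_inv_id, Category.comp_id]
  let α := (e.appLE W U' hle₂).hom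
  let β := (r.app U' ≫ inv (V.ι.appLE O (r ⁻¹ᵁ U') hz)).hom
  letI := α.toAlgebra
  letI := β.toAlgebra
  letI := (f.appLE W O hOle).hom.toAlgebra
  haveI : IsScalarTower Γ(X, W) Γ(Y', U') Γ(Y, O) :=
    IsScalarTower.of_algebraMap_eq' (congrArg CommRingCat.Hom.hom h2)
  haveI : Algebra.Etale Γ(X, W) Γ(Y', U') := HasRingHomProperty.appLE @Etale e he ⟨W, hW⟩ ⟨U', hU'⟩ hle₂
  refine ((QS.of_etale Γ(X, W) Γ(Y', U')).comp (QS.of_tower (p := p) n β ?_)).isSyntomic
  exact QuietComp.tower_comp n _ _ 0 hT' ((tower_zero _).mpr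
    (ConcreteCategory.bijective_of_isIso (inv (V.ι.appLE O (r ⁻¹ᵁ U') hz))))

end Groth.Misc8.QuietSyntomic
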