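import Mathlib.RingTheory.IntegralClosure.IntegrallyClosed
import Mathlib.RingTheory.Noetherian.Basic
import Mathlib.RingTheory.Localization.FractionRing
import Mathlib.Tactic

/-! A fraction which becomes regular after a cover that is surjective on primes is regular. -/

namespace Groth.Misc8

universe u

theorem mem_range_of_primes_surjective
    (A B K L : Type u) [CommRing A] [IsDomain A] [IsNoetherianRing A] [IsIntegrallyClosed A]
    [CommRing B] [IsDomain B] [Field K] [Field L]
    [Algebra A B] [Algebra A K] [IsFractionRing A K] [Algebra B L] [IsFractionRing B L]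
    [Algebra K L] [Algebra A L] [IsScalarTower A K L] [IsScalarTower A B L]
    (hsurj : ∀ p : Ideal A, p.IsPrime → ∃ q : Ideal B, q.IsPrime ∧ q.comap (algebraMap A B) = p)
    (a : K) (ha : algebraMap K L a ∈ (algebraMap B L).range) :
    a ∈ (algebraMap A K).range := by
  classical
  let den : K → Ideal A := fun b => (1 : Submodule A K).comap (LinearMap.toSpanSingleton A K b)
  have hden : ∀ b x, x ∈ den b ↔ x • b ∈ (algebraMap A K).range := by
    intro b x
    simp [den, Submodule.mem_one, RingHom.mem_range]
  by_contra hna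
  have hne : {I | ∃ b : K, b ∉ (algebraMap A K).range ∧ algebraMap K L b ∈ (algebraMap B L).range ∧ den b = I}.Nonempty :=
    ⟨den a, a, hna, ha, rfl⟩
  obtain ⟨p, ⟨b, hb, hbB, rfl⟩, hmax⟩ := set_has_maximal_iff_noetherian.mpr ‹_› _ hne
  have hp : (den b).IsPrime := by
    refine ⟨fun h => hb ?_, fun {x y} hxy => ?_⟩
    · have h1 : (1 : A) ∈ den b := h ▸ Submodule.mem_top
      rwa [hden, one_smul] at h1
    by_contra hcon
    push Not at hcon
    obtain ⟨hx, hy⟩ := hcon
    have hyb : y • b ∉ (algebraMap A K).range := fun h => hy ((hden _ _).mpr h)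
    have hle : den b ≤ den (y • b) := fun z hz => by
      rw [hden] at hz ⊢
      obtain ⟨w, hw⟩ := hz
      refine ⟨y * w, ?_⟩
      rw [smul_comm, ← hw, map_mul, Algebra.smul_def]
    have hyB : algebraMap K L (y • b) ∈ (algebraMap B L).range := by
      obtain ⟨w, hw⟩ := hbB
      refine ⟨algebraMap A B y * w, ?_⟩
      rw [map_mul, hw, Algebra.smul_def, map_mul, ← IsScalarTower.algebraMap_apply,
        ← IsScalarTower.algebraMap_apply]
    have heq : den (y • b) = den b :=
      (hle.eq_of_not_lt (hmax _ ⟨_, hyb, hyB, rfl⟩)).symm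
    apply hx
    rw [← heq, hden]
    rwa [hden, mul_smul] at hxy
  obtain ⟨t₀, ht₀, ht₀0⟩ : ∃ t ∈ den b, t ≠ 0 := by
    obtain ⟨x, s, hs, hxs⟩ := IsFractionRing.div_surjective A b
    refine ⟨s, (hden _ _).mpr ⟨x, ?_⟩, nonZeroDivisors.ne_zero hs⟩
    rw [← hxs, Algebra.smul_def, mul_div_cancel₀]
    exact (map_ne_zero_iff _ (IsFractionRing.injective A K)).mpr (nonZeroDivisors.ne_zero hs)
  by_cases hstab : ∀ t ∈ den b, ∃ s ∈ den b, algebraMap A K s = t • b
  · apply hb
    let N : Submodule A K := Submodule.map (Algebra.linearMap A K) (den b)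
    have hN : N.FG := (IsNoetherian.noetherian (den b)).map _
    have hint : IsIntegral A b := by
      refine isIntegral_of_smul_mem_submodule N ?_ hN b ?_
      · intro h0
        have : algebraMap A K t₀ ∈ N := ⟨t₀, ht₀, rfl⟩
        rw [h0, Submodule.mem_bot, map_eq_zero_iff _ (IsFractionRing.injective A K)] at this
        exact ht₀0 this
      · rintro _ ⟨t, ht, rfl⟩
        obtain ⟨s, hs, hst⟩ := hstab t ht
        refine ⟨s, hs, ?_⟩
        simp [Algebra.linearMap_apply, hst, Algebra.smul_def, mul_comm]
    exact IsIntegrallyClosed.isIntegral_iff.mp hint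
  · push Not at hstab
    obtain ⟨t, ht, hts⟩ := hstab
    obtain ⟨s, hs⟩ := (hden _ _).mp ht
    obtain ⟨q, hq, hqp⟩ := hsurj _ hp
    obtain ⟨w, hw⟩ := hbB
    apply hts s ?_ hs
    rw [← hqp, Ideal.mem_comap]
    have : algebraMap A B s = algebraMap A B t * w := by
      apply IsFractionRing.injective B L
      rw [map_mul, hw, ← IsScalarTower.algebraMap_apply, ← IsScalarTower.algebraMap_apply,
        IsScalarTower.algebraMap_apply A K L, hs, Algebra.smul_def, map_mul,
        ← IsScalarTower.algebraMap_apply]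
    rw [this]
    refine Ideal.mul_mem_right _ _ ?_
    rw [← Ideal.mem_comap, hqp]
    exact ht

end Groth.Misc8
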