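import Groth.Prelude.Def_W4c2gaugesfzipsQuiet
import Mathlib.AlgebraicGeometry.Morphisms.Flat
import Mathlib.Algebra.Category.Ring.Constructions

/-! Towers of `p`-th root extractions, as a property of ring homomorphisms. -/

set_option autoImplicit false

open CategoryTheory CategoryTheory.Limits AlgebraicGeometry Polynomial

namespace Groth.Misc8.RootTower

universe u

/-- `φ` is a tower of `n` elementary extractions of `p`-th roots. -/
def Tower (p n : ℕ) {A B : Type u} [CommRing A] [CommRing B] (φ : A →+* B) : Prop :=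
  @Quiet.IsRootTower p n A B _ _ φ.toAlgebra

variable {p : ℕ}

theorem tower_zero {A B : Type u} [CommRing A] [CommRing B] (φ : A →+* B) :
    Tower p 0 φ ↔ Function.Bijective φ := by
  let := φ.toAlgebra
  constructor
  · intro h
    obtain ⟨e⟩ : Nonempty (B ≃ₐ[A] A) := h
    have : (φ : A → B) = e.symm := funext fun a => (e.symm.commutes a).symm
    rw [this]; exact e.symm.bijective
  · intro h
    exact show Nonempty (B ≃ₐ[A] A) from ⟨(AlgEquiv.ofBijective (Algebra.ofId A B) h).symm⟩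

theorem tower_succ {A B : Type u} [CommRing A] [CommRing B] (n : ℕ) (φ : A →+* B) :
    Tower p (n + 1) φ ↔ ∃ (a : A) (ψ : Quiet.RootRing p A a →+* B),
      ψ.comp (AdjoinRoot.of _) = φ ∧ Tower p n ψ := by
  let := φ.toAlgebra
  constructor
  · intro h
    obtain ⟨a, alg, htow, h⟩ : ∃ (a : A) (_ : Algebra (Quiet.RootRing p A a) B),
      IsScalarTower A (Quiet.RootRing p A a) B ∧ Quiet.IsRootTower p n (Quiet.RootRing p A a) B := h
    refine ⟨a, algebraMap _ B, ?_, ?_⟩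
    · exact (IsScalarTower.algebraMap_eq A (Quiet.RootRing p A a) B).symm
    · have e : (algebraMap (Quiet.RootRing p A a) B).toAlgebra = alg := Algebra.algebra_ext _ _ fun _ => rfl
      rwa [Tower, e]
  · rintro ⟨a, ψ, hψ, h⟩
    refine show ∃ (a : A) (_ : Algebra (Quiet.RootRing p A a) B),
      IsScalarTower A (Quiet.RootRing p A a) B ∧ Quiet.IsRootTower p n (Quiet.RootRing p A a) B from
        ⟨a, ψ.toAlgebra, ?_, h⟩
    exact @IsScalarTower.of_algebraMap_eq' A (Quiet.RootRing p A a) B _ _ _ _ ψ.toAlgebra φ.toAlgebra hψ.symm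

theorem isPushout_rootRing {A A' : CommRingCat.{u}} (g : A ⟶ A') (a : A) :
    ∃ γ : CommRingCat.of (Quiet.RootRing p A a) ⟶ CommRingCat.of (Quiet.RootRing p A' (g.hom a)),
      IsPushout (CommRingCat.ofHom (AdjoinRoot.of (X ^ p - C a))) g γ
        (CommRingCat.ofHom (AdjoinRoot.of (X ^ p - C (g.hom a)))) := by
  let γ : CommRingCat.of (Quiet.RootRing p A a) ⟶ CommRingCat.of (Quiet.RootRing p A' (g.hom a)) :=
    CommRingCat.ofHom (AdjoinRoot.map g.hom (X ^ p - C a) (X ^ p - C (g.hom a)) (by simp))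
  have w : CommRingCat.ofHom (AdjoinRoot.of (X ^ p - C a)) ≫ γ =
      g ≫ CommRingCat.ofHom (AdjoinRoot.of (X ^ p - C (g.hom a))) := by
    ext x; simp [γ]
  refine ⟨γ, ⟨⟨w⟩, ⟨PushoutCocone.IsColimit.mk w (fun s => CommRingCat.ofHom
    (AdjoinRoot.lift s.inr.hom (s.inl.hom (AdjoinRoot.root (X ^ p - C a))) ?_)) ?_ ?_ ?_⟩⟩⟩
  · have h0 := congrArg s.inl.hom (AdjoinRoot.eval₂_root (X ^ p - C a))
    simp only [eval₂_sub, eval₂_X_pow, eval₂_C, map_sub, map_pow, map_zero] at h0 ⊢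
    have h1 := congr($(s.condition).hom a)
    simp only [CommRingCat.hom_comp, RingHom.comp_apply, CommRingCat.hom_ofHom] at h1
    rwa [h1] at h0
  · intro s
    apply CommRingCat.hom_ext
    refine AdjoinRoot.ringHom_ext (RingHom.ext fun x => ?_) ?_
    · have h1 := congr($(s.condition).hom x)
      simp only [CommRingCat.hom_comp, RingHom.comp_apply, CommRingCat.hom_ofHom] at h1
      simp [γ, h1]
    · simp [γ]
  · intro s
    ext x; simp
  · intro s m h1 h2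
    apply CommRingCat.hom_ext
    refine AdjoinRoot.ringHom_ext (RingHom.ext fun x => ?_) ?_
    · have h := congr($(h2).hom x)
      simpa using h
    · have h := congr($(h1).hom (AdjoinRoot.root (X ^ p - C a)))
      simpa [γ] using h

theorem tower_baseChange (n : ℕ) : ∀ {A B A' B' : CommRingCat.{u}} {φ : A ⟶ B} {g : A ⟶ A'} {h : B ⟶ B'}
    {φ' : A' ⟶ B'}, IsPushout φ g h φ' → Tower p n φ.hom → Tower p n φ'.hom := by
  induction n with
  | zero =>
    intro A B A' B' φ g h φ' H hφ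
    rw [tower_zero] at hφ ⊢
    have : IsIso φ := (ConcreteCategory.isIso_iff_bijective φ).mpr hφ
    have := H.isIso_inr_of_isIso
    exact (ConcreteCategory.isIso_iff_bijective φ').mp this
  | succ n ih =>
    intro A B A' B' φ g h φ' H hφ
    obtain ⟨a, ψ, hψ, hT⟩ := (tower_succ n _).mp hφ
    obtain ⟨γ, hγ⟩ := isPushout_rootRing (p := p) g a
    have hsplit : CommRingCat.ofHom (AdjoinRoot.of (X ^ p - C a)) ≫ CommRingCat.ofHom ψ = φ := by
      ext x; exact RingHom.congr_fun hψ x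
    let ψ' := hγ.desc (CommRingCat.ofHom ψ ≫ h) φ' (by rw [← Category.assoc, hsplit, H.w])
    have H2 : IsPushout (CommRingCat.ofHom ψ) γ h ψ' := by
      refine IsPushout.of_left ?_ (hγ.inl_desc _ _ _).symm hγ
      rw [hsplit]
      exact hγ.inr_desc (CommRingCat.ofHom ψ ≫ h) φ' _ ▸ H
    refine (tower_succ n _).mpr ⟨g.hom a, ψ'.hom, ?_, ih H2 hT⟩
    exact congrArg CommRingCat.Hom.hom (hγ.inr_desc (CommRingCat.ofHom ψ ≫ h) φ' _)

theorem isPthRoot_iff {X Y : Scheme.{u}} (f : Y ⟶ X) :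
    Quiet.IsPthRoot p f ↔ ∀ x : X, ∃ U : X.affineOpens, x ∈ U.1 ∧ IsAffineOpen (f ⁻¹ᵁ U.1) ∧
      ∃ n, Tower p n (f.app U.1).hom := Iff.rfl

theorem isPthRoot_of_isPullback {X Y X' Y' : Scheme.{u}} {f : Y ⟶ X} {g : X' ⟶ X} {f' : Y' ⟶ X'}
    {g' : Y' ⟶ Y} (H : IsPullback g' f' f g) (hf : Quiet.IsPthRoot p f) : Quiet.IsPthRoot p f' := by
  rw [isPthRoot_iff] at hf ⊢
  intro x'
  obtain ⟨U, hxU, hUY, n, hn⟩ := hf (g x')
  obtain ⟨V, hV, hxV, hVU⟩ := exists_isAffineOpen_mem_and_subset (U := g ⁻¹ᵁ U.1) hxU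
  have hle : V ≤ g ⁻¹ᵁ U.1 := hVU
  have hinf : f' ⁻¹ᵁ V = g' ⁻¹ᵁ (f ⁻¹ᵁ U.1) ⊓ f' ⁻¹ᵁ V := by
    refine (inf_eq_right.mpr ?_).symm
    rw [← Scheme.Hom.comp_preimage, H.w, Scheme.Hom.comp_preimage]
    exact f'.preimage_mono hle
  have hsec := (isIso_pushoutSection_iff H hle le_rfl hinf).mp
    (isIso_pushoutSection_of_isAffineOpen H hle le_rfl hinf U.2 hV hUY)
  rw [Scheme.Hom.appLE_eq_app f, Scheme.Hom.appLE_eq_app f'] at hsec
  refine ⟨⟨V, hV⟩, hxV, ?_, n, tower_baseChange n hsec hn⟩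
  have : IsAffine (f ⁻¹ᵁ U.1 : Scheme.{u}) := hUY
  have : IsAffine (U.1 : Scheme.{u}) := U.2
  have : IsAffine (V : Scheme.{u}) := hV
  exact .of_isIso (Scheme.Hom.isPullback_resLE H hle le_rfl hinf).isoPullback.hom

theorem isQuiet_of_isPullback {X Y X' Y' : Scheme.{u}} {f : Y ⟶ X} {g : X' ⟶ X} {f' : Y' ⟶ X'}
    {g' : Y' ⟶ Y} (H : IsPullback g' f' f g) (hf : Quiet.IsQuiet p f) : Quiet.IsQuiet p f' := by
  intro y'
  obtain ⟨V, W, r, e, hy, hr, he, hcomp⟩ := hf (g' y')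
  have hV : IsPullback (g' ∣_ V) ((g' ⁻¹ᵁ V).ι ≫ f') (r ≫ e) g := by
    rw [hcomp]
    exact (isPullback_morphismRestrict g' V).paste_vert H
  let r' : (↑(g' ⁻¹ᵁ V) : Scheme.{u}) ⟶ pullback e g :=
    pullback.lift ((g' ∣_ V) ≫ r) ((g' ⁻¹ᵁ V).ι ≫ f') (by rw [Category.assoc, hV.w])
  refine ⟨g' ⁻¹ᵁ V, pullback e g, r', pullback.snd e g, hy,
    isPthRoot_of_isPullback (g := pullback.fst e g) (g' := g' ∣_ V) ?_ hr,
    MorphismProperty.pullback_snd (P := @Etale) e g he, pullback.lift_snd _ _ _⟩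
  refine IsPullback.of_bot ?_ (show (g' ∣_ V) ≫ r = r' ≫ pullback.fst e g from (pullback.lift_fst _ _ _).symm)
    (IsPullback.of_hasPullback e g)
  rw [show r' ≫ pullback.snd e g = (g' ⁻¹ᵁ V).ι ≫ f' from pullback.lift_snd _ _ _]
  exact hV

end Groth.Misc8.RootTower
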