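import Mathlib.LinearAlgebra.Matrix.SpecialLinearGroup
import Mathlib.LinearAlgebra.Matrix.NonsingularInverse
import Mathlib.RingTheory.RootsOfUnity.PrimitiveRoots
import Mathlib.GroupTheory.SpecificGroups.Quaternion
import Mathlib.Tactic

/-! Finite cyclic and binary dihedral subgroups of `SL₂`. -/

namespace Groth.Misc8.SL2

open Matrix

universe u v

variable {K : Type u} {L : Type v} [Field K] [Field L] [Algebra K L]

def rot (c : K) : Matrix.SpecialLinearGroup (Fin 2) K :=
  ⟨!![0, -1; 1, 2 * c], by simp [Matrix.det_fin_two]⟩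

theorem rot_pow_eq_one {ξ : L} {c : K} (hne : ξ ≠ ξ⁻¹) (h0 : ξ ≠ 0)
    (hc : algebraMap K L (2 * c) = ξ + ξ⁻¹) (k : ℕ) : rot c ^ k = 1 ↔ ξ ^ k = 1 := by
  let M : Matrix (Fin 2) (Fin 2) L := !![0, -1; 1, ξ + ξ⁻¹]
  let Q : Matrix (Fin 2) (Fin 2) L := !![1, 1; -ξ, -ξ⁻¹]
  have hinj : Function.Injective ((algebraMap K L).mapMatrix : Matrix (Fin 2) (Fin 2) K →+* _) :=
    fun A B h => Matrix.map_injective (algebraMap K L).injective h
  have hM : (algebraMap K L).mapMatrix (rot c).1 = M := by
    ext i j
    fin_cases i <;> fin_cases j <;> simp [rot, M] <;> simpa using hc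
  have h1 : rot c ^ k = 1 ↔ M ^ k = 1 := by
    rw [← hM, ← map_pow, map_eq_one_iff _ hinj, ← Matrix.SpecialLinearGroup.coe_pow,
      ← Matrix.SpecialLinearGroup.coe_one]
    exact (Subtype.ext_iff).trans Iff.rfl
  have hMQ : M * Q = Q * Matrix.diagonal ![ξ, ξ⁻¹] := by
    ext i j
    fin_cases i <;> fin_cases j <;> simp [M, Q, Matrix.mul_apply, Fin.sum_univ_two] <;> field_simp <;> ring
  have hQ : IsUnit Q.det := by
    rw [isUnit_iff_ne_zero]
    simp [Q, Matrix.det_fin_two]
    contrapose! hne
    linear_combination hne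
  have hk : ∀ k : ℕ, M ^ k * Q = Q * Matrix.diagonal ![ξ, ξ⁻¹] ^ k := by
    intro k
    induction k with
    | zero => simp
    | succ k ih => rw [pow_succ', mul_assoc, ih, ← mul_assoc, hMQ, mul_assoc, ← pow_succ']
  rw [h1]
  constructor
  · intro h
    have := hk k
    rw [h, one_mul] at this
    nth_rw 1 [← mul_one Q] at this
    have h2 := (Matrix.isUnit_iff_isUnit_det Q).mpr hQ |>.mul_left_cancel this
    have h3 := congrFun (congrFun h2 0) 0
    simpa [Matrix.diagonal_pow] using h3.symm
  · intro h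
    have hd : Matrix.diagonal ![ξ, ξ⁻¹] ^ k = 1 := by
      rw [Matrix.diagonal_pow, ← Matrix.diagonal_one]
      congr 1
      ext i
      fin_cases i <;> simp [h]
    have := hk k
    rw [hd, mul_one] at this
    nth_rw 2 [← one_mul Q] at this
    exact (Matrix.isUnit_iff_isUnit_det Q).mpr hQ |>.mul_right_cancel this

theorem ne_inv {ξ : L} {n : ℕ} (hn : 3 ≤ n) (hξ : IsPrimitiveRoot ξ n) : ξ ≠ ξ⁻¹ := by
  intro h
  have h0 : ξ ≠ 0 := hξ.ne_zero (by omega)
  have h2 : ξ ^ 2 = 1 := by rw [sq]; nth_rw 1 [h]; exact inv_mul_cancel₀ h0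
  have := Nat.le_of_dvd (by omega) (hξ.dvd_of_pow_eq_one 2 h2)
  omega

theorem orderOf_rot {ξ : L} {c : K} {n : ℕ} (hn : 3 ≤ n) (hξ : IsPrimitiveRoot ξ n)
    (hc : algebraMap K L (2 * c) = ξ + ξ⁻¹) : orderOf (rot c) = n := by
  rw [orderOf_eq_iff (by omega)]
  have h := rot_pow_eq_one (ne_inv hn hξ) (hξ.ne_zero (by omega)) hc
  refine ⟨(h n).mpr hξ.pow_eq_one, fun m hm hm0 hm1 => ?_⟩
  exact hξ.pow_ne_one_of_pos_of_lt hm0.ne' hm ((h m).mp hm1)

theorem exists_orderOf_eq [CharZero K] (n : ℕ) (hn : 1 ≤ n) (ξ : L) (hξ : IsPrimitiveRoot ξ n) (c : K)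
    (hc : algebraMap K L (2 * c) = ξ + ξ⁻¹) :
    ∃ M : Matrix.SpecialLinearGroup (Fin 2) K, orderOf M = n := by
  by_cases h3 : 3 ≤ n
  · exact ⟨rot c, orderOf_rot h3 hξ hc⟩
  by_cases h1 : n = 1
  · exact ⟨1, by rw [orderOf_one, h1]⟩
  have h2 : n = 2 := by omega
  refine ⟨-1, ?_⟩
  rw [h2]
  refine orderOf_eq_prime (by simp) fun h => ?_
  have := congrArg (fun A : Matrix.SpecialLinearGroup (Fin 2) K => A.1 0 0) h
  simp at this
  norm_num at this

end Groth.Misc8.SL2

namespace Groth.Misc8.SL2

open Matrix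

universe u v

variable {K : Type u} {L : Type v} [Field K] [Field L] [Algebra K L]

theorem exists_injective_quaternion [CharZero K] (n : ℕ) (hn : 2 ≤ n) (ξ : L)
    (hξ : IsPrimitiveRoot ξ (2 * n)) (c : K) (hc : algebraMap K L (2 * c) = ξ + ξ⁻¹)
    (hsol : ∃ x y : K, x ^ 2 - (c ^ 2 - 1) * y ^ 2 = -1) :
    ∃ f : QuaternionGroup n →* Matrix.SpecialLinearGroup (Fin 2) K, Function.Injective f := by
  obtain ⟨x, y, hxy⟩ := hsol
  have : NeZero n := ⟨by omega⟩
  set A := rot (K := K) c with hA
  let T : Matrix.SpecialLinearGroup (Fin 2) K :=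
    ⟨!![y, x + c * y; x - c * y, -y], by simp [Matrix.det_fin_two]; linear_combination -hxy⟩
  have hord : orderOf A = 2 * n := orderOf_rot (by omega) hξ hc
  have hA2n : A ^ (2 * n) = 1 := hord ▸ pow_orderOf_eq_one A
  have hnn : A ^ n = -1 := by
    have h1 : ξ ^ n = -1 := by
      have : IsPrimitiveRoot (ξ ^ n) 2 := hξ.pow (by omega) (mul_comm 2 n)
      exact this.eq_neg_one_of_two_right
    have hne := ne_inv (by omega) hξ
    have h0 : ξ ≠ 0 := hξ.ne_zero (by omega)
    -- `A ^ n` is an involution in `SL₂` different from `1`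
    have hsq : (A ^ n) ^ 2 = 1 := by rw [← pow_mul, mul_comm]; exact hA2n
    have hne1 : A ^ n ≠ 1 := by
      intro h
      have := orderOf_dvd_of_pow_eq_one h
      rw [hord] at this
      have := Nat.le_of_dvd (by omega) this
      omega
    generalize A ^ n = B at hsq hne1
    obtain ⟨B, hB⟩ := B
    have hB2 : B * B = 1 := by
      have := congrArg Subtype.val hsq
      simpa [sq] using this
    have hadj : B.adjugate = B := by
      have := congrArg (B.adjugate * ·) hB2
      simpa [← mul_assoc, Matrix.adjugate_mul, hB] using this.symm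
    rw [Matrix.adjugate_fin_two] at hadj
    have e00 : B 1 1 = B 0 0 := by simpa using congrFun (congrFun hadj 0) 0
    have e01 : B 0 1 = 0 := by
      have := congrFun (congrFun hadj 0) 1
      simp at this
      linear_combination (-(1 : K) / 2) * this
    have e10 : B 1 0 = 0 := by
      have := congrFun (congrFun hadj 1) 0
      simp at this
      linear_combination (-(1 : K) / 2) * this
    have hd : B 0 0 * B 0 0 = 1 := by
      have := hB
      rw [Matrix.det_fin_two, e00, e01] at this
      linear_combination this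
    rcases mul_self_eq_one_iff.mp hd with h | h
    · exfalso; apply hne1
      ext i j
      fin_cases i <;> fin_cases j <;> simp [h, e00, e01, e10]
    · ext i j
      fin_cases i <;> fin_cases j <;> simp [h, e00, e01, e10]
  have hT2 : T * T = -1 := by
    apply Subtype.ext
    simp only [SpecialLinearGroup.coe_mul, SpecialLinearGroup.coe_neg, SpecialLinearGroup.coe_one]
    ext i j
    fin_cases i <;> fin_cases j <;> simp [T, Matrix.mul_apply, Fin.sum_univ_two] <;>
      first | linear_combination hxy | linear_combination -hxy | ring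
  have hcomm : A * T * A = T := by
    apply Subtype.ext
    simp only [SpecialLinearGroup.coe_mul]
    ext i j
    fin_cases i <;> fin_cases j <;> simp [T, hA, rot, Matrix.mul_apply, Fin.sum_univ_two] <;> ring
  have hpowcomm : ∀ k : ℕ, A ^ k * T * A ^ k = T := by
    intro k
    induction k with
    | zero => simp
    | succ k ih =>
      calc A ^ (k + 1) * T * A ^ (k + 1) = A ^ k * (A * T * A) * A ^ k := by
            rw [pow_succ]; nth_rw 2 [← pow_succ]; rw [pow_succ']; simp [mul_assoc]
        _ = T := by rw [hcomm, ih]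
  let g : ZMod (2 * n) → Matrix.SpecialLinearGroup (Fin 2) K := fun i => A ^ i.val
  have hg : ∀ i j, g (i + j) = g i * g j := by
    intro i j
    simp only [g, ← pow_add, ZMod.val_add]
    exact (pow_eq_pow_mod _ hA2n).symm
  have hg0 : g 0 = 1 := by simp [g]
  have hgn : g n = -1 := by
    simp only [g, ZMod.val_natCast, Nat.mod_eq_of_lt (show n < 2 * n by omega), hnn]
  have hginj : Function.Injective g := by
    intro i j h
    exact ZMod.val_injective _ ((pow_injOn_Iio_orderOf (x := A)) (by rw [Set.mem_Iio, hord]; exact ZMod.val_lt i) (by rw [Set.mem_Iio, hord]; exact ZMod.val_lt j) h)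
  have hgT : ∀ i, g i * T = T * g (-i) := by
    intro i
    have h1 : g i * T * g i = T := hpowcomm i.val
    calc g i * T = g i * T * (g i * g (-i)) := by rw [← hg, add_neg_cancel, hg0, mul_one]
      _ = T * g (-i) := by rw [← mul_assoc, h1]
  refine ⟨{ toFun := fun q => match q with
              | .a i => g i
              | .xa i => T * g i
            map_one' := by rw [QuaternionGroup.one_def]; exact hg0
            map_mul' := ?_ }, ?_⟩
  · rintro (i | i) (j | j)
    · simp [hg]
    · simp only [QuaternionGroup.a_mul_xa]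
      rw [← mul_assoc, hgT, mul_assoc, ← hg, neg_add_eq_sub]
    · simp [hg, mul_assoc]
    · simp only [QuaternionGroup.xa_mul_xa]
      rw [mul_assoc T, ← mul_assoc (g i) T, hgT, mul_assoc T (g (-i)), ← mul_assoc T T, hT2, ← hgn, ← hg, ← hg]
      congr 1
      ring
  · have hne : ∀ i j, g i ≠ T * g j := by
      intro i j h
      have hTk : T = g (i - j) := by
        calc T = T * (g j * g (-j)) := by rw [← hg, add_neg_cancel, hg0, mul_one]
          _ = g i * g (-j) := by rw [← mul_assoc, ← h]
          _ = g (i - j) := by rw [← hg, sub_eq_add_neg]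
      have h' := hcomm
      rw [hTk] at h'
      have hc' : A * g (i - j) = g (i - j) * A := (pow_succ' A _).symm.trans (pow_succ A _)
      rw [hc', mul_assoc, mul_eq_left, ← sq] at h'
      have := Nat.le_of_dvd (by omega) (orderOf_dvd_of_pow_eq_one h')
      omega
    rintro (i | i) (j | j) h
    · exact congrArg _ (hginj h)
    · exact absurd h (hne i j)
    · exact absurd h.symm (hne j i)
    · exact congrArg _ (hginj (mul_left_cancel h))

end Groth.Misc8.SL2
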