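import Mathlib.LinearAlgebra.Matrix.SpecialLinearGroup
import Mathlib.LinearAlgebra.Matrix.Transvection
import Mathlib.Algebra.Polynomial.Eval.Defs
import Mathlib.Tactic

/-! Polynomial paths in `SLₙ`. -/

namespace Groth.Misc8.SLPath

open Matrix Polynomial

universe u

variable {K : Type u} [Field K] {n : Type} [Fintype n] [DecidableEq n]

def HasPath (A : Matrix n n K) : Prop :=
  ∃ M : Matrix n n K[X], M.det = 1 ∧ M.map (evalRingHom 0) = 1 ∧ M.map (evalRingHom 1) = A

theorem hasPath_one : HasPath (1 : Matrix n n K) :=
  ⟨1, by simp, by simp, by simp⟩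

theorem hasPath_mul {A B : Matrix n n K} (hA : HasPath A) (hB : HasPath B) : HasPath (A * B) := by
  obtain ⟨M, h1, h2, h3⟩ := hA
  obtain ⟨N, k1, k2, k3⟩ := hB
  exact ⟨M * N, by rw [det_mul, h1, k1, one_mul], by rw [Matrix.map_mul, h2, k2, one_mul],
    by rw [Matrix.map_mul, h3, k3]⟩

theorem map_transvection {R S : Type*} [CommRing R] [CommRing S] (f : R →+* S) (i j : n) (c : R) :
    (transvection i j c).map f = transvection i j (f c) := by
  rw [transvection, transvection, Matrix.map_add _ (map_add f), Matrix.map_one _ (map_zero f) (map_one f),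
    Matrix.map_single]

theorem hasPath_transvection {i j : n} (hij : i ≠ j) (c : K) : HasPath (transvection i j c) :=
  ⟨transvection i j (C c * X), det_transvection_of_ne i j hij _,
    by rw [map_transvection]; simp, by rw [map_transvection]; simp⟩

def wProd {R : Type*} [CommRing R] (i j : n) (a a' : R) : Matrix n n R :=
  transvection i j a * transvection j i (-a') * transvection i j a

theorem wProd_eq {i j : n} (hij : i ≠ j) (a a' : K) (h : a * a' = 1) :
    wProd i j a a' = 1 - single i i 1 - single j j 1 + single i j a + single j i (-a') := by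
  rw [wProd, mul_assoc]
  ext p q
  by_cases hp : p = i
  · subst hp
    rw [transvection_mul_apply_same, transvection_mul_apply_same]
    simp only [transvection_mul_apply_of_ne _ _ _ _ hij]
    simp only [transvection, Matrix.add_apply, Matrix.sub_apply, Matrix.single_apply, Matrix.one_apply]
    split_ifs <;> grind
  · rw [transvection_mul_apply_of_ne _ _ _ _ hp]
    by_cases hp' : p = j
    · subst hp'
      rw [transvection_mul_apply_same]
      simp only [transvection, Matrix.add_apply, Matrix.sub_apply, Matrix.single_apply, Matrix.one_apply]
      split_ifs <;> grind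
    · rw [transvection_mul_apply_of_ne _ _ _ _ hp']
      simp only [transvection, Matrix.add_apply, Matrix.sub_apply, Matrix.single_apply, Matrix.one_apply]
      split_ifs <;> grind

theorem wProd_apply {i j : n} (hij : i ≠ j) (a a' : K) (h : a * a' = 1) (p q : n) :
    wProd i j a a' p q = if p = i then (if q = j then a else 0) else
      if p = j then (if q = i then -a' else 0) else if p = q then 1 else 0 := by
  rw [wProd_eq hij a a' h]
  simp only [Matrix.add_apply, Matrix.sub_apply, Matrix.single_apply, Matrix.one_apply]
  split_ifs <;> grind

theorem diag2 {i j : n} (hij : i ≠ j) (a a' : K) (h : a * a' = 1) :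
    wProd i j a a' * wProd i j (-1) (-1) =
      diagonal (Function.update (Function.update (fun _ => (1 : K)) i a) j a') := by
  have h1 : (-1 : K) * -1 = 1 := by ring
  ext p q
  rw [Matrix.mul_apply]
  simp only [wProd_apply hij a a' h, wProd_apply hij (-1) (-1) h1, diagonal_apply, Function.update_apply]
  by_cases hp : p = i
  · subst hp
    rw [Finset.sum_eq_single j]
    · split_ifs <;> grind
    · intro x _ hx; split_ifs <;> grind
    · simp
  · by_cases hp' : p = j
    · subst hp'
      rw [Finset.sum_eq_single i]
      · split_ifs <;> grind
      · intro x _ hx; split_ifs <;> grind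
      · simp
    · rw [Finset.sum_eq_single p]
      · split_ifs <;> grind
      · intro x _ hx; split_ifs <;> grind
      · simp

theorem hasPath_diag2 {i j : n} (hij : i ≠ j) (a a' : K) (h : a * a' = 1) :
    HasPath (diagonal (Function.update (Function.update (fun _ => (1 : K)) i a) j a')) := by
  rw [← diag2 hij a a' h, wProd, wProd]
  exact hasPath_mul (hasPath_mul (hasPath_mul (hasPath_transvection hij _) (hasPath_transvection hij.symm _))
    (hasPath_transvection hij _)) (hasPath_mul (hasPath_mul (hasPath_transvection hij _)
    (hasPath_transvection hij.symm _)) (hasPath_transvection hij _))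

theorem hasPath_diag (i₀ : n) (D : n → K) (hD : ∏ i, D i = 1) : HasPath (diagonal D) := by
  have hD0 : ∀ i, D i ≠ 0 := fun i hi => by
    rw [Finset.prod_eq_zero (Finset.mem_univ i) hi] at hD; exact zero_ne_one hD
  have key : ∀ s : Finset n, i₀ ∉ s → HasPath (diagonal (fun i =>
      if i = i₀ then (∏ k ∈ s, D k)⁻¹ else if i ∈ s then D i else 1)) := by
    intro s
    induction s using Finset.induction with
    | empty =>
      intro _
      simp only [Finset.prod_empty, inv_one, Finset.notMem_empty, if_false, ite_self, diagonal_one]
      exact hasPath_one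
    | insert i s his ih =>
      intro h0
      simp only [Finset.mem_insert, not_or] at h0
      have := hasPath_mul (ih h0.2) (hasPath_diag2 (Ne.symm h0.1) (D i) (D i)⁻¹ (mul_inv_cancel₀ (hD0 i)))
      rw [diagonal_mul_diagonal] at this
      convert this using 2
      funext k
      simp only [Function.update_apply, Finset.mem_insert, Finset.prod_insert his]
      split_ifs <;> simp_all [mul_comm]
  have := key (Finset.univ.erase i₀) (Finset.notMem_erase _ _)
  convert this using 2
  funext i
  split_ifs with h h'
  · subst h
    rw [← Finset.mul_prod_erase _ _ (Finset.mem_univ i)] at hD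
    exact eq_inv_of_mul_eq_one_left hD
  · rfl
  · simp [h] at h'

theorem exists_path (i₀ : n) (A : Matrix.SpecialLinearGroup n K) :
    ∃ M : Matrix.SpecialLinearGroup n K[X],
      Matrix.SpecialLinearGroup.map (evalRingHom (0 : K)) M = 1 ∧
      Matrix.SpecialLinearGroup.map (evalRingHom (1 : K)) M = A := by
  have : HasPath A.1 := by
    refine diagonal_transvection_induction HasPath A.1 (fun D hD => hasPath_diag i₀ D ?_)
      (fun t => hasPath_transvection t.hij t.c) (fun _ _ => hasPath_mul)
    rwa [det_diagonal, A.2] at hD
  obtain ⟨M, h1, h2, h3⟩ := this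
  exact ⟨⟨M, h1⟩, Subtype.ext h2, Subtype.ext h3⟩

end Groth.Misc8.SLPath
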