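import Groth.Prelude.Def_SekSuwa2
import Groth.Prelude.Def_AlgGrp
import Mathlib.AlgebraicGeometry.Pullbacks
import Mathlib.CategoryTheory.Limits.Constructions.Over.Connected

/-! `G_{λ,N}` is the kernel of `ψ`. -/

namespace Groth.Misc8.SekSuwaKernel

open CategoryTheory CategoryTheory.Limits AlgebraicGeometry SekSuwa
open CartesianMonoidalCategory MonObj

universe u

variable (R : Type u) [CommRing R] (lam : R) (N : ℕ) (h : DivCond lam N)

noncomputable def counitR : A R (lam ^ N) →+* R := (Bialgebra.counitAlgHom R (A R (lam ^ N))).toRingHom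

theorem isPushout :
    IsPushout (CommRingCat.ofHom (psiHom R lam N h : A R (lam ^ N) →+* A R lam))
      (CommRingCat.ofHom (counitR R lam N))
      (CommRingCat.ofHom (AK.mkHom R lam N h : A R lam →+* AK R lam N h))
      (CommRingCat.ofHom (algebraMap R (AK R lam N h))) := by
  have w : CommRingCat.ofHom (psiHom R lam N h : A R (lam ^ N) →+* A R lam) ≫
      CommRingCat.ofHom (AK.mkHom R lam N h : A R lam →+* AK R lam N h) =
      CommRingCat.ofHom (counitR R lam N) ≫ CommRingCat.ofHom (algebraMap R (AK R lam N h)) := by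
    ext z
    exact DFunLike.congr_fun (mkHom_comp_psiHom R lam N h) z
  have key : ∀ (s : PushoutCocone (CommRingCat.ofHom (psiHom R lam N h : A R (lam ^ N) →+* A R lam))
      (CommRingCat.ofHom (counitR R lam N))), ∀ z ∈ kerIdeal lam N h, s.inl.hom z = 0 := by
    intro s z hz
    obtain ⟨c, rfl⟩ := Ideal.mem_span_singleton'.mp hz
    have e := DFunLike.congr_fun (congrArg CommRingCat.Hom.hom s.condition) (A.t : A R (lam ^ N))
    simp only [CommRingCat.hom_comp, CommRingCat.hom_ofHom, RingHom.comp_apply] at e
    rw [show counitR R lam N (A.t : A R (lam ^ N)) = 0 from A.counit_t, map_zero] at e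
    rw [show (psiHom R lam N h : A R (lam ^ N) →+* A R lam) A.t = kerGen lam N h from psiHom_t R lam N h] at e
    rw [map_mul, e, mul_zero]
  refine IsPushout.of_isColimit (PushoutCocone.IsColimit.mk w
    (fun s => CommRingCat.ofHom (Ideal.Quotient.lift (kerIdeal lam N h) s.inl.hom (key s)))
    (fun s => ?_) (fun s => ?_) (fun s m hm _ => ?_))
  · ext z; rfl
  · ext r
    have e := DFunLike.congr_fun (congrArg CommRingCat.Hom.hom s.condition) (algebraMap R (A R (lam ^ N)) r)
    simp only [CommRingCat.hom_comp, CommRingCat.hom_ofHom, RingHom.comp_apply] at e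
    rw [show counitR R lam N (algebraMap R (A R (lam ^ N)) r) = r from
      AlgHom.commutes (Bialgebra.counitAlgHom R (A R (lam ^ N))) r,
      show (psiHom R lam N h : A R (lam ^ N) →+* A R lam) (algebraMap R (A R (lam ^ N)) r) =
        algebraMap R (A R lam) r from
      AlgHom.commutes (psiHom R lam N h : A R (lam ^ N) →ₐ[R] A R lam) r] at e
    exact e
  · ext z
    obtain ⟨z, rfl⟩ := Ideal.Quotient.mk_surjective z
    exact DFunLike.congr_fun (congrArg CommRingCat.Hom.hom hm) z

theorem isKernel : AlgGrp.IsKernel (incl R lam N h) (psi R lam N h) := by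
  have hu : (toUnit (GK R lam N h)).left = Spec.map (CommRingCat.ofHom (algebraMap R (AK R lam N h))) := by
    rw [← Category.comp_id (toUnit (GK R lam N h)).left]
    exact Over.w (toUnit (GK R lam N h))
  have hη : η[G R (lam ^ N)].left = Spec.map (CommRingCat.ofHom (counitR R lam N)) := by
    rw [one_spec_asOver_spec_left]
    rfl
  unfold AlgGrp.IsKernel
  refine IsPullback.of_map (Over.forget _) ?_ ?_
  · apply Over.OverMorphism.ext
    rw [Over.comp_left, Over.comp_left, hu, hη, incl, psi, specHom_left, specHom_left]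
    exact (Spec.map_comp _ _).symm.trans ((congrArg Spec.map (isPushout R lam N h).w).trans (Spec.map_comp _ _))
  · simp only [Over.forget_map, hu, hη, incl, psi, specHom_left]
    exact isPullback_SpecMap_of_isPushout _ _ _ _ (isPushout R lam N h)

end Groth.Misc8.SekSuwaKernel
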