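import Mathlib.RingTheory.AdicCompletion.Functoriality
import Mathlib.RingTheory.Spectrum.Maximal.Basic
import Mathlib.RingTheory.Localization.AtPrime.Basic
import Mathlib.RingTheory.Ideal.Quotient.Operations
import Mathlib.RingTheory.Nilpotent.Lemmas
import Mathlib.Tactic

/-! Completion of a semilocal ring along an ideal of co-height zero. -/

namespace Groth.Misc8.SemilocalCompletion

universe u

variable {R : Type u} [CommRing R]

/-- If every prime over `J` is maximal, `R ⧸ J` is the product of the localisations modulo `J`. -/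
theorem level {ι : Type*} [Finite ι] (m : ι → Ideal R) [∀ i, (m i).IsMaximal] (hm : Function.Injective m)
    (J : Ideal R) (hJ : ∀ p : Ideal R, p.IsPrime → J ≤ p → ∃ i, p = m i) :
    (∀ x : R, (∀ i, algebraMap R (Localization.AtPrime (m i)) x ∈ J.map (algebraMap R _)) → x ∈ J) ∧
    (∀ y : ∀ i, Localization.AtPrime (m i), ∃ x : R,
      ∀ i, algebraMap R (Localization.AtPrime (m i)) x - y i ∈ J.map (algebraMap R _)) := by
  classical
  constructor
  · intro x hx
    by_contra hxJ
    have hne : J.colon {x} ≠ ⊤ := fun h => hxJ (by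
      have : (1 : R) ∈ J.colon {x} := h ▸ Submodule.mem_top
      simpa [Submodule.mem_colon_singleton] using this)
    obtain ⟨M, hM, hle⟩ := Ideal.exists_le_maximal _ hne
    obtain ⟨i, rfl⟩ := hJ M hM.isPrime (le_trans (fun a ha => Submodule.mem_colon_singleton.mpr (J.mul_mem_right x ha)) hle)
    obtain ⟨⟨s, hs⟩, hsx⟩ :=
      (IsLocalization.algebraMap_mem_map_algebraMap_iff (m i).primeCompl (Localization.AtPrime (m i)) J x).mp (hx i)
        |> fun ⟨s, hs, h⟩ => (⟨⟨s, hs⟩, h⟩ : ∃ t : (m i).primeCompl, (t : R) * x ∈ J)
    exact hs (hle (Submodule.mem_colon_singleton.mpr hsx))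
  · intro y
    set K : ι → Ideal R := fun i => (J.map (algebraMap R (Localization.AtPrime (m i)))).comap (algebraMap R _) with hK
    have hJK : ∀ i, J ≤ K i := fun i => Ideal.le_comap_map
    have hKm : ∀ i (M : Ideal R), M.IsPrime → K i ≤ M → M = m i := by
      intro i M hM hle
      obtain ⟨j, rfl⟩ := hJ M hM (le_trans (hJK i) hle)
      by_contra hne
      have hnle : ¬ m i ≤ m j := fun h => hne ((Ideal.IsMaximal.eq_of_le inferInstance hM.ne_top h).symm)
      obtain ⟨a, ha, haj⟩ := Set.not_subset.mp hnle
      have hrad : algebraMap R (Localization.AtPrime (m i)) a ∈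
          (J.map (algebraMap R (Localization.AtPrime (m i)))).radical := by
        rw [Ideal.radical_eq_sInf, Ideal.mem_sInf]
        intro P hP
        have hPp : P.IsPrime := hP.2
        have hc : (P.comap (algebraMap R _)) ≤ m i := by
          have := IsLocalization.disjoint_under_iff (m i).primeCompl (Localization.AtPrime (m i)) P |>.mpr hPp.ne_top
          intro z hz
          by_contra hzm
          exact Set.disjoint_left.mp this hzm hz
        obtain ⟨j', hj'⟩ := hJ _ (Ideal.comap_isPrime _ P) (Ideal.le_comap_map.trans (Ideal.comap_mono hP.1))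
        have : P.comap (algebraMap R _) = m i := by
          rw [hj'] at hc ⊢
          exact Ideal.IsMaximal.eq_of_le inferInstance (Ideal.IsPrime.ne_top inferInstance) hc
        have ha2 : a ∈ P.comap (algebraMap R (Localization.AtPrime (m i))) := by rw [this]; exact ha
        exact ha2
      obtain ⟨k, hk⟩ := hrad
      rw [← map_pow] at hk
      exact haj (hM.mem_of_pow_mem k (hle hk))
    have hcop : Pairwise fun i j => IsCoprime (K i) (K j) := by
      intro i j hij
      rw [Ideal.isCoprime_iff_sup_eq]
      by_contra hne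
      obtain ⟨M, hM, hle⟩ := Ideal.exists_le_maximal _ hne
      exact hij (hm ((hKm i M hM.isPrime (le_sup_left.trans hle)).symm.trans
        (hKm j M hM.isPrime (le_sup_right.trans hle))))
    have hsurj : ∀ i, ∃ r : R, algebraMap R (Localization.AtPrime (m i)) r - y i ∈ J.map (algebraMap R _) := by
      intro i
      obtain ⟨r, ⟨s, hs⟩, hy⟩ := IsLocalization.exists_mk'_eq (m i).primeCompl (y i)
      have htop : K i ⊔ Ideal.span {s} = ⊤ := by
        by_contra hne
        obtain ⟨M, hM, hle⟩ := Ideal.exists_le_maximal _ hne
        have := hKm i M hM.isPrime (le_sup_left.trans hle)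
        exact hs (this ▸ le_sup_right.trans hle (Ideal.mem_span_singleton_self s))
      obtain ⟨k, hk, t, ht, hkt⟩ := Submodule.mem_sup.mp ((Ideal.eq_top_iff_one _).mp htop)
      obtain ⟨t, rfl⟩ := Ideal.mem_span_singleton'.mp ht
      refine ⟨r * t, ?_⟩
      have : algebraMap R (Localization.AtPrime (m i)) (r * t) - y i = - (algebraMap R _ k * y i) := by
        have h1 : algebraMap R (Localization.AtPrime (m i)) k + algebraMap R _ t * algebraMap R _ s = 1 := by
          rw [← map_mul, ← map_add, hkt, map_one]
        have h2 : y i * algebraMap R (Localization.AtPrime (m i)) s = algebraMap R _ r := by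
          rw [← hy]; exact IsLocalization.mk'_spec _ r ⟨s, hs⟩
        rw [map_mul, ← h2]
        linear_combination (y i) * h1
      rw [this]
      exact neg_mem (Ideal.mul_mem_right _ _ hk)
    choose r hr using hsurj
    obtain ⟨x, hx⟩ := Ideal.exists_forall_sub_mem_ideal hcop r
    refine ⟨x, fun i => ?_⟩
    have := Ideal.mem_comap.mp (hx i)
    rw [map_sub] at this
    simpa using add_mem this (hr i)

theorem bijective (hR : Finite (MaximalSpectrum R)) (I : Ideal R)
    (hI : ∀ (p : Ideal R), p.IsPrime → I ≤ p → p.IsMaximal) :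
    Function.Bijective (LinearMap.pi (fun m : {m : MaximalSpectrum R // I ≤ m.asIdeal} =>
      AdicCompletion.map I (Algebra.linearMap R (Localization.AtPrime m.1.asIdeal)))) := by
  classical
  let ι := {m : MaximalSpectrum R // I ≤ m.asIdeal}
  have := hR
  have lvl : ∀ n : ℕ, Function.Bijective (fun (x : R ⧸ (I ^ n • ⊤ : Submodule R R)) (m : ι) =>
      (Algebra.linearMap R (Localization.AtPrime m.1.asIdeal)).reduceModIdeal (I ^ n) x) := by
    intro n
    obtain ⟨h1, h2⟩ := level (fun m : ι => m.1.asIdeal)
      (fun a b h => Subtype.ext (MaximalSpectrum.ext h)) (I ^ n) (fun p hp hle => by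
        rcases Nat.eq_zero_or_pos n with rfl | hn
        · exact absurd (top_le_iff.mp (by simpa using hle)) hp.ne_top
        have hle' : I ≤ p := fun a ha => hp.mem_of_pow_mem n (hle (Ideal.pow_mem_pow ha n))
        exact ⟨⟨⟨p, hI p hp hle'⟩, hle'⟩, rfl⟩)
    have htop : (I ^ n • ⊤ : Submodule R R) = I ^ n := by simp
    have hmem : ∀ (m : ι) (z : Localization.AtPrime m.1.asIdeal),
        z ∈ (I ^ n • ⊤ : Submodule R (Localization.AtPrime m.1.asIdeal)) ↔
          z ∈ (I ^ n).map (algebraMap R _) := fun m z => by
      rw [Ideal.smul_top_eq_map]; rfl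
    constructor
    · intro a b h
      obtain ⟨a, rfl⟩ := Submodule.Quotient.mk_surjective _ a
      obtain ⟨b, rfl⟩ := Submodule.Quotient.mk_surjective _ b
      rw [Submodule.Quotient.eq, htop]
      refine h1 _ fun m => ?_
      have := congrFun h m
      simp only [LinearMap.reduceModIdeal_apply, Submodule.Quotient.eq, Algebra.linearMap_apply] at this
      rw [map_sub]
      exact (hmem m _).mp this
    · intro y
      choose z hz using fun m => Submodule.Quotient.mk_surjective _ (y m)
      obtain ⟨x, hx⟩ := h2 z
      refine ⟨Submodule.Quotient.mk x, funext fun m => ?_⟩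
      rw [← hz m]
      simp only [LinearMap.reduceModIdeal_apply, Submodule.Quotient.eq, Algebra.linearMap_apply]
      exact (hmem m _).mpr (hx m)
  constructor
  · intro a b h
    refine AdicCompletion.ext fun n => (lvl n).1 (funext fun m => ?_)
    have := congrArg (fun c => c.val n) (congrFun h m)
    simpa using this
  · intro y
    choose x hx using fun n => (lvl n).2 fun m => (y m).val n
    refine ⟨⟨x, fun {a b} hab => ?_⟩, funext fun m => AdicCompletion.ext fun n => congrFun (hx n) m⟩
    refine (lvl a).1 (funext fun m => ?_)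
    have h1 := congrFun (hx a) m
    have h2 := congrFun (hx b) m
    simp only at h1 h2 ⊢
    rw [h1, ← (y m).property hab, ← h2]
    obtain ⟨z, hz⟩ := Submodule.Quotient.mk_surjective _ (x b)
    rw [← hz]
    rfl

end Groth.Misc8.SemilocalCompletion
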