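import Mathlib.RingTheory.Valuation.ValuationRing
import Mathlib.RingTheory.KrullDimension.Basic
import Mathlib.RingTheory.Spectrum.Maximal.Basic
import Mathlib.RingTheory.Localization.AtPrime.Basic
import Mathlib.RingTheory.Localization.Away.Basic
import Mathlib.RingTheory.LocalRing.ResidueField.Fiber
import Mathlib.Topology.NoetherianSpace
import Mathlib.RingTheory.Spectrum.Prime.Noetherian
import Mathlib.RingTheory.FiniteStability
import Mathlib.Tactic

/-! Semilocal Prüfer domains of finite dimension have finite spectrum. -/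

namespace Groth.Misc8.SemilocalPrufer

universe u

open scoped TensorProduct

variable {R : Type u} [CommRing R] [IsDomain R]

theorem le_total_below (hR : ∀ (p : Ideal R) [p.IsPrime], ValuationRing (Localization.AtPrime p))
    (n : Ideal R) [n.IsPrime] {p q : Ideal R} [p.IsPrime] [q.IsPrime] (hp : p ≤ n) (hq : q ≤ n) :
    p ≤ q ∨ q ≤ p := by
  have := hR n
  have key : ∀ r : Ideal R, r.IsPrime → r ≤ n →
      (r.map (algebraMap R (Localization.AtPrime n))).comap (algebraMap R _) = r := fun r hr h =>
    IsLocalization.under_map_of_isPrime_disjoint n.primeCompl _ hr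
      (Set.disjoint_left.mpr fun x hx hxr => hx (h hxr))
  rcases (inferInstance : @Std.Total (Ideal (Localization.AtPrime n)) (· ≤ ·)).total (p.map (algebraMap R (Localization.AtPrime n)))
    (q.map (algebraMap R (Localization.AtPrime n))) with h | h
  · exact Or.inl ((key p ‹_› hp).symm.le.trans ((Ideal.comap_mono h).trans (key q ‹_› hq).le))
  · exact Or.inr ((key q ‹_› hq).symm.le.trans ((Ideal.comap_mono h).trans (key p ‹_› hp).le))

theorem finite_spec (hR : ∀ (p : Ideal R) [p.IsPrime], ValuationRing (Localization.AtPrime p))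
    (hfin : Finite (MaximalSpectrum R)) (hdim : ringKrullDim R < ⊤) : Finite (PrimeSpectrum R) := by
  classical
  obtain ⟨N, hN⟩ : ∃ N : ℕ, ∀ p : LTSeries (PrimeSpectrum R), p.length ≤ N := by
    by_contra hc
    push Not at hc
    refine hdim.ne ?_
    refine eq_top_iff.mpr ?_
    by_contra hlt
    obtain ⟨N, hN⟩ : ∃ N : ℕ, ringKrullDim R ≤ N := by
      match h : ringKrullDim R with
      | ⊥ => exact ⟨0, bot_le⟩
      | (⊤ : ℕ∞) => exact absurd (h.symm ▸ le_rfl) hlt
      | ((k : ℕ) : ℕ∞) => exact ⟨k, le_rfl⟩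
    obtain ⟨p, hp⟩ := hc N
    have := (Order.LTSeries.length_le_krullDim p).trans hN
    exact absurd (show p.length ≤ N by exact_mod_cast this) (not_le.mpr hp)
  have hchain : ∀ n : MaximalSpectrum R, {p : PrimeSpectrum R | p.asIdeal ≤ n.asIdeal}.Finite := by
    intro n
    by_contra hinf
    obtain ⟨s, hs, hcard⟩ := Set.Infinite.exists_subset_card_eq hinf (N + 2)
    let L : LinearOrder {x // x ∈ s} :=
      { (inferInstance : PartialOrder {x // x ∈ s}) with
        le_total := fun a b => le_total_below hR n.asIdeal (hs a.2) (hs b.2)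
        toDecidableLE := Classical.decRel _ }
    let e := Fintype.orderIsoFinOfCardEq (α := {x // x ∈ s}) (k := N + 2) (by rw [Fintype.card_coe]; exact hcard)
    let t : LTSeries (PrimeSpectrum R) :=
      { length := N + 1
        toFun := fun i => ((e i : {x // x ∈ s}) : PrimeSpectrum R)
        step := fun i => e.strictMono (Fin.castSucc_lt_succ) }
    have := hN t
    simp [t] at this
  refine Set.finite_univ_iff.mp (((Set.finite_univ (α := MaximalSpectrum R)).biUnion
    (fun n _ => hchain n)).subset fun p _ => ?_)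
  obtain ⟨M, hM, hle⟩ := Ideal.exists_le_maximal p.asIdeal p.isPrime.ne_top
  exact Set.mem_biUnion (Set.mem_univ (⟨M, hM⟩ : MaximalSpectrum R)) hle

theorem exists_a_b [Finite (PrimeSpectrum R)] (m : Ideal R) [m.IsMaximal] :
    (∃ a : R, ∀ (p : Ideal R), p.IsPrime → (a ∈ p ↔ p = m)) ∧
      ∃ b : R, b ∉ m ∧ IsLocalization.AtPrime (Localization.Away b) m := by
  classical
  have := Fintype.ofFinite (PrimeSpectrum R)
  constructor
  · let others := (Finset.univ : Finset (PrimeSpectrum R)).filter (fun p => p.asIdeal ≠ m)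
    have h : ¬ ((m : Set R) ⊆ ⋃ p ∈ (others : Set (PrimeSpectrum R)), (p.asIdeal : Set R)) := by
      rw [Ideal.subset_union_prime ⟨m, inferInstance⟩ ⟨m, inferInstance⟩ (fun p _ _ _ => p.isPrime)]
      rintro ⟨p, hp, hle⟩
      exact (Finset.mem_filter.mp hp).2 (Ideal.IsMaximal.eq_of_le inferInstance p.isPrime.ne_top hle).symm
    obtain ⟨a, ha, ha'⟩ := Set.not_subset.mp h
    refine ⟨a, fun p hp => ⟨fun hap => ?_, fun e => e ▸ ha⟩⟩
    by_contra hne
    exact ha' (Set.mem_biUnion (x := ⟨p, hp⟩) (by simpa [others] using hne) hap)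
  · let out := (Finset.univ : Finset (PrimeSpectrum R)).filter (fun p => ¬ p.asIdeal ≤ m)
    have h : ∀ p ∈ out, ∃ x, x ∈ p.asIdeal ∧ x ∉ m := fun p hp =>
      Set.not_subset.mp (Finset.mem_filter.mp hp).2
    choose x hx hxm using h
    set b := ∏ p ∈ out.attach, x p.1 p.2 with hb
    have hbm : b ∉ m := by
      intro hmem
      obtain ⟨p, _, hp⟩ := (Ideal.IsPrime.prod_mem_iff (hp := inferInstance)).mp hmem
      exact hxm p.1 p.2 hp
    refine ⟨b, hbm, ?_⟩
    have hle : Submonoid.powers b ≤ m.primeCompl := by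
      rintro _ ⟨k, rfl⟩
      exact fun hk => hbm ((inferInstance : m.IsPrime).mem_of_pow_mem k hk)
    refine IsLocalization.of_le (Submonoid.powers b) _ hle fun s hs => ?_
    have hrad : b ∈ (Ideal.span {s}).radical := by
      rw [Ideal.radical_eq_sInf, Ideal.mem_sInf]
      intro P hP
      have hP' : P.IsPrime := hP.2
      have hnot : ¬ P ≤ m := fun h => hs (h (hP.1 (Ideal.mem_span_singleton_self s)))
      rw [hb]
      have hmem : (⟨P, hP'⟩ : PrimeSpectrum R) ∈ out := by simpa [out] using hnot
      exact Ideal.mem_of_dvd _ (Finset.dvd_prod_of_mem _ (Finset.mem_attach out ⟨_, hmem⟩)) (hx _ hmem)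
    obtain ⟨k, hk⟩ := hrad
    obtain ⟨c, hc⟩ := Ideal.mem_span_singleton'.mp hk
    have hu : IsUnit (algebraMap R (Localization.Away b) (c * s)) := by
      rw [hc]; exact IsLocalization.map_units _ (⟨b ^ k, k, rfl⟩ : Submonoid.powers b)
    rw [map_mul] at hu
    exact isUnit_of_mul_isUnit_right hu

theorem noetherianSpace [Finite (PrimeSpectrum R)] (S : Type u) [CommRing S] [Algebra R S]
    [Algebra.FiniteType R S] : TopologicalSpace.NoetherianSpace (PrimeSpectrum S) := by
  let f : PrimeSpectrum R → Set (PrimeSpectrum S) := fun p => (PrimeSpectrum.comap (algebraMap R S)) ⁻¹' {p}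
  have : ∀ p, TopologicalSpace.NoetherianSpace (f p) := fun p => by
    have : Algebra.FiniteType p.asIdeal.ResidueField (p.asIdeal.Fiber S) :=
      inferInstanceAs (Algebra.FiniteType _ (p.asIdeal.ResidueField ⊗[R] S))
    have : IsNoetherianRing (p.asIdeal.Fiber S) := Algebra.FiniteType.isNoetherianRing p.asIdeal.ResidueField _
    exact TopologicalSpace.noetherianSpace_of_surjective (PrimeSpectrum.preimageHomeomorphFiber R S p).symm
      (PrimeSpectrum.preimageHomeomorphFiber R S p).symm.continuous
      (PrimeSpectrum.preimageHomeomorphFiber R S p).symm.surjective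
  have h := TopologicalSpace.NoetherianSpace.iUnion f
  rw [show (⋃ p, f p) = Set.univ from Set.eq_univ_of_forall fun x => Set.mem_iUnion.mpr ⟨_, rfl⟩] at h
  exact TopologicalSpace.noetherian_univ_iff.mp h

end Groth.Misc8.SemilocalPrufer
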