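import Groth.Prelude.Def_W4c2movlemaddchowShuffle
import Mathlib.GroupTheory.Perm.Sign
import Mathlib.Algebra.MonoidAlgebra.Defs
import Mathlib.Algebra.BigOperators.Group.Finset.Sigma
import Mathlib.Data.Fintype.Card
import Mathlib.Data.Fin.Tuple.Sort
import Mathlib.Tactic

/-! Composition of shuffles. -/

namespace Groth.Misc8.Shuffle

open Equiv W4c2movlemaddchow Finset

variable {n : ℕ}

/-- two monotone injective maps with the same range are equal -/
theorem eq_of_range_eq {m : ℕ} {f g : Fin m → Fin n} (hf : StrictMono f) (hg : StrictMono g)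
    (h : Set.range f = Set.range g) : f = g :=
  (hf.range_inj hg).mp h

theorem strictMono_of {m : ℕ} {f : Fin m → Fin n} (h : Monotone f) (hi : Function.Injective f) : StrictMono f :=
  h.strictMono_of_injective hi

variable (r s t : ℕ)

@[simp] theorem extRight_cast (σ : Perm (Fin (r + s))) (i : Fin (r + s)) :
    extRight (r + s) t σ (Fin.castAdd t i) = Fin.castAdd t (σ i) := by
  simp [extRight, Equiv.permCongr_apply]

@[simp] theorem extRight_nat (σ : Perm (Fin (r + s))) (l : Fin t) :
    extRight (r + s) t σ (Fin.natAdd (r + s) l) = Fin.natAdd (r + s) l := by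
  simp [extRight, Equiv.permCongr_apply]

def inl' (i : Fin r) : Fin (r + s + t) := Fin.castAdd t (Fin.castAdd s i)
def inr' (j : Fin (s + t)) : Fin (r + s + t) := (finCongr (Nat.add_assoc r s t)).symm (Fin.natAdd r j)

@[simp] theorem extLeft_inl (σ : Perm (Fin (s + t))) (i : Fin r) :
    extLeft r s t σ (inl' r s t i) = inl' r s t i := by
  have h : (finCongr (Nat.add_assoc r s t)) (inl' r s t i) = Fin.castAdd (s + t) i := by
    apply Fin.ext; simp [inl']
  rw [extLeft, Equiv.permCongr_apply, Equiv.symm_symm, h]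
  simp [Equiv.permCongr_apply]
  apply Fin.ext; simp [inl']

@[simp] theorem extLeft_inr (σ : Perm (Fin (s + t))) (j : Fin (s + t)) :
    extLeft r s t σ (inr' r s t j) = inr' r s t (σ j) := by
  rw [extLeft, Equiv.permCongr_apply, Equiv.symm_symm, inr', Equiv.apply_symm_apply]
  simp [Equiv.permCongr_apply, inr']

theorem inr'_cast (j : Fin s) : inr' r s t (Fin.castAdd t j) = Fin.castAdd t (Fin.natAdd r j) := by
  apply Fin.ext; simp [inr']

theorem inr'_nat (l : Fin t) : inr' r s t (Fin.natAdd s l) = Fin.natAdd (r + s) l := by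
  apply Fin.ext; simp [inr', Nat.add_assoc]

theorem isShuffle₂_congr (τ : Perm (Fin (r + s + t))) :
    IsShuffle₂ r (s + t) ((finCongr (Nat.add_assoc r s t)).permCongr τ) ↔
      Monotone (fun i => τ (inl' r s t i)) ∧ Monotone (fun j => τ (inr' r s t j)) := by
  have h1 : ∀ i : Fin r, (finCongr (Nat.add_assoc r s t)).symm (Fin.castAdd (s + t) i) = inl' r s t i := by
    intro i; apply Fin.ext; simp [inl']
  unfold IsShuffle₂ Monotone
  simp only [Equiv.permCongr_apply, h1, Fin.le_def, finCongr_apply, Fin.val_cast]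
  rfl

theorem card_right {m : ℕ} {ν ν' : Perm (Fin m)} {α : Type*} {f : α → Fin m} (h : ∀ a, ν (f a) = ν' (f a))
    {b : Fin m} (hb : b ∈ Set.range f) : ν b = ν' b := by
  obtain ⟨a, rfl⟩ := hb; exact h a

theorem eq_id_of_strictMono {m : ℕ} {f : Fin m → Fin m} (h : StrictMono f) : f = id :=
  eq_of_range_eq h strictMono_id (by rw [Set.range_id]; exact (Finite.injective_iff_surjective.mp h.injective).range_eq)

theorem bijOn_right :
    Set.BijOn (fun p : Perm (Fin (r + s + t)) × Perm (Fin (r + s)) => p.1 * extRight (r + s) t p.2)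
      ({τ | IsShuffle₂ (r + s) t τ} ×ˢ {σ | IsShuffle₂ r s σ}) {ν | IsShuffle₃ r s t ν} := by
  refine ⟨?_, ?_, ?_⟩
  · rintro ⟨τ, σ⟩ ⟨⟨hτ1, hτ2⟩, hσ1, hσ2⟩
    refine ⟨?_, ?_, ?_⟩ <;> simp only [Perm.mul_apply, extRight_cast, extRight_nat]
    · exact hτ1.comp hσ1
    · exact hτ1.comp hσ2
    · exact hτ2
  · rintro ⟨τ, σ⟩ ⟨⟨hτ1, hτ2⟩, hσ⟩ ⟨τ', σ'⟩ ⟨⟨hτ1', hτ2'⟩, hσ'⟩ he
    simp only at he
    have hc : ∀ i, τ (Fin.castAdd t (σ i)) = τ' (Fin.castAdd t (σ' i)) := fun i => by
      simpa using DFunLike.congr_fun he (Fin.castAdd t i)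
    have hn : ∀ l, τ (Fin.natAdd (r + s) l) = τ' (Fin.natAdd (r + s) l) := fun l => by
      simpa using DFunLike.congr_fun he (Fin.natAdd (r + s) l)
    have hr : Set.range (fun i => τ (Fin.castAdd t i)) = Set.range (fun i => τ' (Fin.castAdd t i)) := by
      rw [← σ.surjective.range_comp (fun i => τ (Fin.castAdd t i)), ← σ'.surjective.range_comp (fun i => τ' (Fin.castAdd t i))]
      congr 1; funext i; exact hc i
    have hf := eq_of_range_eq (strictMono_of hτ1 (τ.injective.comp (Fin.castAdd_injective _ _)))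
      (strictMono_of hτ1' (τ'.injective.comp (Fin.castAdd_injective _ _))) hr
    have hτ : τ = τ' := by
      refine Equiv.ext fun i => ?_
      induction i using Fin.addCases with
      | left i => exact congrFun hf i
      | right l => exact hn l
    subst hτ
    refine Prod.ext rfl (Equiv.ext fun i => ?_)
    exact Fin.castAdd_injective _ _ (τ.injective (hc i))
  · intro ν ⟨h1, h2, h3⟩
    let g : Fin (r + s) → Fin (r + s + t) := fun i => ν (Fin.castAdd t i)
    have hg : Function.Injective g := ν.injective.comp (Fin.castAdd_injective _ _)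
    let π : Perm (Fin (r + s)) := Tuple.sort g
    have hπ : Monotone (g ∘ π) := Tuple.monotone_sort g
    refine ⟨(ν * extRight (r + s) t π, π⁻¹), ⟨⟨?_, ?_⟩, ?_, ?_⟩, ?_⟩
    · simpa [g, Function.comp_def] using hπ
    · simpa using h3
    all_goals try
      (intro i j hij
       by_contra hlt
       rw [not_le] at hlt
       have := (strictMono_of hπ (hg.comp π.injective)) hlt
       simp [g, Function.comp_def] at this)
    · exact absurd this (not_lt.mpr (h1 hij))
    · exact absurd this (not_lt.mpr (h2 hij))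
    · refine Equiv.ext fun i => ?_
      induction i using Fin.addCases with
      | left i => simp
      | right l => simp

theorem bijOn_left :
    Set.BijOn (fun p : Perm (Fin (r + s + t)) × Perm (Fin (s + t)) => p.1 * extLeft r s t p.2)
      ({τ | IsShuffle₂ r (s + t) ((finCongr (Nat.add_assoc r s t)).permCongr τ)} ×ˢ {σ | IsShuffle₂ s t σ})
      {ν | IsShuffle₃ r s t ν} := by
  have hcover : ∀ x : Fin (r + s + t), (∃ i, inl' r s t i = x) ∨ ∃ j, inr' r s t j = x := by
    intro x
    induction x using Fin.addCases with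
    | left i =>
      induction i using Fin.addCases with
      | left i => exact Or.inl ⟨i, rfl⟩
      | right j => exact Or.inr ⟨_, inr'_cast r s t j⟩
    | right l => exact Or.inr ⟨_, inr'_nat r s t l⟩
  have hinj : Function.Injective (inr' r s t) := (Equiv.injective _).comp (Fin.natAdd_injective _ _)
  refine ⟨?_, ?_, ?_⟩
  · rintro ⟨τ, σ⟩ ⟨hτ, hσ1, hσ2⟩
    obtain ⟨hτ1, hτ2⟩ := (isShuffle₂_congr r s t τ).mp hτ
    refine ⟨?_, ?_, ?_⟩ <;> simp only [Perm.mul_apply]
    · simpa [inl'] using (show Monotone fun i => τ (extLeft r s t σ (inl' r s t i)) by simpa using hτ1)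
    · simp only [← inr'_cast, extLeft_inr]; exact hτ2.comp hσ1
    · simp only [← inr'_nat, extLeft_inr]; exact hτ2.comp hσ2
  · rintro ⟨τ, σ⟩ ⟨hτ, hσ⟩ ⟨τ', σ'⟩ ⟨hτ', hσ'⟩ he
    obtain ⟨-, hτ2⟩ := (isShuffle₂_congr r s t τ).mp hτ
    obtain ⟨-, hτ2'⟩ := (isShuffle₂_congr r s t τ').mp hτ'
    simp only at he
    have hc : ∀ i, τ (inr' r s t (σ i)) = τ' (inr' r s t (σ' i)) := fun i => by
      simpa using DFunLike.congr_fun he (inr' r s t i)
    have hn : ∀ l, τ (inl' r s t l) = τ' (inl' r s t l) := fun l => by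
      simpa using DFunLike.congr_fun he (inl' r s t l)
    have hr : Set.range (fun i => τ (inr' r s t i)) = Set.range (fun i => τ' (inr' r s t i)) := by
      rw [← σ.surjective.range_comp (fun i => τ (inr' r s t i)), ← σ'.surjective.range_comp (fun i => τ' (inr' r s t i))]
      congr 1; funext i; exact hc i
    have hf := eq_of_range_eq (strictMono_of hτ2 (τ.injective.comp hinj)) (strictMono_of hτ2' (τ'.injective.comp hinj)) hr
    have hτ : τ = τ' := by
      refine Equiv.ext fun x => ?_
      rcases hcover x with ⟨i, rfl⟩ | ⟨j, rfl⟩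
      · exact hn i
      · exact congrFun hf j
    subst hτ
    exact Prod.ext rfl (Equiv.ext fun i => hinj (τ.injective (hc i)))
  · intro ν ⟨h1, h2, h3⟩
    let g : Fin (s + t) → Fin (r + s + t) := fun i => ν (inr' r s t i)
    have hg : Function.Injective g := ν.injective.comp hinj
    let π : Perm (Fin (s + t)) := Tuple.sort g
    have hπ : Monotone (g ∘ π) := Tuple.monotone_sort g
    refine ⟨(ν * extLeft r s t π, π⁻¹), ⟨(isShuffle₂_congr r s t _).mpr ⟨?_, ?_⟩, ?_, ?_⟩, ?_⟩
    · simp only [Perm.mul_apply, extLeft_inl]; exact h1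
    · simp only [Perm.mul_apply, extLeft_inr]; exact hπ
    all_goals try
      (intro i j hij
       by_contra hlt
       rw [not_le] at hlt
       have := (strictMono_of hπ (hg.comp π.injective)) hlt
       simp [g, Function.comp_def, inr'_cast, inr'_nat] at this)
    · exact absurd this (not_lt.mpr (h2 hij))
    · exact absurd this (not_lt.mpr (h3 hij))
    · refine Equiv.ext fun x => ?_
      rcases hcover x with ⟨i, rfl⟩ | ⟨j, rfl⟩ <;> simp

theorem sign_extRight (σ : Perm (Fin (r + s))) : Perm.sign (extRight (r + s) t σ) = Perm.sign σ := by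
  simp [extRight, Perm.sign_permCongr, Perm.sign_sumCongr]

theorem sign_extLeft (σ : Perm (Fin (s + t))) : Perm.sign (extLeft r s t σ) = Perm.sign σ := by
  simp [extLeft, Perm.sign_permCongr, Perm.sign_sumCongr]

theorem sum_eq {α : Type*} [Fintype α] [DecidableEq α] {m : ℕ} (P : Perm (Fin m) → Prop) [DecidablePred P]
    (Q : Perm (Fin m) → Prop) [DecidablePred Q] (S : α → Prop) [DecidablePred S] (ext : α → Perm (Fin m))
    (sg : α → ℤˣ) (hsg : ∀ a, Perm.sign (ext a) = sg a)
    (hb : Set.BijOn (fun p : Perm (Fin m) × α => p.1 * ext p.2) ({x | Q x} ×ˢ {a | S a}) {ν | P ν}) :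
    (∑ ν ∈ univ.filter P, MonoidAlgebra.single ν (((Perm.sign ν : ℤˣ) : ℤ)) : MonoidAlgebra ℤ (Perm (Fin m))) =
      ∑ τ ∈ univ.filter Q, ∑ a ∈ univ.filter S,
        MonoidAlgebra.single (τ * ext a) (((Perm.sign τ : ℤˣ) : ℤ) * ((sg a : ℤˣ) : ℤ)) := by
  rw [← Finset.sum_product']
  symm
  refine Finset.sum_bij (fun p _ => p.1 * ext p.2) ?_ ?_ ?_ ?_
  · intro p hp
    simp only [mem_product, mem_filter, mem_univ, true_and] at hp ⊢
    exact hb.mapsTo ⟨hp.1, hp.2⟩
  · intro p hp q hq he
    simp only [mem_product, mem_filter, mem_univ, true_and] at hp hq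
    exact hb.injOn ⟨hp.1, hp.2⟩ ⟨hq.1, hq.2⟩ he
  · intro ν hν
    simp only [mem_filter, mem_univ, true_and] at hν
    obtain ⟨p, ⟨h1, h2⟩, hp⟩ := hb.surjOn hν
    exact ⟨p, by simp [show Q p.1 from h1, show S p.2 from h2], hp⟩
  · intro p _
    simp [Perm.sign_mul, hsg]

end Groth.Misc8.Shuffle
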