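import Mathlib.RingTheory.Smooth.Field
import Mathlib.RingTheory.Smooth.Locus
import Mathlib.RingTheory.FiniteStability
import Mathlib.RingTheory.Etale.Basic
import Mathlib.FieldTheory.Perfect
import Mathlib.RingTheory.EssentialFiniteness
import Mathlib.Algebra.CharP.Subring
import Mathlib.Tactic

/-! Smooth models of finitely generated fields. -/

set_option autoImplicit false

namespace Groth.Misc8.SmoothModel

universe u v

variable (R : Type v) [CommRing R] [IsNoetherianRing R] {K : Type u} [Field K] [Algebra R K] (s : Finset K)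
  (hs : Subfield.closure (↑s : Set K) = ⊤)

omit [IsNoetherianRing R] in
include hs in
theorem isFractionRing_adjoin (A : Subalgebra R K) (hA : (↑s : Set K) ⊆ A) : IsFractionRing A K := by
  refine IsFractionRing.of_field _ _ fun z => ?_
  obtain ⟨y, hy, w, hw, rfl⟩ := Subfield.mem_closure_iff.mp (hs.symm ▸ Subfield.mem_top z)
  have h : ∀ x ∈ Subring.closure (↑s : Set K), x ∈ A := fun x hx =>
    (Subring.closure_le (t := A.toSubring)).mpr hA hx
  exact ⟨⟨y, h y hy⟩, ⟨w, h w hw⟩, rfl⟩

omit [IsNoetherianRing R] in
include hs in
theorem essFiniteType : Algebra.EssFiniteType R K := by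
  let A := Algebra.adjoin R (↑s : Set K)
  have : IsFractionRing A K := isFractionRing_adjoin R s hs A Algebra.subset_adjoin
  have : Algebra.FiniteType R A := (Subalgebra.fg_iff_finiteType _).mp (Subalgebra.fg_adjoin_finset s)
  have : Algebra.EssFiniteType A K := Algebra.EssFiniteType.of_isLocalization K (nonZeroDivisors A)
  exact Algebra.EssFiniteType.comp R A K

include hs in
theorem exists_smooth_model [Algebra.FormallySmooth R K] :
    ∃ A : Subalgebra R K, Algebra.FiniteType R A ∧ Algebra.Smooth R A ∧ IsFractionRing A K := by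
  let A0 := Algebra.adjoin R (↑s : Set K)
  have : IsFractionRing A0 K := isFractionRing_adjoin R s hs A0 Algebra.subset_adjoin
  have : Algebra.FiniteType R A0 := (Subalgebra.fg_iff_finiteType _).mp (Subalgebra.fg_adjoin_finset s)
  have : Algebra.FinitePresentation R A0 := Algebra.FinitePresentation.of_finiteType.mp inferInstance
  have : (⊥ : Ideal A0).IsPrime := Ideal.isPrime_bot
  have hloc : IsLocalization.AtPrime K (⊥ : Ideal A0) := by
    have h : (⊥ : Ideal A0).primeCompl = nonZeroDivisors A0 := by
      ext x; simp [Ideal.primeCompl, mem_nonZeroDivisors_iff_ne_zero]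
    unfold IsLocalization.AtPrime
    rw [h]; exact ‹IsFractionRing A0 K›
  have : Algebra.IsSmoothAt R (⊥ : Ideal A0) := Algebra.FormallySmooth.of_equiv
    ((IsLocalization.algEquiv (⊥ : Ideal A0).primeCompl K (Localization.AtPrime (⊥ : Ideal A0))).restrictScalars R)
  obtain ⟨g, hg, hsm⟩ := Algebra.IsSmoothAt.exists_notMem_smooth R (⊥ : Ideal A0)
  have hg0 : (g : K) ≠ 0 := fun h => hg (Ideal.mem_bot.mpr (Subtype.ext h))
  let φ : Localization.Away g →ₐ[R] K :=
    IsLocalization.liftAlgHom (M := Submonoid.powers g) (f := A0.val) fun y => by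
      obtain ⟨_, n, rfl⟩ := y
      exact IsUnit.mk0 _ (by simpa using pow_ne_zero n hg0)
  have hφ : Function.Injective φ := by
    have h : Function.Injective (IsLocalization.lift (M := Submonoid.powers g) (S := Localization.Away g)
        (g := A0.val.toRingHom) fun y => by
          obtain ⟨_, n, rfl⟩ := y
          exact IsUnit.mk0 _ (by simpa using pow_ne_zero n hg0)) := by
      rw [IsLocalization.lift_injective_iff]
      intro x y
      constructor
      · intro h
        obtain ⟨c, hc⟩ := (IsLocalization.eq_iff_exists (Submonoid.powers g) _).mp h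
        obtain ⟨_, n, rfl⟩ := c
        have := congrArg Subtype.val hc
        exact mul_left_cancel₀ (by simpa using pow_ne_zero n hg0) this
      · intro h
        exact congrArg _ (Subtype.ext h)
    exact h
  let e : Localization.Away g ≃ₐ[R] φ.range := AlgEquiv.ofInjective φ hφ
  have : Algebra.Smooth R φ.range :=
    ⟨Algebra.FormallySmooth.of_equiv e, Algebra.FinitePresentation.equiv e⟩
  refine ⟨φ.range, inferInstance, this, isFractionRing_adjoin R s hs _ fun x hx => ?_⟩
  exact ⟨algebraMap A0 _ ⟨x, Algebra.subset_adjoin hx⟩, IsLocalization.lift_eq _ _⟩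

end Groth.Misc8.SmoothModel
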