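import Mathlib
import Groth.Prelude.Def_GLinSh
import Groth.Prelude.Def_W4bk4git07Quot

/-!
# Finite stabilisers over an algebraically closed field, through points
-/

set_option autoImplicit false
set_option backward.isDefEq.respectTransparency false
set_option backward.isDefEq.respectTransparency.types false

universe u

open CategoryTheory MonoidalCategory CartesianMonoidalCategory MonObj AlgebraicGeometry

namespace Groth.Misc8.StabFinite

variable {Ω : Type u} [Field Ω] [IsAlgClosed Ω]

/-- A scheme locally of finite type over an algebraically closed field is finite iff it has finitely many points. -/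
theorem isFinite_iff_finite_sections {Z : Scheme.{u}} (f : Z ⟶ Spec (CommRingCat.of Ω)) [LocallyOfFiniteType f] :
    IsFinite f ↔ Finite {p : Spec (CommRingCat.of Ω) ⟶ Z // p ≫ f = 𝟙 _} := by
  constructor
  · intro h
    have : Finite Z := by
      have := f.finite_preimage_singleton (IsLocalRing.closedPoint Ω)
      rw [show (f ⁻¹' {IsLocalRing.closedPoint Ω} : Set Z) = Set.univ from
        Set.eq_univ_of_forall fun z => Subsingleton.elim _ _] at this
      exact Set.finite_univ_iff.1 this
    exact Finite.of_equiv _ (pointEquivClosedPoint f).symm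
  · intro h
    have : JacobsonSpace Z := LocallyOfFiniteType.jacobsonSpace f
    have hfin : (closedPoints Z).Finite :=
      Set.finite_coe_iff.1 (Finite.of_equiv _ (pointEquivClosedPoint f))
    have huniv : closedPoints Z = Set.univ := by
      rw [← closure_closedPoints (X := Z)]
      exact (IsClosed.closure_eq (by
        rw [← Set.biUnion_of_singleton (closedPoints Z)]
        exact hfin.isClosed_biUnion fun z hz => hz)).symm
    have : Finite Z := Set.finite_univ_iff.1 (huniv ▸ hfin)
    have : LocallyQuasiFinite f := .of_finite_preimage_singleton f fun x => Set.toFinite _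
    have : QuasiCompact f := (quasiCompact_iff_compactSpace (f := f)).2 inferInstance
    exact IsFinite.of_locallyQuasiFinite f

/-- A point of the target in the image lifts to a point of the source. -/
theorem exists_lift {T : Scheme.{u}} (e : T ≅ Spec (CommRingCat.of Ω)) {A B : Scheme.{u}} (v : A ⟶ B)
    [LocallyOfFiniteType v] (p : T ⟶ B) (h : ∀ t : T, p t ∈ Set.range v) :
    ∃ l : T ⟶ A, l ≫ v = p := by
  let F := Limits.pullback.snd v p ≫ e.hom
  have : LocallyOfFiniteType F := inferInstance
  have : JacobsonSpace ↥(Limits.pullback v p) := LocallyOfFiniteType.jacobsonSpace F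
  obtain ⟨a, ha⟩ := h (e.inv (IsLocalRing.closedPoint Ω))
  obtain ⟨z, -, -⟩ := Scheme.Pullback.exists_preimage_pullback (f := v) (g := p) a _ ha
  obtain ⟨z₀, hz₀⟩ : (closedPoints ↥(Limits.pullback v p)).Nonempty := by
    have h1 := closure_closedPoints (X := ↥(Limits.pullback v p))
    by_contra hne
    rw [Set.not_nonempty_iff_eq_empty] at hne
    rw [hne, closure_empty] at h1
    exact (h1.ge (Set.mem_univ z) : z ∈ (∅ : Set _))
  refine ⟨e.hom ≫ pointOfClosedPoint F z₀ hz₀ ≫ Limits.pullback.fst v p, ?_⟩
  have h2 : pointOfClosedPoint F z₀ hz₀ ≫ Limits.pullback.snd v p = e.inv := by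
    rw [← cancel_mono e.hom, Category.assoc, Iso.inv_hom_id]
    exact pointOfClosedPoint_comp F z₀ hz₀
  rw [Category.assoc, Category.assoc, Limits.pullback.condition, reassoc_of% h2, Iso.hom_inv_id_assoc]

variable {S : Scheme.{u}} {T : Over S}

/-- Points of a scheme over the base lift through a surjection. -/
theorem exists_point_lift (e : T.left ≅ Spec (CommRingCat.of Ω)) {A B : Over S} (v : A ⟶ B)
    [LocallyOfFiniteType v.left] [Surjective v.left] (p : T ⟶ B) : ∃ l : T ⟶ A, l ≫ v = p := by
  obtain ⟨l, hl⟩ := exists_lift e v.left p.left fun t => v.left.surjective _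
  refine ⟨Over.homMk l ?_, Over.OverMorphism.ext hl⟩
  rw [← Over.w v, reassoc_of% hl, Over.w p]

variable {G X : Over S} [GrpObj G] [LocallyOfFiniteType G.hom]

/-- The group points fixing a point. -/
abbrev Stab (a : AlgGrp.Action G X) (f : T ⟶ X) : Type _ := {g : T ⟶ G // lift g f ≫ a.act = f}

/-- The stabiliser is finite iff it has finitely many points. -/
theorem isFinite_stabTo_iff (e : T.left ≅ Spec (CommRingCat.of Ω)) (a : AlgGrp.Action G X) (f : T ⟶ X) :
    IsFinite (GLinSh.stabTo a f) ↔ Finite (Stab a f) := by
  have hpsi : LocallyOfFiniteType (GIT.psi a f).left := by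
    have h1 : LocallyOfFiniteType (snd G T).left := by
      show LocallyOfFiniteType (Limits.pullback.snd _ _)
      infer_instance
    have : LocallyOfFiniteType ((GIT.psi a f).left ≫ (snd X T).left) := by
      rw [← Over.comp_left, show GIT.psi a f ≫ snd X T = snd G T from lift_snd _ _]
      exact h1
    exact locallyOfFiniteType_of_comp (GIT.psi a f).left (snd X T).left
  have : LocallyOfFiniteType (GLinSh.stabTo a f) :=
    MorphismProperty.pullback_snd (GIT.psi a f).left (lift f (𝟙 T)).left hpsi
  rw [← MorphismProperty.cancel_right_of_respectsIso @IsFinite _ e.hom, isFinite_iff_finite_sections]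
  let toSec : Stab a f → {p : Spec (CommRingCat.of Ω) ⟶ GLinSh.stab a f // p ≫ GLinSh.stabTo a f ≫ e.hom = 𝟙 _} :=
    fun g => ⟨Limits.pullback.lift (e.inv ≫ (lift g.1 (𝟙 T) : T ⟶ G ⊗ T).left) e.inv (by
      rw [Category.assoc, ← Over.comp_left]
      congr 2
      apply CartesianMonoidalCategory.hom_ext
      · simp only [GIT.psi, Category.assoc, lift_fst]
        rw [lift_whiskerLeft_assoc, Category.id_comp, g.2]
      · simp [GIT.psi]), by
      rw [GLinSh.stabTo, Limits.pullback.lift_snd_assoc, Iso.inv_hom_id]⟩
  refine (Equiv.finite_iff (Equiv.ofBijective toSec ⟨fun g g' h => ?_, fun σ => ?_⟩)).symm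
  · apply Subtype.ext
    have h1 := congrArg (fun p => p.1 ≫ Limits.pullback.fst _ _) h
    simp only [toSec, Limits.pullback.lift_fst, cancel_epi] at h1
    simpa using congrArg (· ≫ fst G T) (Over.OverMorphism.ext h1)
  · obtain ⟨σ, hσ⟩ := σ
    have hs : σ ≫ GLinSh.stabTo a f = e.inv := by
      rw [← cancel_mono e.hom, Category.assoc, Iso.inv_hom_id, hσ]
    let w := e.hom ≫ σ ≫ Limits.pullback.fst (GIT.psi a f).left (lift f (𝟙 T)).left
    have hw : w ≫ (GIT.psi a f).left = (lift f (𝟙 T) : T ⟶ X ⊗ T).left := by
      rw [Category.assoc, Category.assoc, Limits.pullback.condition, ← Category.assoc σ]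
      erw [hs]
      rw [Iso.hom_inv_id_assoc]
    let m : T ⟶ G ⊗ T := Over.homMk w (by
      rw [← Over.w (GIT.psi a f), reassoc_of% hw, Over.w (lift f (𝟙 T))])
    have hm : m ≫ GIT.psi a f = lift f (𝟙 T) := Over.OverMorphism.ext hw
    have hm2 : m ≫ snd G T = 𝟙 T := by
      simpa [GIT.psi] using congrArg (· ≫ snd X T) hm
    have hm' : lift (m ≫ fst G T) (𝟙 T) = m := by
      rw [← hm2, lift_comp_fst_snd]
    refine ⟨⟨m ≫ fst G T, ?_⟩, Subtype.ext ?_⟩
    · have := congrArg (· ≫ fst X T) hm
      simp only [GIT.psi, Category.assoc, lift_fst] at this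
      rwa [← hm', lift_whiskerLeft_assoc, Category.id_comp] at this
    · apply Limits.pullback.hom_ext
      · simp only [toSec, Limits.pullback.lift_fst, hm']
        show e.inv ≫ w = _
        rw [Iso.inv_hom_id_assoc]
      · rw [Limits.pullback.lift_snd]
        exact hs.symm

end Groth.Misc8.StabFinite
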