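import Groth.Agent.Misc8.SubtrNoeth
import Mathlib.AlgebraicGeometry.AffineSpace
import Mathlib.RingTheory.FiniteType
import Mathlib.LinearAlgebra.TensorProduct.RightExactness

/-! S-subtrusiveness is detected by affine spaces over the target. -/

set_option autoImplicit false

open CategoryTheory CategoryTheory.Limits AlgebraicGeometry TopologicalSpace
open Groth.HTopHyper (genPt clPt specializes_clPt)
open scoped TensorProduct

namespace Groth.Misc8.Subtr

universe u

theorem hasPair_of_forall_poly {A B V : Type u} [CommRing A] [CommRing B] [Algebra A B] [CommRing V] [IsDomain V]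
    [ValuationRing V] [Algebra A V]
    (H : ∀ n : ℕ, 0 < n → ∀ p0 p1 : Ideal (MvPolynomial (ULift.{u} (Fin n)) A), p0.IsPrime → p1.IsPrime → p0 ≤ p1 →
      ∃ q' q : Ideal (MvPolynomial (ULift.{u} (Fin n)) A ⊗[A] B), q'.IsPrime ∧ q.IsPrime ∧ q' ≤ q ∧
        q'.comap (algebraMap _ (MvPolynomial (ULift.{u} (Fin n)) A ⊗[A] B)) = p0 ∧
        q.comap (algebraMap _ (MvPolynomial (ULift.{u} (Fin n)) A ⊗[A] B)) = p1) :
    HasPair V (V ⊗[A] B) := by
  classical
  by_contra hno
  obtain ⟨t, m, r, ht, hm, hrel⟩ := exists_kill hno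
  obtain ⟨A1, hA1, r1, hr1⟩ := TensorProduct.Algebra.exists_of_fg (R := A) r
  let A0 := Algebra.adjoin A (({t, m} : Finset V) : Set V) ⊔ A1
  have hA0 : A0.FG := (Subalgebra.fg_adjoin_finset _).sup hA1
  have hsub : ∀ z ∈ ({t, m} : Finset V), z ∈ A0 := fun z hz =>
    (le_sup_left : Algebra.adjoin A _ ≤ A0) (Algebra.subset_adjoin (Finset.mem_coe.mpr hz))
  let t0 : A0 := ⟨t, hsub t (by simp)⟩
  let m0 : A0 := ⟨m, hsub m (by simp)⟩
  let r0 : A0 ⊗[A] B :=
    Algebra.TensorProduct.map (Subalgebra.inclusion (le_sup_right : A1 ≤ A0)) (AlgHom.id A B) r1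
  let ζ : A0 ⊗[A] B := (t0 ⊗ₜ[A] (1 : B)) * (1 - (m0 ⊗ₜ[A] (1 : B)) * r0)
  have hmap : ∀ (S S' : Type u) [CommRing S] [CommRing S'] [Algebra A S] [Algebra A S'] (φ : S →ₐ[A] S')
      (z : S ⊗[A] B), φ.toLinearMap.rTensor B z = Algebra.TensorProduct.map φ (AlgHom.id A B) z := by
    intro S S' _ _ _ _ φ z
    induction z using TensorProduct.induction_on with
    | zero => simp
    | tmul a b => rfl
    | add a b ha hb => simp [ha, hb]
  have hr0 : Algebra.TensorProduct.map A0.val (AlgHom.id A B) r0 = r := by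
    rw [← hr1, hmap, ← AlgHom.comp_apply, ← Algebra.TensorProduct.map_comp]
    rfl
  have hζ : A0.val.toLinearMap.rTensor B ζ = A0.val.toLinearMap.rTensor B 0 := by
    rw [map_zero, hmap]
    simp only [ζ, map_mul, map_sub, map_one, Algebra.TensorProduct.map_tmul, Subalgebra.coe_val,
      AlgHom.id_apply, hr0]
    exact hrel
  obtain ⟨A2, hA02, hA2, hz⟩ := TensorProduct.Algebra.eq_of_fg_of_subtype_eq hA0 hζ
  have hft : Algebra.FiniteType A A2 := ⟨A2.fg_top.mpr hA2⟩
  obtain ⟨n, π0, hπ0⟩ := Algebra.FiniteType.iff_quotient_mvPolynomial''.mp hft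
  let π : MvPolynomial (ULift.{u} (Fin (n + 1))) A →ₐ[A] A2 :=
    MvPolynomial.aeval fun i => if h : i.down.1 < n then π0 (MvPolynomial.X ⟨i.down.1, h⟩) else 0
  have hπ : Function.Surjective π := by
    have e : π.comp (MvPolynomial.rename fun i : Fin n => ULift.up (Fin.castSucc i)) = π0 :=
      MvPolynomial.algHom_ext fun i => by simp [π]
    intro z
    obtain ⟨w, rfl⟩ := hπ0 z
    exact ⟨_, (AlgHom.congr_fun e w)⟩
  let p0 : Ideal (MvPolynomial (ULift.{u} (Fin (n + 1))) A) := RingHom.ker π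
  let p1 := (IsLocalRing.maximalIdeal V).comap (A2.val.toRingHom.comp π.toRingHom)
  have hle01 : p0 ≤ p1 := fun z hz => by
    show A2.val (π z) ∈ IsLocalRing.maximalIdeal V
    rw [RingHom.mem_ker.mp hz, map_zero]; exact zero_mem _
  obtain ⟨q', q, hq', hq, hle, hbot, hmax⟩ :=
    H (n + 1) n.succ_pos p0 p1 (RingHom.ker_isPrime _) (Ideal.IsPrime.comap _) hle01
  obtain ⟨tP, htP⟩ := hπ (Subalgebra.inclusion hA02 t0)
  obtain ⟨mP, hmP⟩ := hπ (Subalgebra.inclusion hA02 m0)
  let Λ := Algebra.TensorProduct.map π (AlgHom.id A B)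
  obtain ⟨rP, hrP⟩ : ∃ rP, Λ rP = Algebra.TensorProduct.map (Subalgebra.inclusion hA02) (AlgHom.id A B) r0 :=
    TensorProduct.map_surjective hπ Function.surjective_id _
  have hker : RingHom.ker Λ ≤ q' := by
    rw [Algebra.TensorProduct.rTensor_ker π hπ, Ideal.map_le_iff_le_comap]
    exact fun z hz => (hbot.ge hz : z ∈ q'.comap _)
  have hmem : (tP ⊗ₜ[A] (1 : B)) * (1 - (mP ⊗ₜ[A] (1 : B)) * rP) ∈ q' := hker (by
    rw [RingHom.mem_ker]
    simp only [Λ, map_mul, map_sub, map_one, Algebra.TensorProduct.map_tmul, AlgHom.id_apply, htP, hmP]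
    rw [show Algebra.TensorProduct.map π (AlgHom.id A B) rP = _ from hrP]
    have hz' := hz
    rw [map_zero, hmap] at hz'
    simpa only [ζ, map_mul, map_sub, map_one, Algebra.TensorProduct.map_tmul, AlgHom.id_apply] using hz')
  have htq : tP ⊗ₜ[A] (1 : B) ∉ q' := fun h => by
    have h1 : tP ∈ q'.comap (algebraMap _ (MvPolynomial (ULift.{u} (Fin (n + 1))) A ⊗[A] B)) := h
    rw [hbot, RingHom.mem_ker, htP] at h1
    exact ht (congrArg Subtype.val h1)
  have hmq : mP ⊗ₜ[A] (1 : B) ∈ q := by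
    have h1 : mP ∈ q.comap (algebraMap _ (MvPolynomial (ULift.{u} (Fin (n + 1))) A ⊗[A] B)) := by
      rw [hmax]
      show A2.val (π mP) ∈ IsLocalRing.maximalIdeal V
      rw [hmP]; exact hm
    exact h1
  have h2 := hle ((hq'.mem_or_mem hmem).resolve_left htq)
  exact hq.ne_top ((Ideal.eq_top_iff_one q).mpr (by
    simpa using q.add_mem h2 (q.mul_mem_right rP hmq)))

/-- S-subtrusiveness restricts along open immersions into the target. -/
theorem isSSubtrusive_restrict {Q S P T : Scheme.{u}} {q : Q ⟶ S} {j : T ⟶ S} [IsOpenImmersion j]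
    {p : P ⟶ Q} {q' : P ⟶ T} (sq : IsPullback p q' q j) (h : Subtr.IsSSubtrusive q) :
    Subtr.IsSSubtrusive q' := by
  refine isSSubtrusive_of_isPullback sq (IsPullback.of_hasPullback q j) fun y y' hy => ?_
  obtain ⟨x, x', hx, hfx, hfx'⟩ := h (hy.map j.continuous)
  obtain ⟨z, hz1, hz2⟩ := Scheme.Pullback.exists_preimage_pullback x y hfx
  obtain ⟨z', hz1', hz2'⟩ := Scheme.Pullback.exists_preimage_pullback x' y' hfx'
  exact ⟨z, z', (pullback.fst q j).isOpenEmbedding.toIsEmbedding.isInducing.specializes_iff.mp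
    (by rw [hz1, hz1']; exact hx), hz2, hz2'⟩

theorem univSSubtrusive_of_forall_affineSpace {X Y : Scheme.{u}} (f : X ⟶ Y) [QuasiCompact f]
    (hf : ∀ n : ℕ, 0 < n → Subtr.IsSSubtrusive (pullback.snd f (AffineSpace (ULift.{u} (Fin n)) Y ↘ Y))) :
    Subtr.UnivSSubtrusive f := by
  refine univ_of_forall_valuationRing fun V _ _ _ g => ?_
  obtain ⟨U, hU, hgU, -⟩ := exists_isAffineOpen_mem_and_subset (X := Y)
    (x := g (clPt (CommRingCat.of V))) (U := ⊤) trivial
  have hgU' : g (clPt (CommRingCat.of V)) ∈ Set.range hU.fromSpec := by rw [hU.range_fromSpec]; exact hgU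
  obtain ⟨g0, hg0⟩ := Groth.HTopHyper.exists_lift_openImmersion hU.fromSpec g hgU'
  obtain ⟨φ, rfl⟩ := Spec.map_surjective g0
  let A : CommRingCat.{u} := Γ(Y, U)
  let fA := pullback.snd f hU.fromSpec
  have : CompactSpace (pullback f hU.fromSpec : Scheme.{u}) := QuasiCompact.compactSpace_of_compactSpace fA
  obtain ⟨B, c, hc1, hc2⟩ := exists_affine_cover (pullback f hU.fromSpec)
  obtain ⟨ψ, hψ⟩ := Spec.map_surjective (c ≫ fA)
  let : Algebra A B := ψ.hom.toAlgebra
  let : Algebra A V := φ.hom.toAlgebra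
  have sqV : ∀ (D : Type u) [CommRing D] [Algebra A D],
      IsPullback (Spec.map (CommRingCat.ofHom ((Algebra.TensorProduct.includeRight (R := A) (A := D) (B := B)).toRingHom)))
        (Spec.map (CommRingCat.ofHom (algebraMap D (TensorProduct A D B))))
        (c ≫ fA) (Spec.map (CommRingCat.ofHom (algebraMap A D))) := by
    intro D _ _
    rw [← hψ]
    exact isPullback_tensor A B D
  have hpair : HasPair V (V ⊗[A] B) := by
    refine hasPair_of_forall_poly fun n hn p0 p1 hp0 hp1 hle => ?_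
    let j : Spec (CommRingCat.of (MvPolynomial (ULift.{u} (Fin n)) A)) ⟶ AffineSpace (ULift.{u} (Fin n)) Y :=
      (AffineSpace.SpecIso (ULift.{u} (Fin n)) A).inv ≫ AffineSpace.map (ULift.{u} (Fin n)) hU.fromSpec
    have : IsOpenImmersion (AffineSpace.map (ULift.{u} (Fin n)) hU.fromSpec) :=
      MorphismProperty.of_isPullback (AffineSpace.isPullback_map hU.fromSpec).flip inferInstance
    have hj : j ≫ AffineSpace (ULift.{u} (Fin n)) Y ↘ Y =
        Spec.map (CommRingCat.ofHom (algebraMap A (MvPolynomial (ULift.{u} (Fin n)) A))) ≫ hU.fromSpec := by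
      simp only [j, Category.assoc, AffineSpace.map_over]
      rw [AffineSpace.SpecIso_inv_over_assoc]
      rfl
    have hsub : Subtr.IsSSubtrusive
        (Spec.map (CommRingCat.ofHom (algebraMap (MvPolynomial (ULift.{u} (Fin n)) A)
          (MvPolynomial (ULift.{u} (Fin n)) A ⊗[A] B)))) := by
      rw [isSSubtrusive_cover_iff c (IsPullback.of_hasPullback fA _) (sqV _)]
      refine isSSubtrusive_of_isPullback
        ((IsPullback.of_hasPullback fA _).paste_horiz (IsPullback.of_hasPullback f hU.fromSpec))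
        (IsPullback.of_hasPullback f _) ?_
      rw [← hj]
      let top : pullback f (j ≫ AffineSpace (ULift.{u} (Fin n)) Y ↘ Y) ⟶
          pullback f (AffineSpace (ULift.{u} (Fin n)) Y ↘ Y) :=
        pullback.lift (pullback.fst _ _) (pullback.snd _ _ ≫ j) (by rw [Category.assoc]; exact pullback.condition)
      have : IsOpenImmersion j := by infer_instance
      refine isSSubtrusive_restrict (j := j) (p := top) ?_ (hf n hn)
      refine IsPullback.of_right ?_ (pullback.lift_snd _ _ _) (IsPullback.of_hasPullback f _)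
      rw [pullback.lift_fst]
      exact IsPullback.of_hasPullback f _
    obtain ⟨x, x', hx, hfx, hfx'⟩ := hsub (y := (⟨p1, hp1⟩ : PrimeSpectrum _)) (y' := (⟨p0, hp0⟩ : PrimeSpectrum _))
      ((PrimeSpectrum.le_iff_specializes (⟨p0, hp0⟩ : PrimeSpectrum _) ⟨p1, hp1⟩).mp hle)
    exact ⟨x'.asIdeal, x.asIdeal, x'.isPrime, x.isPrime, (PrimeSpectrum.le_iff_specializes x' x).mpr hx,
      congrArg PrimeSpectrum.asIdeal hfx', congrArg PrimeSpectrum.asIdeal hfx⟩
  rw [← isSSubtrusive_iff_hasPair, isSSubtrusive_cover_iff c (IsPullback.of_hasPullback fA _) (sqV V)] at hpair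
  have sqfin := (IsPullback.of_hasPullback fA (Spec.map φ)).paste_horiz (IsPullback.of_hasPullback f hU.fromSpec)
  rw [← hg0]
  exact isSSubtrusive_of_isPullback (IsPullback.of_hasPullback f (Spec.map φ ≫ hU.fromSpec)) sqfin hpair

end Groth.Misc8.Subtr
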