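import Groth.Agent.Misc8.SubtrCore
import Mathlib.RingTheory.Valuation.LocalSubring

/-! Finite chains of primes in valuation rings; lifting finite chains of specializations. -/

set_option autoImplicit false

open CategoryTheory CategoryTheory.Limits AlgebraicGeometry TopologicalSpace

namespace Groth.Misc8.Subtr

universe u

/-- A finite chain of primes starting with zero is induced from a valuation ring. -/
theorem exists_valuation_chain : ∀ (n : ℕ) (B : Type u) [CommRing B] [IsDomain B] (K : Type u) [Field K]
    (φ : B →+* K), Function.Injective φ → ∀ q : Fin (n + 1) → PrimeSpectrum B, Monotone q →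
    (q 0).asIdeal = ⊥ → ∃ (O : ValuationSubring K) (h : ∀ b, φ b ∈ O) (P : Fin (n + 1) → PrimeSpectrum O),
      Monotone P ∧ (P 0).asIdeal = ⊥ ∧ ∀ i, PrimeSpectrum.comap (φ.codRestrict O h) (P i) = q i := by
  intro n
  induction n with
  | zero =>
    intro B _ _ K _ φ hφ q _ h0
    refine ⟨⊤, fun b => ValuationSubring.mem_top _, fun _ => ⊥, fun _ _ _ => le_rfl, rfl, fun i => ?_⟩
    rw [Fin.fin_one_eq_zero i]
    apply PrimeSpectrum.ext
    rw [h0]
    change Ideal.comap _ ⊥ = ⊥
    exact (RingHom.injective_iff_ker_eq_bot _).mp fun a b h => hφ (congrArg Subtype.val h)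
  | succ n ih =>
    intro B _ _ K _ φ hφ q hq h0
    let p := (q 1).asIdeal
    have hu : ∀ s : p.primeCompl, IsUnit (φ s) := fun s =>
      isUnit_iff_ne_zero.mpr fun h => s.2 (by
        rw [hφ (h.trans (map_zero φ).symm)]; exact p.zero_mem)
    let ψ : Localization.AtPrime p →+* K := IsLocalization.lift hu
    obtain ⟨A, hA, hAl⟩ := IsLocalRing.exists_factor_valuationRing ψ
    have hB : ∀ b, φ b ∈ A := fun b => by
      rw [← IsLocalization.lift_eq hu (S := Localization.AtPrime p) b]
      exact hA _
    let η : B →+* IsLocalRing.ResidueField A := (IsLocalRing.residue A).comp (φ.codRestrict A hB)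
    have hker : ∀ b, η b = 0 ↔ b ∈ p := by
      intro b
      rw [RingHom.comp_apply, IsLocalRing.residue_eq_zero_iff, IsLocalRing.mem_maximalIdeal, mem_nonunits_iff,
        ← IsLocalization.AtPrime.to_map_mem_maximal_iff (Localization.AtPrime p) p b,
        IsLocalRing.mem_maximalIdeal, mem_nonunits_iff, not_iff_not]
      have e : φ.codRestrict A hB b = ψ.codRestrict A hA (algebraMap B _ b) :=
        Subtype.ext (IsLocalization.lift_eq hu b).symm
      constructor
      · intro h
        exact hAl.map_nonunit _ (e ▸ h)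
      · intro h
        rw [e]
        exact h.map _
    have : p.IsPrime := (q 1).isPrime
    let η' : B ⧸ p →+* IsLocalRing.ResidueField A := Ideal.Quotient.lift p η fun b hb => (hker b).mpr hb
    have hη' : Function.Injective η' := by
      rw [injective_iff_map_eq_zero]
      intro b hb
      obtain ⟨b, rfl⟩ := Ideal.Quotient.mk_surjective b
      exact Ideal.Quotient.eq_zero_iff_mem.mpr ((hker b).mp hb)
    have hle : ∀ j : Fin (n + 1), p ≤ (q j.succ).asIdeal := fun j => hq (by
      rw [Fin.le_def]; simp)
    have hprime : ∀ j : Fin (n + 1), ((q j.succ).asIdeal.map (Ideal.Quotient.mk p)).IsPrime := fun j =>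
      Ideal.map_isPrime_of_surjective Ideal.Quotient.mk_surjective (by rw [Ideal.mk_ker]; exact hle j)
    let q' : Fin (n + 1) → PrimeSpectrum (B ⧸ p) := fun j => ⟨_, hprime j⟩
    have hq'm : Monotone q' := fun i j hij => Ideal.map_mono (hq (Fin.succ_le_succ_iff.mpr hij))
    have hq'0 : (q' 0).asIdeal = ⊥ := by
      show Ideal.map _ (q (Fin.succ 0)).asIdeal = ⊥
      rw [Ideal.map_eq_bot_iff_le_ker, Ideal.mk_ker]
      exact le_refl p
    obtain ⟨W, hW, P, hPm, hP0, hPq⟩ := ih (B ⧸ p) (IsLocalRing.ResidueField A) η' hη' q' hq'm hq'0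
    let O : ValuationSubring K :=
      { toSubring := (W.toSubring.comap (IsLocalRing.residue A)).map A.subtype
        mem_or_inv_mem' := by
          intro x
          rcases eq_or_ne x 0 with rfl | hx0
          · exact Or.inl (Subring.zero_mem _)
          have key : ∀ a : A, (a : K) = x → IsUnit a →
              x ∈ (W.toSubring.comap (IsLocalRing.residue A)).map A.subtype ∨
                x⁻¹ ∈ (W.toSubring.comap (IsLocalRing.residue A)).map A.subtype := by
            rintro a rfl ⟨v, rfl⟩
            rcases W.mem_or_inv_mem (IsLocalRing.residue A v) with h | h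
            · exact Or.inl ⟨v, h, rfl⟩
            · refine Or.inr ⟨(↑v⁻¹ : A), ?_, ?_⟩
              · show IsLocalRing.residue A (↑v⁻¹ : A) ∈ W
                rwa [map_units_inv]
              · exact map_units_inv A.subtype v
          have nonunit : ∀ a : A, ¬ IsUnit a →
              (a : K) ∈ (W.toSubring.comap (IsLocalRing.residue A)).map A.subtype := fun a ha =>
            ⟨a, by
              show IsLocalRing.residue A a ∈ W
              rw [(IsLocalRing.residue_eq_zero_iff a).mpr ha]
              exact zero_mem _, rfl⟩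
          rcases A.mem_or_inv_mem x with h | h
          · by_cases ha : IsUnit (⟨x, h⟩ : A)
            · exact key ⟨x, h⟩ rfl ha
            · exact Or.inl (nonunit ⟨x, h⟩ ha)
          · by_cases ha : IsUnit (⟨x⁻¹, h⟩ : A)
            · refine key (↑ha.unit⁻¹) ?_ (Units.isUnit _)
              show A.subtype (↑ha.unit⁻¹ : A) = x
              rw [map_units_inv]
              exact inv_inv x
            · exact Or.inr (nonunit ⟨x⁻¹, h⟩ ha) }
    have hOA : ∀ x : K, x ∈ O → x ∈ A := by
      rintro x ⟨a, -, rfl⟩; exact a.2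
    let π : O →+* W :=
      ((IsLocalRing.residue A).comp ((O.subtype).codRestrict A fun x => hOA _ x.2)).codRestrict W
        (by
          rintro ⟨x, a, ha, rfl⟩
          exact ha)
    have hBO : ∀ b, φ b ∈ O := fun b =>
      ⟨φ.codRestrict A hB b, hW (Ideal.Quotient.mk p b), rfl⟩
    refine ⟨O, hBO, Fin.cons ⊥ (fun j => PrimeSpectrum.comap π (P j)), ?_, rfl, ?_⟩
    · intro i j hij
      induction i using Fin.cases with
      | zero => exact bot_le
      | succ i =>
        induction j using Fin.cases with
        | zero => exact absurd hij (not_le.mpr (Fin.succ_pos i))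
        | succ j =>
          simp only [Fin.cons_succ]
          exact Ideal.comap_mono (hPm (Fin.succ_le_succ_iff.mp hij))
    · intro i
      induction i using Fin.cases with
      | zero =>
        apply PrimeSpectrum.ext
        rw [h0, Fin.cons_zero]
        change Ideal.comap _ ⊥ = ⊥
        exact (RingHom.injective_iff_ker_eq_bot _).mp fun a b h => hφ (congrArg Subtype.val h)
      | succ i =>
        rw [Fin.cons_succ]
        apply PrimeSpectrum.ext
        have e : π.comp (φ.codRestrict O hBO) = (η'.codRestrict W hW).comp (Ideal.Quotient.mk p) :=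
          RingHom.ext fun b => Subtype.ext rfl
        calc (PrimeSpectrum.comap (φ.codRestrict O hBO) (PrimeSpectrum.comap π (P i))).asIdeal
            = Ideal.comap ((η'.codRestrict W hW).comp (Ideal.Quotient.mk p)) (P i).asIdeal := by
              rw [← e]; rfl
          _ = Ideal.comap (Ideal.Quotient.mk p) (q' i).asIdeal := by
              rw [← Ideal.comap_comap]
              exact congrArg _ (congrArg PrimeSpectrum.asIdeal (hPq i))
          _ = (q i.succ).asIdeal := by
              show Ideal.comap _ (Ideal.map _ _) = _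
              rw [Ideal.comap_map_of_surjective' _ Ideal.Quotient.mk_surjective, Ideal.mk_ker,
                sup_eq_left.mpr (hle i)]

theorem exists_chain_lift {X Y : Scheme.{u}} (f : X ⟶ Y) (hf : Subtr.UnivSSubtrusive f) (n : ℕ)
    (y : Fin (n + 1) → Y) (hy : ∀ i j : Fin (n + 1), i ≤ j → y i ⤳ y j) :
    ∃ x : Fin (n + 1) → X, (∀ i j : Fin (n + 1), i ≤ j → x i ⤳ x j) ∧ ∀ i, f (x i) = y i := by
  classical
  obtain ⟨U, hU, hUy, -⟩ := exists_isAffineOpen_mem_and_subset (X := Y) (x := y (Fin.last n)) (U := ⊤) trivial
  have hmem : ∀ i, y i ∈ Set.range hU.fromSpec := fun i => by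
    rw [hU.range_fromSpec]
    exact (hy i _ (Fin.le_last i)).mem_open U.isOpen hUy
  choose q' hq using hmem
  let q : Fin (n + 1) → PrimeSpectrum Γ(Y, U) := q'
  have hqm : ∀ i j, i ≤ j → (q i).asIdeal ≤ (q j).asIdeal := fun i j hij =>
    (PrimeSpectrum.le_iff_specializes (q i) (q j)).mpr
    (hU.fromSpec.isOpenEmbedding.toIsEmbedding.isInducing.specializes_iff.mp (by
      show hU.fromSpec (q' i) ⤳ hU.fromSpec (q' j)
      rw [hq, hq]; exact hy i j hij))
  let A := Γ(Y, U)
  let B := A ⧸ (q 0).asIdeal
  have hle : ∀ i, (q 0).asIdeal ≤ (q i).asIdeal := fun i => hqm 0 i (Fin.zero_le i)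
  let q'' : Fin (n + 1) → PrimeSpectrum B := fun i =>
    ⟨(q i).asIdeal.map (Ideal.Quotient.mk _),
      Ideal.map_isPrime_of_surjective Ideal.Quotient.mk_surjective (by rw [Ideal.mk_ker]; exact hle i)⟩
  obtain ⟨O, hO, P, hPm, -, hPq⟩ := exists_valuation_chain n B (FractionRing B) (algebraMap B _)
    (IsFractionRing.injective B _) q'' (fun i j hij => Ideal.map_mono (hqm i j hij))
    (by show Ideal.map _ (q 0).asIdeal = ⊥; rw [Ideal.map_quotient_self])
  let φ : A ⟶ CommRingCat.of O :=
    CommRingCat.ofHom (((algebraMap B (FractionRing B)).codRestrict O hO).comp (Ideal.Quotient.mk _))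
  obtain ⟨W, i1, i2, i3, a, b, hb, hab⟩ :=
    (univ_iff_valuationRing_lift f).mp hf O (Spec.map φ ≫ hU.fromSpec)
  obtain ⟨β, rfl⟩ := Spec.map_surjective b
  choose R' hR using hb.surj
  let R : PrimeSpectrum O → PrimeSpectrum W := R'
  have hmono : ∀ s t : PrimeSpectrum O, s ≤ t → R s ≤ R t := by
    intro s t hst
    rcases eq_or_ne s t with rfl | hne
    · exact le_rfl
    rcases (ValuationRing.le_total_ideal (A := W)).total (R s).asIdeal (R t).asIdeal with h | h
    · exact h
    · refine absurd (le_antisymm hst ?_) hne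
      rw [← hR s, ← hR t]
      exact Ideal.comap_mono h
  refine ⟨fun i => a (R (P i)), fun i j hij =>
    ((PrimeSpectrum.le_iff_specializes _ _).mp (hmono _ _ (hPm hij))).map a.continuous, fun i => ?_⟩
  rw [← Scheme.Hom.comp_apply, hab, Scheme.Hom.comp_apply, hR, Scheme.Hom.comp_apply, ← hq i]
  congr 1
  apply PrimeSpectrum.ext
  calc (Spec.map φ (P i)).asIdeal
      = Ideal.comap (Ideal.Quotient.mk _) (q'' i).asIdeal :=
        congrArg (Ideal.comap (Ideal.Quotient.mk _)) (congrArg PrimeSpectrum.asIdeal (hPq i))
    _ = (q i).asIdeal := by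
      show Ideal.comap _ (Ideal.map _ _) = _
      rw [Ideal.comap_map_of_surjective' _ Ideal.Quotient.mk_surjective, Ideal.mk_ker, sup_eq_left.mpr (hle i)]

end Groth.Misc8.Subtr
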