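import Groth.Agent.Misc8.SubtrNoeth
import Mathlib.RingTheory.PowerSeries.Inverse
import Mathlib.AlgebraicGeometry.Morphisms.FiniteType

/-! The criterion for universal S-subtrusiveness by discrete valuation rings. -/

set_option autoImplicit false

open CategoryTheory CategoryTheory.Limits AlgebraicGeometry TopologicalSpace
open Groth.HTopHyper (genPt clPt specializes_clPt genPt_specializes exists_valRing)

namespace Groth.Misc8.Subtr

universe u

variable {X Y : Scheme.{u}}

/-- Every discrete valuation ring mapping to the target lifts after a surjective extension. -/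
def DVRLift (f : X ⟶ Y) : Prop :=
  ∀ (D : Type u) [CommRing D] [IsDomain D] [IsDiscreteValuationRing D] (g : Spec (CommRingCat.of D) ⟶ Y),
    ∃ (D' : Type u) (_ : CommRing D') (_ : IsDomain D') (_ : IsDiscreteValuationRing D')
      (a : Spec (CommRingCat.of D') ⟶ X) (b : Spec (CommRingCat.of D') ⟶ Spec (CommRingCat.of D)),
      Surjective b ∧ a ≫ f = b ≫ g

theorem exists_dvr_lift (f : X ⟶ Y) [LocallyOfFiniteType f] (hf : Subtr.UnivSSubtrusive f) : DVRLift f := by
  intro D _ _ _ g
  let fq := pullback.snd f g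
  have : IsLocallyNoetherian (pullback f g : Scheme.{u}) := LocallyOfFiniteType.isLocallyNoetherian fq
  obtain ⟨x, x', hx, hfx, hfx'⟩ := ((tfae D fq).out 1 3 rfl rfl).mp (of_univ hf g)
  obtain ⟨U, hU, hxU, -⟩ := exists_isAffineOpen_mem_and_subset (X := pullback f g) (x := x) (U := ⊤) trivial
  have : IsNoetherianRing Γ(pullback f g, U) := IsLocallyNoetherian.component_noetherian ⟨U, hU⟩
  obtain ⟨P, hP⟩ : x ∈ Set.range hU.fromSpec.base := by rw [hU.range_fromSpec]; exact hxU
  obtain ⟨P', hP'⟩ : x' ∈ Set.range hU.fromSpec.base := by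
    rw [hU.range_fromSpec]; exact hx.mem_open U.2 hxU
  have hle : P'.asIdeal ≤ P.asIdeal := (PrimeSpectrum.le_iff_specializes P' P).mpr
    (hU.fromSpec.isOpenEmbedding.toIsInducing.specializes_iff.mp (hP ▸ hP' ▸ hx))
  have hne : P' ≠ P := by
    rintro rfl
    rw [hP] at hP'
    rw [← hP', hfx] at hfx'
    exact IsDiscreteValuationRing.not_a_field D (congrArg PrimeSpectrum.asIdeal hfx')
  let T := Γ(pullback f g, U)
  let p : Ideal (T ⧸ P'.asIdeal) := P.asIdeal.map (Ideal.Quotient.mk P'.asIdeal)
  have hpcomap : p.comap (Ideal.Quotient.mk P'.asIdeal) = P.asIdeal := by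
    rw [Ideal.comap_map_of_surjective _ Ideal.Quotient.mk_surjective, ← RingHom.ker_eq_comap_bot,
      Ideal.mk_ker, sup_eq_left]
    exact hle
  have hp : p.IsPrime := Ideal.map_isPrime_of_surjective Ideal.Quotient.mk_surjective (by rwa [Ideal.mk_ker])
  have hpne : p ≠ ⊥ := fun h => hne (PrimeSpectrum.ext (by
    rw [← hpcomap, h, ← RingHom.ker_eq_comap_bot, Ideal.mk_ker]))
  let L := Localization.AtPrime p
  have hinj : Function.Injective (algebraMap (T ⧸ P'.asIdeal) L) :=
    IsLocalization.injective _ p.primeCompl_le_nonZeroDivisors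
  have hnf : ¬ IsField L := fun hF => hpne (by
    have h1 := IsLocalization.AtPrime.comap_maximalIdeal (R := T ⧸ P'.asIdeal) L p
    change Ideal.comap (algebraMap _ L) _ = p at h1
    rw [IsLocalRing.isField_iff_maximalIdeal_eq.mp hF, ← RingHom.ker_eq_comap_bot,
      (RingHom.injective_iff_ker_eq_bot _).mp hinj] at h1
    exact h1.symm)
  have : IsNoetherianRing L := IsLocalization.isNoetherianRing p.primeCompl _ inferInstance
  obtain ⟨D', _, _, _, φ, hφ, hφl⟩ := Groth.EGA43Val.exists_dvr_dominating L hnf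
  let χ : T →+* D' := φ.comp ((algebraMap (T ⧸ P'.asIdeal) L).comp (Ideal.Quotient.mk P'.asIdeal))
  let c : Spec (CommRingCat.of D') ⟶ pullback f g := Spec.map (CommRingCat.ofHom χ) ≫ hU.fromSpec
  refine ⟨D', inferInstance, inferInstance, inferInstance, c ≫ pullback.fst f g, c ≫ fq, ⟨fun z => ?_⟩,
    by simp [c, fq, pullback.condition]⟩
  have h0 : c (⟨⊥, Ideal.isPrime_bot⟩ : PrimeSpectrum D') = x' := by
    rw [← hP']
    show hU.fromSpec _ = hU.fromSpec P'
    congr 1
    refine PrimeSpectrum.ext ?_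
    show Ideal.comap χ ⊥ = _
    rw [← RingHom.ker_eq_comap_bot, RingHom.ker_comp_of_injective _ hφ, RingHom.ker_comp_of_injective _ hinj,
      Ideal.mk_ker]
  have h1 : c (IsLocalRing.closedPoint D') = x := by
    rw [← hP]
    show hU.fromSpec _ = hU.fromSpec P
    congr 1
    refine PrimeSpectrum.ext ?_
    show Ideal.comap χ (IsLocalRing.maximalIdeal D') = _
    rw [← Ideal.comap_comap, ← Ideal.comap_comap]
    have := hφl
    rw [IsLocalRing.maximalIdeal_comap φ,
      show Ideal.comap (algebraMap (T ⧸ P'.asIdeal) L) (IsLocalRing.maximalIdeal L) = p from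
        IsLocalization.AtPrime.comap_maximalIdeal L p, hpcomap]
  rcases eq_or_ne (z : PrimeSpectrum D).asIdeal ⊥ with hz | hz
  · exact ⟨(⟨⊥, Ideal.isPrime_bot⟩ : PrimeSpectrum D'), by
      rw [Scheme.Hom.comp_apply, h0, hfx']; exact PrimeSpectrum.ext hz.symm⟩
  · exact ⟨IsLocalRing.closedPoint D', by
      rw [Scheme.Hom.comp_apply, h1, hfx]
      exact PrimeSpectrum.ext (IsLocalRing.eq_maximalIdeal
        ((z : PrimeSpectrum D).isPrime.isMaximal hz)).symm⟩

theorem univSSubtrusive_of_dvr [IsLocallyNoetherian Y] (f : X ⟶ Y) [QuasiCompact f]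
    (hsurj : Surjective f)
    (hf : ∀ (D : Type u) [CommRing D] [IsDomain D] [IsDiscreteValuationRing D] (g : Spec (CommRingCat.of D) ⟶ Y),
      Subtr.IsSSubtrusive (pullback.snd f g)) : Subtr.UnivSSubtrusive f := by
  refine univ_of_forall_valuationRing fun V _ _ _ g => ?_
  by_cases hV : IsLocalRing.maximalIdeal V = ⊥
  · obtain ⟨x, hx⟩ := (pullback.snd f g).surjective (IsLocalRing.closedPoint V)
    refine ((tfae V (pullback.snd f g)).out 3 1 rfl rfl).mp ⟨x, x, specializes_refl x, hx, hx.trans ?_⟩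
    exact PrimeSpectrum.ext hV
  obtain ⟨U, hU, hgU, -⟩ := exists_isAffineOpen_mem_and_subset (X := Y)
    (x := g (clPt (CommRingCat.of V))) (U := ⊤) trivial
  have : IsNoetherianRing Γ(Y, U) := IsLocallyNoetherian.component_noetherian ⟨U, hU⟩
  have hgU' : g (clPt (CommRingCat.of V)) ∈ Set.range hU.fromSpec := by rw [hU.range_fromSpec]; exact hgU
  obtain ⟨g0, hg0⟩ := Groth.HTopHyper.exists_lift_openImmersion hU.fromSpec g hgU'
  obtain ⟨φ, rfl⟩ := Spec.map_surjective g0
  let A : CommRingCat.{u} := Γ(Y, U)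
  let fA := pullback.snd f hU.fromSpec
  have : CompactSpace (pullback f hU.fromSpec : Scheme.{u}) := QuasiCompact.compactSpace_of_compactSpace fA
  obtain ⟨B, c, hc1, hc2⟩ := exists_affine_cover (pullback f hU.fromSpec)
  obtain ⟨ψ, hψ⟩ := Spec.map_surjective (c ≫ fA)
  let : Algebra A B := ψ.hom.toAlgebra
  let : Algebra A V := φ.hom.toAlgebra
  have sqV : ∀ (D : Type u) [CommRing D] [Algebra A D],
      IsPullback (Spec.map (CommRingCat.ofHom ((Algebra.TensorProduct.includeRight (R := A) (A := D) (B := B)).toRingHom)))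
        (Spec.map (CommRingCat.ofHom (algebraMap D (TensorProduct A D B))))
        (c ≫ fA) (Spec.map (CommRingCat.ofHom (algebraMap A D))) := by
    intro D _ _
    rw [← hψ]
    exact isPullback_tensor A B D
  have H : ∀ (D : Type u) [CommRing D] [IsDomain D] [IsDiscreteValuationRing D] [Algebra A D],
      HasPair D (TensorProduct A D B) := by
    intro D _ _ _ _
    rw [← isSSubtrusive_iff_hasPair]
    rw [isSSubtrusive_cover_iff c (IsPullback.of_hasPullback fA _) (sqV D)]
    exact isSSubtrusive_of_isPullback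
      ((IsPullback.of_hasPullback fA _).paste_horiz (IsPullback.of_hasPullback f hU.fromSpec))
      (IsPullback.of_hasPullback f _) (hf D _)
  have hpair := hasPair_of_forall_dvr (A := A) (B := B) (V := V) hV H
  rw [← isSSubtrusive_iff_hasPair, isSSubtrusive_cover_iff c (IsPullback.of_hasPullback fA _) (sqV V)] at hpair
  have sqfin := (IsPullback.of_hasPullback fA (Spec.map φ)).paste_horiz (IsPullback.of_hasPullback f hU.fromSpec)
  rw [← hg0]
  exact isSSubtrusive_of_isPullback (IsPullback.of_hasPullback f (Spec.map φ ≫ hU.fromSpec)) sqfin hpair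


theorem univSSubtrusive_of_dvrLift [IsLocallyNoetherian Y] (f : X ⟶ Y) [QuasiCompact f] (h : DVRLift f) :
    Subtr.UnivSSubtrusive f := by
  refine univSSubtrusive_of_dvr f ⟨fun y => ?_⟩ fun D _ _ _ g => ?_
  · let K := Y.residueField y
    let g : Spec (CommRingCat.of (PowerSeries K)) ⟶ Y :=
      Spec.map (CommRingCat.ofHom (PowerSeries.C : K →+* PowerSeries K)) ≫ Y.fromSpecResidueField y
    obtain ⟨D', _, _, _, a, b, hb, hab⟩ := h (PowerSeries K) g
    refine ⟨a (IsLocalRing.closedPoint D'), ?_⟩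
    rw [← Scheme.Hom.comp_apply, hab, Scheme.Hom.comp_apply, Scheme.Hom.comp_apply, Scheme.fromSpecResidueField_apply]
  · obtain ⟨D', _, _, _, a, b, hb, hab⟩ := h D g
    refine ((tfae D (pullback.snd f g)).out 4 1 rfl rfl).mp
      ⟨D', inferInstance, inferInstance, inferInstance, pullback.lift a b hab, ?_⟩
    rw [pullback.lift_snd]
    exact hb

end Groth.Misc8.Subtr
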