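import Groth.Agent.Misc8.SubtrChain
import Groth.Agent.Limits.ProConsImage
import Mathlib.Topology.LocallyClosed

/-! Descent of locally closed retrocompact sets along S-subtrusive quasi-compact morphisms. -/

set_option autoImplicit false

open CategoryTheory CategoryTheory.Limits AlgebraicGeometry Topology
open Groth.Limits (PC QCImage)

namespace Groth.Misc8.Subtr

universe u

variable {X Y : Scheme.{u}}

theorem pc_of_isLocallyClosed {E : Set Y} (hlc : IsLocallyClosed E) (hr : IsRetrocompact E) : PC E := by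
  intro W hW
  let O : Y.Opens := ⟨coborder E ∩ (W : Set Y), hlc.isOpen_coborder.inter W.isOpen⟩
  have hcov : E ∩ (W : Set Y) ⊆ ⋃ V : {V : Y.Opens // IsAffineOpen V ∧ V ≤ O}, ((V.1 : Y.Opens) : Set Y) :=
    fun x hx => by
      obtain ⟨V, hV, hxV, hVO⟩ := exists_isAffineOpen_mem_and_subset (U := O) (x := x)
        ⟨subset_coborder hx.1, hx.2⟩
      exact Set.mem_iUnion.mpr ⟨⟨V, hV, hVO⟩, hxV⟩
  obtain ⟨t, ht⟩ := (hr hW.isCompact W.isOpen).elim_finite_subcover
    (fun V : {V : Y.Opens // IsAffineOpen V ∧ V ≤ O} => ((V.1 : Y.Opens) : Set Y)) (fun V => V.1.isOpen) hcov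
  have h : QCImage (⋃ V : t, closure E ∩ ((V.1.1 : Y.Opens) : Set Y)) :=
    QCImage.iUnion fun V => Groth.Limits.pc_of_isClosed isClosed_closure _ V.1.2.1
  convert h using 1
  refine Set.Subset.antisymm (fun x hx => ?_) (Set.iUnion_subset fun V x hx => ?_)
  · obtain ⟨V, hV, hxV⟩ := Set.mem_iUnion₂.mp (ht hx)
    exact Set.mem_iUnion.mpr ⟨⟨V, hV⟩, subset_closure hx.1, hxV⟩
  · have hO : x ∈ coborder E ∩ (W : Set Y) := V.1.2.2 hx.2
    exact ⟨(coborder_inter_closure (s := E)).le ⟨hO.1, hx.1⟩, hO.2⟩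

theorem isRetrocompact_of_pc {E : Set Y} (hE : PC E) : IsRetrocompact E := fun U hU hU' =>
  (hE.qcImage_inter_isCompact ⟨U, hU'⟩ hU).isCompact

theorem exists_specializes_of_mem_closure_pc {Z : Set Y} (hZ : PC Z) {y : Y} (hy : y ∈ closure Z) :
    ∃ y', y' ⤳ y ∧ y' ∈ Z := by
  obtain ⟨W, hW, hyW, -⟩ := exists_isAffineOpen_mem_and_subset (X := Y) (x := y) (U := ⊤) trivial
  obtain ⟨R, a, ha⟩ := hZ W hW
  have : IsAffine W.toScheme := hW
  have hsub : Set.range a ⊆ Set.range W.ι := by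
    rw [ha, Scheme.Opens.range_ι]; exact Set.inter_subset_right
  let b := IsOpenImmersion.lift W.ι a hsub
  have hb : b ≫ W.ι = a := IsOpenImmersion.lift_fac _ _ _
  have hmem : (⟨y, hyW⟩ : W.toScheme) ∈ closure (Set.range b) := by
    refine mem_closure_iff.mpr fun V hV hyV => ?_
    obtain ⟨z, hzV, hzZ⟩ := mem_closure_iff.mp hy (W.ι '' V) (W.ι.isOpenEmbedding.isOpenMap V hV)
      ⟨⟨y, hyW⟩, hyV, rfl⟩
    obtain ⟨v, hv, rfl⟩ := hzV
    obtain ⟨p, hp⟩ : W.ι v ∈ Set.range a := by rw [ha]; exact ⟨hzZ, v.2⟩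
    refine ⟨v, hv, p, W.ι.isOpenEmbedding.injective ?_⟩
    rw [← Scheme.Hom.comp_apply, hb, hp]
  obtain ⟨p, hp⟩ := Groth.DescentBase.exists_specializes_of_mem_closure_range b hmem
  refine ⟨a p, ?_, (ha.le (Set.mem_range_self p)).1⟩
  rw [← hb, Scheme.Hom.comp_apply]
  exact hp.map W.ι.continuous

theorem isLocallyClosed_and_isRetrocompact_iff (f : X ⟶ Y) [QuasiCompact f] (hf : Subtr.UnivSSubtrusive f)
    (E : Set Y) : (IsLocallyClosed E ∧ IsRetrocompact E) ↔
      (IsLocallyClosed (f ⁻¹' E) ∧ IsRetrocompact (f ⁻¹' E)) := by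
  refine ⟨fun ⟨h1, h2⟩ => ⟨h1.preimage f.continuous,
    isRetrocompact_of_pc ((pc_of_isLocallyClosed h1 h2).preimage f)⟩, fun ⟨h1, h2⟩ => ?_⟩
  have hsurj := surjective_of_isSSubtrusive (self_of_univ hf)
  have hE : f '' (f ⁻¹' E) = E := Set.image_preimage_eq _ hsurj
  have hpc' := pc_of_isLocallyClosed h1 h2
  have hpc : PC E := fun W hW => by
    have h := (hpc'.qcImage_inter_isCompact (f ⁻¹ᵁ W) (f.isCompact_preimage hW.isCompact)).image f
    rwa [show ((f ⁻¹ᵁ W : X.Opens) : Set X) = f ⁻¹' (W : Set Y) from rfl, Set.image_inter_preimage, hE] at h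
  refine ⟨?_, isRetrocompact_of_pc hpc⟩
  -- `closure E \ E` is the image of a closed set
  let C : Set X := closure (f ⁻¹' E) ∩ (coborder (f ⁻¹' E))ᶜ
  have hC : IsClosed C := isClosed_closure.inter h1.isOpen_coborder.isClosed_compl
  have hCmem : ∀ x, x ∈ C ↔ x ∈ closure (f ⁻¹' E) ∧ f x ∉ E := fun x => by
    simp only [C, coborder_eq_union_closure_compl, Set.mem_inter_iff, Set.mem_compl_iff, Set.mem_union,
      Set.mem_preimage]
    tauto
  have himg : f '' C = closure E ∩ Eᶜ := by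
    refine Set.Subset.antisymm ?_ ?_
    · rintro _ ⟨x, hx, rfl⟩
      exact ⟨f.continuous.closure_preimage_subset E ((hCmem x).mp hx).1, ((hCmem x).mp hx).2⟩
    · rintro y ⟨hy, hyE⟩
      obtain ⟨y', hy', hy'E⟩ := exists_specializes_of_mem_closure_pc hpc hy
      obtain ⟨x, x', hx, rfl, rfl⟩ := self_of_univ hf hy'
      exact ⟨x, (hCmem x).mpr ⟨hx.mem_closed isClosed_closure (subset_closure hy'E), hyE⟩, rfl⟩
  have hclosed : IsClosed (f '' C) := by
    refine isClosed_image f hC ?_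
    rw [himg]
    rintro y y1 hy ⟨hyc, hyE⟩
    refine ⟨hy.mem_closed isClosed_closure hyc, fun hy1 => ?_⟩
    obtain ⟨e, he, heE⟩ := exists_specializes_of_mem_closure_pc hpc hyc
    obtain ⟨x, hx, hfx⟩ := exists_chain_lift f hf 2 ![e, y, y1] (by
      intro i j hij
      fin_cases i <;> fin_cases j <;>
        first | exact specializes_refl _ | exact he | exact hy | exact he.trans hy | exact absurd hij (by decide))
    obtain ⟨U, Z, hU, hZ, hUZ⟩ := h1
    have mem : ∀ i, f (x i) ∈ E → x i ∈ U ∩ Z := fun i h => hUZ ▸ h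
    have h0 := mem 0 (by rw [hfx 0]; exact heE)
    have h2 := mem 2 (by rw [hfx 2]; exact hy1)
    have h1' : x 1 ∈ f ⁻¹' E := hUZ ▸ ⟨(hx 1 2 (by decide)).mem_open hU h2.1, (hx 0 1 (by decide)).mem_closed hZ h0.2⟩
    exact hyE (by simpa [hfx 1] using h1')
  rw [isLocallyClosed_iff_isOpen_coborder, coborder_eq_union_closure_compl, ← isClosed_compl_iff,
    Set.compl_union, compl_compl, Set.inter_comm, ← himg]
  exact hclosed

end Groth.Misc8.Subtr
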