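import Groth.Agent.Misc8.SubtrLC
import Groth.Agent.Misc8.SubtrNoeth
import Mathlib.AlgebraicGeometry.Morphisms.FinitePresentation

/-! Descent of locally closed sets along finitely presented universally S-subtrusive morphisms. -/

set_option autoImplicit false
set_option linter.style.haveILetI false

open CategoryTheory AlgebraicGeometry Topology
open Groth.Limits (PC QCImage)

namespace Groth.Misc8.Subtr

universe u

variable {X Y : Scheme.{u}}

theorem isIndConstructible_image_of_isOpen (f : X ⟶ Y) [LocallyOfFinitePresentation f] {O : Set X} (hO : IsOpen O) :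
    ProCons.IsIndConstructible (f '' O) := by
  intro y
  obtain ⟨W, hW, hyW, -⟩ := exists_isAffineOpen_mem_and_subset (X := Y) (x := y) (U := ⊤) trivial
  refine ⟨(W : Set Y), W.2, hyW,
    {T | ∃ (N : X.Opens) (_ : IsAffineOpen N) (e : N ≤ f ⁻¹ᵁ W), (N : Set X) ⊆ O ∧
      T = Set.range (f.resLE W N e).base}, ?_, ?_⟩
  · rintro _ ⟨N, hN, e, -, rfl⟩
    haveI : IsAffine (N : Scheme.{u}) := hN
    haveI : IsAffine (W : Scheme.{u}) := hW
    haveI : QuasiCompact (f.resLE W N e) := inferInstance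
    have h := (f.resLE W N e).isLocallyConstructible_image IsLocallyConstructible.univ
    rwa [Set.image_univ] at h
  · ext w
    simp only [Set.mem_preimage, Set.mem_image, Set.mem_sUnion, Set.mem_setOf_eq]
    constructor
    · rintro ⟨x, hx, hxw⟩
      obtain ⟨N, hN, hxN, hle⟩ := exists_isAffineOpen_mem_and_subset (U := (⟨O, hO⟩ : X.Opens) ⊓ f ⁻¹ᵁ W)
        (x := x) ⟨hx, show f x ∈ W from hxw.symm ▸ w.2⟩
      refine ⟨_, ⟨N, hN, fun z hz => (hle hz).2, fun z hz => (hle hz).1, rfl⟩, ⟨x, hxN⟩, Subtype.ext ?_⟩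
      exact ((congrArg (fun g => g.base ⟨x, hxN⟩)
        (Scheme.Hom.resLE_comp_ι f (fun z hz => (hle hz).2 : N ≤ f ⁻¹ᵁ W))).trans rfl).trans hxw
    · rintro ⟨_, ⟨N, hN, e, hNO, rfl⟩, n, hn⟩
      refine ⟨N.ι n, hNO n.2, ?_⟩
      rw [← Scheme.Hom.comp_apply, ← Scheme.Hom.resLE_comp_ι f e, Scheme.Hom.comp_apply, hn]
      rfl

theorem isLocallyClosed_of_preimage (f : X ⟶ Y) [LocallyOfFinitePresentation f] [QuasiCompact f]
    (hf : Subtr.UnivSSubtrusive f) (E : Set Y) (h : IsLocallyClosed (f ⁻¹' E)) : IsLocallyClosed E := by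
  have hsurj := surjective_of_isSSubtrusive (self_of_univ hf)
  let U : Set X := coborder (f ⁻¹' E)
  let Z : Set X := closure (f ⁻¹' E)
  have hUo : IsOpen U := h.isOpen_coborder
  have hUZ : ∀ x, x ∈ U → x ∈ Z → f x ∈ E := fun x hU hZ => (coborder_inter_closure (s := f ⁻¹' E)).le ⟨hU, hZ⟩
  let E' : Set Y := (f '' Zᶜ)ᶜ
  have hE' : PC E' := Groth.Limits.pc_compl_of_isIndConstructible
    (isIndConstructible_image_of_isOpen f isClosed_closure.isOpen_compl)
  have hEE' : E ⊆ E' := fun y hy ⟨x, hx, hxy⟩ => hx (subset_closure (show f x ∈ E from hxy.symm ▸ hy))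
  let Q : Set X := Z ∩ Uᶜ
  have hQE : ∀ x ∈ Q, f x ∉ E := fun x hx hxE => hx.2 (subset_coborder (s := f ⁻¹' E) hxE)
  have hE'cl : ∀ z ∈ closure E, ∃ e, e ⤳ z ∧ ∀ x, f x = e → x ∈ Z := fun z hz => by
    obtain ⟨e, he, heE⟩ := exists_specializes_of_mem_closure_pc hE' (closure_mono hEE' hz)
    exact ⟨e, he, fun x hx => by_contra fun hxZ => heE ⟨x, hxZ, hx⟩⟩
  have hdisj : ∀ y ∈ E, y ∉ closure (f '' Q) := by
    intro y hy hcl
    let i := (Scheme.IdealSheafData.vanishingIdeal (X := X) ⟨Q, isClosed_closure.inter hUo.isClosed_compl⟩).subschemeι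
    have hr : Set.range i = Q := by
      rw [Scheme.IdealSheafData.range_subschemeι, Scheme.IdealSheafData.coe_support_vanishingIdeal]
      rfl
    have hrange : Set.range (i ≫ f) = f '' Q := by
      rw [Scheme.Hom.comp_base, TopCat.coe_comp, Set.range_comp, hr]
    rw [← hrange] at hcl
    obtain ⟨q, hq⟩ := Groth.DescentBase.exists_specializes_of_mem_closure_range _ hcl
    have hqE : (i ≫ f) q ∈ f '' Q := hrange.le ⟨q, rfl⟩
    obtain ⟨x₀, hx₀, hx₀q⟩ := hqE
    have hη : (i ≫ f) q ∈ closure E := by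
      rw [← hx₀q]
      exact f.continuous.closure_preimage_subset E hx₀.1
    obtain ⟨e, he, heZ⟩ := hE'cl _ hη
    obtain ⟨x, hx, hfx⟩ := exists_chain_lift f hf 2 ![e, (i ≫ f) q, y] (by
      intro a b hab
      fin_cases a <;> fin_cases b <;>
        first | exact specializes_refl _ | exact he | exact hq | exact he.trans hq | exact absurd hab (by decide))
    have h2 : x 2 ∈ U := subset_coborder (s := f ⁻¹' E) (show f (x 2) ∈ E by rw [hfx 2]; exact hy)
    have h0 : x 0 ∈ Z := heZ _ (hfx 0)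
    have h1 : f (x 1) ∈ E := hUZ _ ((hx 1 2 (by decide)).mem_open hUo h2)
      ((hx 0 1 (by decide)).mem_closed isClosed_closure h0)
    rw [hfx 1, show (![e, (i ≫ f) q, y] : Fin 3 → Y) 1 = (i ≫ f) q from rfl, ← hx₀q] at h1
    exact hQE x₀ hx₀ h1
  refine ⟨(closure (f '' Q))ᶜ, closure E, isClosed_closure.isOpen_compl, isClosed_closure, ?_⟩
  refine Set.Subset.antisymm (fun y hy => ⟨hdisj y hy, subset_closure hy⟩) ?_
  rintro z ⟨hzO, hz⟩
  obtain ⟨e, he, heZ⟩ := hE'cl z hz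
  obtain ⟨x, x', hx, hxz, hxe⟩ := self_of_univ hf he
  have hxZ : x ∈ Z := hx.mem_closed isClosed_closure (heZ x' hxe)
  have hxU : x ∈ U := by_contra fun hU => hzO (subset_closure ⟨x, ⟨hxZ, hU⟩, hxz⟩)
  exact hxz ▸ hUZ x hxU hxZ

end Groth.Misc8.Subtr
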