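import Groth.Agent.Misc8.SubtrCore
import Groth.Agent.Limits.DescentSetup
import Mathlib.AlgebraicGeometry.AffineTransitionLimit
import Mathlib.CategoryTheory.Comma.Over.Pullback

/-! The lifting property for ordered pairs of points passes to cofiltered limits. -/

set_option autoImplicit false
set_option linter.style.haveILetI false

universe u

open CategoryTheory Limits AlgebraicGeometry Groth.Limits

namespace Groth.Misc8.Subtr

theorem exists_point_of_isPullback {P X Y S : Scheme.{u}} {p : P ⟶ X} {q : P ⟶ Y} {f : X ⟶ S} {g : Y ⟶ S}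
    (h : IsPullback p q f g) (x : X) (y : Y) (hxy : f x = g y) : ∃ w : P, p w = x ∧ q w = y := by
  obtain ⟨z, h1, h2⟩ := Scheme.Pullback.exists_preimage_pullback x y hxy
  refine ⟨h.isoPullback.inv z, ?_, ?_⟩
  · rw [← Scheme.Hom.comp_apply, IsPullback.isoPullback_inv_fst]; exact h1
  · rw [← Scheme.Hom.comp_apply, IsPullback.isoPullback_inv_snd]; exact h2

variable {I : Type u} [Category.{u} I] [IsCofiltered I] {D : I ⥤ Scheme.{u}} {T X₀ : Scheme.{u}}
  (t : D ⟶ (Functor.const I).obj T) (f₀ : X₀ ⟶ T) [QuasiCompact f₀]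
  (c : Cone D) (τ : c.pt ⟶ T) (hτ : ∀ i, c.π.app i ≫ t.app i = τ)

include hτ in
theorem isSSubtrusive_limit [∀ (i j : I) (m : i ⟶ j), IsAffineHom (D.map m)] (hc : IsLimit c)
    (h : ∀ i, _root_.Subtr.IsSSubtrusive (pullback.snd f₀ (t.app i))) :
    _root_.Subtr.IsSSubtrusive (pullback.snd f₀ τ) := by
  intro y y' hy
  have hP : ∀ i, IsPullback ((bcCone t f₀ c τ hτ).π.app i) (pullback.snd f₀ τ) (pullback.snd f₀ (t.app i))
      (c.π.app i) := fun i => by
    refine IsPullback.of_right ?_ (bcCone_w t f₀ c τ hτ i).symm (IsPullback.of_hasPullback f₀ (t.app i))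
    rw [show (bcCone t f₀ c τ hτ).π.app i ≫ pullback.fst f₀ (t.app i) = pullback.fst f₀ τ from pullback.lift_fst _ _ _,
      hτ i]
    exact IsPullback.of_hasPullback f₀ τ
  haveI : ∀ {i j : I} (m : i ⟶ j), IsAffineHom ((bcDiagram t f₀).map m) :=
    fun {i j} m => isAffineHom_bcDiagram_map t f₀ i j m
  let A : ∀ i, Set ((bcDiagram t f₀).obj i) := fun i => closure ((pullback.snd f₀ (t.app i)).base ⁻¹' {(c.π.app i) y'})
  let C : I → Set ↥(pullback f₀ τ) := fun i => ((bcCone t f₀ c τ hτ).π.app i).base ⁻¹' A i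
  have hanti : ∀ {i j : I} (m : i ⟶ j), C i ⊆ C j := fun {i j} m w hw => by
    have e : (bcCone t f₀ c τ hτ).π.app i ≫ (bcDiagram t f₀).map m = (bcCone t f₀ c τ hτ).π.app j :=
      (bcCone t f₀ c τ hτ).w m
    show ((bcCone t f₀ c τ hτ).π.app j).base w ∈ A j
    rw [← e, Scheme.Hom.comp_apply]
    refine map_mem_closure ((bcDiagram t f₀).map m).continuous hw fun z hz => ?_
    show (pullback.snd f₀ (t.app j)).base (((bcDiagram t f₀).map m).base z) = (c.π.app j) y'
    have h1 : ((bcTrans t f₀).app j).base (((bcDiagram t f₀).map m).base z) =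
        (D.map m).base (((bcTrans t f₀).app i).base z) :=
      congrArg (fun g => g.base z) (isPullback_bcTrans t f₀ m).w
    refine h1.trans ((congrArg (D.map m).base (hz : ((bcTrans t f₀).app i).base z = (c.π.app i).base y')).trans ?_)
    exact congrArg (fun g => g.base y') (c.w m)
  let F : Set ↥(pullback f₀ τ) := (pullback.snd f₀ τ).base ⁻¹' {y}
  have hne : ∀ i, (F ∩ C i).Nonempty := fun i => by
    obtain ⟨x, x', hx, hxy, hxy'⟩ := h i (hy.map (c.π.app i).continuous)
    obtain ⟨w, hw1, hw2⟩ := exists_point_of_isPullback (hP i) x y hxy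
    refine ⟨w, hw2, ?_⟩
    show ((bcCone t f₀ c τ hτ).π.app i).base w ∈ A i
    rw [hw1]
    exact hx.mem_closed isClosed_closure (subset_closure hxy')
  have hFc : IsCompact F := (pullback.snd f₀ τ).isCompact_preimage_singleton y
  obtain ⟨x, hxF, hxC⟩ := hFc.inter_iInter_nonempty C
    (fun i => isClosed_closure.preimage ((bcCone t f₀ c τ hτ).π.app i).continuous) (fun s => by
      classical
      obtain ⟨k, hk⟩ := IsCofiltered.inf_objs_exists s
      obtain ⟨w, hwF, hwC⟩ := hne k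
      exact ⟨w, hwF, Set.mem_iInter₂.mpr fun i hi => hanti (hk hi).some hwC⟩)
  have hcl : x ∈ closure ((pullback.snd f₀ τ).base ⁻¹' {y'}) := by
    rw [mem_closure_iff]
    intro O hO hxO
    obtain ⟨_, ⟨i, V, -, rfl⟩, hxV, hVO⟩ := TopologicalSpace.Opens.isBasis_iff_nbhd.mp
      (isBasis_preimage_isAffineOpen _ _ (isLimitBcCone t f₀ c τ hτ hc)) (U := ⟨O, hO⟩) hxO
    obtain ⟨z, hzV, hz⟩ := mem_closure_iff.mp (Set.mem_iInter.mp hxC i) _ V.2 hxV
    obtain ⟨w, hw1, hw2⟩ := exists_point_of_isPullback (hP i) z y' hz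
    exact ⟨w, hVO (show ((bcCone t f₀ c τ hτ).π.app i).base w ∈ V from hw1.symm ▸ hzV), hw2⟩
  obtain ⟨x', hx', hfx'⟩ := exists_specializes_of_mem_closure_fibre _ y' hcl
  exact ⟨x, x', hx', hxF, hfx'⟩

end Groth.Misc8.Subtr
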