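import Groth.Agent.Misc8.SymOrbit
import Mathlib.RingTheory.PiTensorProduct
import Mathlib.Data.Finset.Powerset
import Mathlib.Tactic

/-! The algebra of symmetric tensors of a flat algebra is generated by elementary symmetric tensors. -/

namespace Groth.Misc8.SymGen

open scoped TensorProduct
open PiTensorProduct FlatTensor SymOrbit

universe u

variable {R : Type u} [CommRing R] {A : Type u} [CommRing A] [Algebra R A] {n : ℕ}

def elemSet (R : Type u) [CommRing R] (A : Type u) [CommRing A] [Algebra R A] (n : ℕ) : Set (T R n A) :=
  {t : ⨂[R] _ : Fin n, A | ∃ (a : A) (j : ℕ),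
    t = ∑ I ∈ (Finset.univ : Finset (Fin n)).powersetCard j,
      PiTensorProduct.tprod R (fun i : Fin n => if i ∈ I then a else (1 : A))}

theorem isSym_elem {t : T R n A} (ht : t ∈ elemSet R A n) : IsSym t := by
  obtain ⟨a, j, rfl⟩ := ht
  intro σ
  rw [map_sum]
  simp only [PiTensorProduct.reindex_tprod]
  refine Finset.sum_equiv (Equiv.finsetCongr σ) (fun I => by simp [Finset.mem_powersetCard]) fun I _ => ?_
  congr 1
  funext i
  simp [Equiv.finsetCongr_apply]

variable {κ : Type} [Fintype κ] [DecidableEq κ]

/-- The number of places whose colour is not the trivial colour `z`. -/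
def nontriv (z : κ) (g : Fin n → κ) : ℕ := (Finset.univ.filter fun i => g i ≠ z).card

theorem nontriv_eq_of_mult_eq (z : κ) {g h : Fin n → κ} (e : mult g = mult h) : nontriv z g = nontriv z h := by
  obtain ⟨σ, hσ⟩ := exists_perm_of_mult_eq e
  exact Finset.card_equiv σ (by simp [hσ])

theorem esum_mem (m : ℕ) : ∀ {κ : Type} [Fintype κ] [DecidableEq κ] (z : κ) (a : κ → A), a z = 1 →
    ∀ g : Fin n → κ, nontriv z g = m → esum (n := n) R a (mult g) ∈ Algebra.adjoin R (elemSet R A n) := by
  classical
  induction m using Nat.strong_induction_on with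
  | _ m IH =>
    intro κ _ _ z a hz g hg
    by_cases hall : ∀ i, g i = z
    · have : esum (n := n) R a (mult g) = 1 := by
        rw [esum, Finset.sum_eq_single g]
        · simp only [hall, hz]
          exact PiTensorProduct.one_def.symm
        · intro h hh hne
          refine absurd ?_ hne
          obtain ⟨σ, hσ⟩ := exists_perm_of_mult_eq (Finset.mem_filter.mp hh).2.symm
          funext i
          rw [← σ.apply_symm_apply i, hσ, hall]
          exact (hall _).symm
        · simp
      rw [this]
      exact one_mem _
    push Not at hall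
    obtain ⟨i₀, hi₀⟩ := hall
    set c := g i₀ with hc
    set I₀ : Finset (Fin n) := Finset.univ.filter fun i => g i = c with hI₀
    set g' : Fin n → κ := fun i => if i ∈ I₀ then z else g i with hg'
    have hI₀pos : 0 < I₀.card := Finset.card_pos.mpr ⟨i₀, by simp [hI₀, hc]⟩
    have hdecomp : nontriv z g' + I₀.card = m := by
      rw [← hg, nontriv, nontriv, ← Finset.card_union_of_disjoint]
      · congr 1
        ext i
        by_cases hi : g i = c <;> simp [hI₀, hg', hi, hi₀]
      · rw [Finset.disjoint_left]
        intro i hi hi'
        simp [hI₀] at hi'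
        simp [hg', hI₀, hi'] at hi
    have h' : esum (n := n) R a (mult g') ∈ Algebra.adjoin R (elemSet R A n) :=
      IH _ (by omega) z a hz g' rfl
    set P : Finset (Finset (Fin n) × (Fin n → κ)) :=
      (Finset.univ : Finset (Fin n)).powersetCard I₀.card ×ˢ Finset.univ.filter (fun h => mult h = mult g') with hP
    let val : Finset (Fin n) × (Fin n → κ) → T R n A := fun p =>
      tprod R (fun i => (if i ∈ p.1 then a c else 1) * a (p.2 i))
    have hprod : (∑ I ∈ (Finset.univ : Finset (Fin n)).powersetCard I₀.card,
        tprod R (fun i : Fin n => if i ∈ I then a c else (1 : A))) * esum (n := n) R a (mult g') =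
        ∑ p ∈ P, val p := by
      rw [esum, Finset.sum_mul_sum, hP, Finset.sum_product]
      simp only [PiTensorProduct.tprod_mul_tprod]
      rfl
    set good : Finset (Fin n) × (Fin n → κ) → Prop := fun p => ∀ i ∈ p.1, p.2 i = z with hgood
    have hgoodsum : ∑ p ∈ P.filter good, val p = esum (n := n) R a (mult g) := by
      rw [esum]
      refine Finset.sum_bij' (fun p _ => fun i => if i ∈ p.1 then c else p.2 i)
        (fun h _ => (Finset.univ.filter (fun i => h i = c), fun i => if h i = c then z else h i)) ?_ ?_ ?_ ?_ ?_
      · intro p hp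
        obtain ⟨hpP, hpg⟩ := Finset.mem_filter.mp hp
        rw [hP, Finset.mem_product, Finset.mem_powersetCard, Finset.mem_filter] at hpP
        obtain ⟨⟨-, hcard⟩, -, hmult⟩ := hpP
        refine Finset.mem_filter.mpr ⟨Finset.mem_univ _, ?_⟩
        have hnc : ∀ i, p.2 i ≠ c := by
          intro i hi
          obtain ⟨σ, hσ⟩ := exists_perm_of_mult_eq hmult
          have h2 : g' (σ i) = c := by rw [hσ, hi]
          by_cases hj : g (σ i) = c
          · simp [hg', hI₀, hj] at h2
            exact hi₀ h2.symm
          · simp [hg', hI₀, hj] at h2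
        funext d
        have key : ∀ (I : Finset (Fin n)) (h : Fin n → κ), (∀ i ∈ I, h i = z) → (∀ i, h i ≠ c) →
            mult (fun i => if i ∈ I then c else h i) d + (if d = z then I.card else 0) =
              mult h d + (if d = c then I.card else 0) := by
          intro I h h1 h2
          simp only [mult]
          rw [Finset.card_filter, Finset.card_filter]
          have e : ∀ (q : Prop) [Decidable q], (if q then I.card else 0) =
              ∑ i : Fin n, if i ∈ I ∧ q then 1 else 0 := by
            intro q _
            by_cases hq : q <;> simp [hq, Finset.sum_boole]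
          rw [e (d = z), e (d = c), ← Finset.sum_add_distrib, ← Finset.sum_add_distrib]
          refine Finset.sum_congr rfl fun i _ => ?_
          by_cases hi : i ∈ I
          · simp only [hi, if_true, true_and, h1 i hi, eq_comm (a := c), eq_comm (a := z)]
            omega
          · simp [hi]
        have k1 := key p.1 p.2 hpg hnc
        have k2 := key I₀ g' (fun i hi => by simp [hg', hi]) (fun i => by
          by_cases hj : g i = c <;> simp [hg', hI₀, hj, Ne.symm hi₀])
        have : (fun i => if i ∈ I₀ then c else g' i) = g := by
          funext i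
          by_cases hj : g i = c <;> simp [hg', hI₀, hj]
        rw [this, ← hmult, ← hcard] at k2
        omega
      · intro h hh
        obtain ⟨σ, hσ⟩ := exists_perm_of_mult_eq (Finset.mem_filter.mp hh).2.symm
        refine Finset.mem_filter.mpr ⟨?_, fun i hi => ?_⟩
        · rw [hP, Finset.mem_product, Finset.mem_powersetCard, Finset.mem_filter]
          refine ⟨⟨Finset.subset_univ _, (Finset.card_equiv σ (by simp [hI₀, hσ])).symm⟩, Finset.mem_univ _, ?_⟩
          rw [← mult_comp _ σ]
          congr 1
          funext i
          simp [hg', hI₀, hσ]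
        · simp only [Finset.mem_filter, Finset.mem_univ, true_and] at hi
          simp [hi]
      · intro p hp
        obtain ⟨hpP, hpg⟩ := Finset.mem_filter.mp hp
        rw [hP, Finset.mem_product, Finset.mem_powersetCard, Finset.mem_filter] at hpP
        obtain ⟨⟨-, hcard⟩, -, hmult⟩ := hpP
        have hnc : ∀ i, p.2 i ≠ c := by
          intro i hi
          obtain ⟨σ, hσ⟩ := exists_perm_of_mult_eq hmult
          have h2 : g' (σ i) = c := by rw [hσ, hi]
          by_cases hj : g (σ i) = c
          · simp [hg', hI₀, hj] at h2
            exact hi₀ h2.symm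
          · simp [hg', hI₀, hj] at h2
        apply Prod.ext
        · ext i
          by_cases hi : i ∈ p.1 <;> simp [hi, hnc i]
        · funext i
          by_cases hi : i ∈ p.1
          · simp [hi, hpg i hi]
          · simp [hi, hnc i]
      · intro h _
        funext i
        by_cases hi : h i = c <;> simp [hi]
      · intro p hp
        obtain ⟨-, hpg⟩ := Finset.mem_filter.mp hp
        show PiTensorProduct.tprod R _ = PiTensorProduct.tprod R _
        congr 1
        funext i
        by_cases hi : i ∈ p.1
        · simp [hi, hpg i hi, hz]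
        · simp [hi]
    have hbad : ∑ p ∈ P.filter (fun p => ¬ good p), val p ∈ Algebra.adjoin R (elemSet R A n) := by
      let lab : Finset (Fin n) × (Fin n → κ) → (Fin n → Bool × κ) := fun p i => (decide (i ∈ p.1), p.2 i)
      let a₂ : Bool × κ → A := fun q => (if q.1 then a c else 1) * a q.2
      have hlab : Function.Injective lab := by
        intro p q h
        apply Prod.ext
        · ext i
          simpa [lab] using congrArg Prod.fst (congrFun h i)
        · funext i
          simpa [lab] using congrArg Prod.snd (congrFun h i)
      set S := (P.filter (fun p => ¬ good p)).image lab with hS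
      have hval : ∑ p ∈ P.filter (fun p => ¬ good p), val p =
          ∑ h ∈ S, tprod R (fun i => a₂ (h i)) := by
        rw [hS, Finset.sum_image (fun p _ q _ h => hlab h)]
        refine Finset.sum_congr rfl fun p _ => ?_
        show PiTensorProduct.tprod R _ = PiTensorProduct.tprod R _
        congr 1
        funext i
        simp [lab, a₂]
      have hsat : ∀ h ∈ S, ∀ h', mult h' = mult h → h' ∈ S := by
        intro h hh h' he
        obtain ⟨σ, hσ⟩ := exists_perm_of_mult_eq he
        rw [hS, Finset.mem_image] at hh ⊢
        obtain ⟨p, hp, rfl⟩ := hh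
        refine ⟨(Finset.univ.filter fun i => σ i ∈ p.1, fun i => p.2 (σ i)), ?_, funext fun i => ?_⟩
        · simp only [Finset.mem_filter, hP, Finset.mem_product, Finset.mem_powersetCard] at hp ⊢
          refine ⟨⟨⟨Finset.subset_univ _, ?_⟩, Finset.mem_univ _, ?_⟩, ?_⟩
          · rw [← hp.1.1.2]
            exact Finset.card_equiv σ (by simp)
          · rw [← hp.1.2.2]; exact mult_comp p.2 σ
          · intro hgd
            apply hp.2
            intro i hi
            simpa using hgd (σ.symm i) (by simpa using hi)
        · rw [← hσ i]
          simp [lab]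
      rw [hval, ← Finset.sum_fiberwise_of_maps_to (g := mult) (t := S.image mult)
        (fun h hh => Finset.mem_image_of_mem _ hh)]
      refine sum_mem fun v hv => ?_
      obtain ⟨h₀, hh₀, rfl⟩ := Finset.mem_image.mp hv
      have hfull : S.filter (fun h => mult h = mult h₀) = Finset.univ.filter (fun h => mult h = mult h₀) := by
        ext h
        simp only [Finset.mem_filter, Finset.mem_univ, true_and]
        exact ⟨And.right, fun he => ⟨hsat h₀ hh₀ h he, he⟩⟩
      rw [hfull]
      refine IH (nontriv (false, z) h₀) ?_ (false, z) a₂ (by simp [a₂, hz]) h₀ rfl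
      obtain ⟨p, hp, rfl⟩ := Finset.mem_image.mp hh₀
      simp only [Finset.mem_filter, hP, Finset.mem_product, Finset.mem_powersetCard] at hp
      obtain ⟨⟨⟨-, hcard⟩, -, hmult⟩, hng⟩ := hp
      simp only [hgood, not_forall] at hng
      obtain ⟨i₁, hi₁, hi₁'⟩ := hng
      set K := Finset.univ.filter fun i => p.2 i ≠ z
      have e1 : nontriv (false, z) (lab p) = (p.1 ∪ K).card := by
        rw [nontriv]
        congr 1
        ext i
        by_cases hi : i ∈ p.1 <;> simp [lab, K, hi]
      have e2 : K.card = nontriv z g' := nontriv_eq_of_mult_eq z hmult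
      have e3 : 0 < (p.1 ∩ K).card := Finset.card_pos.mpr ⟨i₁, by simp [K, hi₁, hi₁']⟩
      have e4 := Finset.card_union_add_card_inter p.1 K
      omega
    have hσ : (∑ I ∈ (Finset.univ : Finset (Fin n)).powersetCard I₀.card,
        tprod R (fun i : Fin n => if i ∈ I then a c else (1 : A))) ∈ Algebra.adjoin R (elemSet R A n) :=
      Algebra.subset_adjoin ⟨a c, I₀.card, rfl⟩
    have := sub_mem (mul_mem hσ h') hbad
    rwa [hprod, ← Finset.sum_filter_add_sum_filter_not P good, hgoodsum, add_sub_cancel_right] at this

theorem TS_eq_adjoin [Module.Flat R A] (n : ℕ) :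
    SymTen.TS R A n = Algebra.adjoin R (elemSet R A n) := by
  classical
  apply le_antisymm
  · intro t ht
    obtain ⟨l, x, s, hs, rfl⟩ := exists_sym_lift_one (M := A) t ht
    rw [eq_sum_esum s hs, map_sum]
    refine sum_mem fun v hv => ?_
    rw [map_smul, map_esum]
    refine Subalgebra.smul_mem _ ?_ _
    obtain ⟨g, -, rfl⟩ := Finset.mem_image.mp hv
    let a : Option (Fin l) → A := fun o => o.elim 1 fun c => x (Pi.basisFun R (Fin l) c)
    have he : esum (n := n) R (fun c => x (Pi.basisFun R (Fin l) c)) (mult g) =
        esum (n := n) R a (mult fun i => some (g i)) := by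
      simp only [esum]
      refine Finset.sum_bij (fun h _ => fun i => some (h i)) ?_ ?_ ?_ ?_
      · intro h hh
        obtain ⟨σ, hσ⟩ := exists_perm_of_mult_eq (Finset.mem_filter.mp hh).2
        refine Finset.mem_filter.mpr ⟨Finset.mem_univ _, ?_⟩
        rw [← mult_comp (fun i => some (g i)) σ]
        congr 1
        funext i
        exact congrArg some (hσ i).symm
      · intro h₁ _ h₂ _ e
        funext i
        exact Option.some_injective _ (congrFun e i)
      · intro h hh
        obtain ⟨σ, hσ⟩ := exists_perm_of_mult_eq (Finset.mem_filter.mp hh).2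
        exact ⟨fun i => g (σ i), Finset.mem_filter.mpr ⟨Finset.mem_univ _, mult_comp g σ⟩,
          funext fun i => hσ i⟩
      · intro h _; rfl
    rw [he]
    exact esum_mem _ none a rfl _ rfl
  · exact Algebra.adjoin_le fun t ht => isSym_elem ht

end Groth.Misc8.SymGen
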