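import Groth.Prelude.Def_PolLaw
import Groth.Prelude.Def_PolLaw2
import Groth.Agent.Misc8.AltSpan
import Mathlib.LinearAlgebra.Determinant
import Mathlib.RingTheory.Norm.Basic
import Mathlib.Algebra.MvPolynomial.CommRing

/-! The action of symmetric tensors on the top exterior power of a finite free module. -/

namespace Groth.Misc8.TopWedge

open scoped TensorProduct
open PiTensorProduct

universe u

section Wedge

variable {R : Type u} [CommRing R] {P : Type u} [AddCommGroup P] [Module R P] {d : ℕ}
  (b : Module.Basis (Fin d) R P)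

noncomputable def D : (⨂[R] _ : Fin d, P) →ₗ[R] R := PiTensorProduct.lift b.det.toMultilinearMap

noncomputable def e₀ : ⨂[R] _ : Fin d, P := tprod R (b : Fin d → P)

theorem D_tprod (p : Fin d → P) : D b (tprod R p) = b.det p := by
  simp [D]

theorem D_e₀ : D b (e₀ b) = 1 := by
  rw [e₀, D_tprod, Module.Basis.det_self]

theorem D_eq_zero_of_mem {y : ⨂[R] _ : Fin d, P} (hy : y ∈ SymTen.altSpan R P d) : D b y = 0 := by
  induction hy using Submodule.span_induction with
  | mem x hx =>
    obtain ⟨p, i, j, hij, hp, rfl⟩ := hx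
    rw [D_tprod]
    exact b.det.map_eq_zero_of_eq p hp hij
  | zero => simp
  | add a c _ _ ha hc => simp [ha, hc]
  | smul c a _ ha => simp [ha]

theorem perm_tprod_mem (σ : Equiv.Perm (Fin d)) :
    tprod R (fun k => b (σ k)) - ((Equiv.Perm.sign σ : ℤ) : R) • e₀ b ∈ SymTen.altSpan R P d := by
  induction σ using Equiv.Perm.swap_induction_on' with
  | one => simp [e₀]
  | mul_swap f x y hxy ih =>
    have h := sub_mem (AltSpan.tprod_add_swap_mem (R := R) hxy (fun k => b (f k))) ih
    convert h using 1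
    rw [Equiv.Perm.sign_mul, Equiv.Perm.sign_swap hxy]
    simp only [Equiv.Perm.mul_apply, mul_neg, mul_one, Units.val_neg, Int.cast_neg, neg_smul]
    abel

theorem sub_D_smul_mem (y : ⨂[R] _ : Fin d, P) : y - D b y • e₀ b ∈ SymTen.altSpan R P d := by
  classical
  suffices h : (SymTen.altSpan R P d).mkQ = (SymTen.altSpan R P d).mkQ ∘ₗ (D b).smulRight (e₀ b) by
    rw [← Submodule.Quotient.eq]
    exact LinearMap.congr_fun h y
  apply (Basis.piTensorProduct (fun _ : Fin d => b)).ext
  intro g
  rw [Basis.piTensorProduct_apply]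
  simp only [LinearMap.comp_apply, LinearMap.smulRight_apply, Submodule.mkQ_apply, Submodule.Quotient.eq,
    D_tprod]
  by_cases hg : Function.Injective g
  · have e : b.det (fun k => b (g k)) =
        ((Equiv.Perm.sign (Equiv.ofBijective g hg.bijective_of_finite) : ℤ) : R) := by
      have := b.det.map_perm (b : Fin d → P) (Equiv.ofBijective g hg.bijective_of_finite)
      simpa [Units.smul_def, Module.Basis.det_self, Function.comp_def] using this
    rw [e]
    exact perm_tprod_mem b (Equiv.ofBijective g hg.bijective_of_finite)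
  · obtain ⟨i, j, hgij, hij⟩ := Function.not_injective_iff.mp hg
    have hm : tprod R (fun k => b (g k)) ∈ SymTen.altSpan R P d :=
      Submodule.subset_span ⟨_, i, j, hij, by simp only [hgij], rfl⟩
    rw [b.det.map_eq_zero_of_eq _ (by simp only [hgij]) hij, zero_smul, sub_zero]
    exact hm

end Wedge

section Algebra

variable {R : Type u} [CommRing R] {B : Type u} [CommRing B] [Algebra R B] {d : ℕ}
  (b : Module.Basis (Fin d) R B)

/-- The linear form `a ↦ D (a · e₀)`. -/
noncomputable def ψ : (⨂[R] _ : Fin d, B) →ₗ[R] R :=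
  D b ∘ₗ ((SymTen.tpowAct R B B d).flip (e₀ b))

theorem tpowAct_tprod (a p : Fin d → B) :
    SymTen.tpowAct R B B d (tprod R a) (tprod R p) = tprod R (fun k => a k * p k) := by
  simp [SymTen.tpowAct, PiTensorProduct.map_tprod]

theorem tpowAct_eq_mul (a x : ⨂[R] _ : Fin d, B) : SymTen.tpowAct R B B d a x = a * x := by
  induction a using PiTensorProduct.induction_on with
  | add a a' ha ha' => simp only [map_add, LinearMap.add_apply, add_mul, ha, ha']
  | smul_tprod c f =>
    induction x using PiTensorProduct.induction_on with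
    | add x y hx hy => simp only [map_add, mul_add, hx, hy]
    | smul_tprod c' p =>
      simp only [map_smul, LinearMap.smul_apply, tpowAct_tprod, smul_mul_assoc, mul_smul_comm,
        PiTensorProduct.tprod_mul_tprod]
      congr 1

theorem ψ_apply (a : ⨂[R] _ : Fin d, B) : ψ b a = D b (a * e₀ b) := by
  simp [ψ, tpowAct_eq_mul]

theorem mul_sub_smul_mem [Module.Finite R B] [Module.Projective R B] (a : ⨂[R] _ : Fin d, B)
    (ha : a ∈ SymTen.TS R B d) (x : ⨂[R] _ : Fin d, B) :
    a * x - ψ b a • x ∈ SymTen.altSpan R B d := by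
  have h1 : a * (x - D b x • e₀ b) ∈ SymTen.altSpan R B d := by
    rw [← tpowAct_eq_mul]
    exact AltSpan.act_mem B a ha _ (sub_D_smul_mem b x)
  have h2 : a * e₀ b - ψ b a • e₀ b ∈ SymTen.altSpan R B d := by
    rw [ψ_apply]; exact sub_D_smul_mem b _
  have h3 := sub_mem (add_mem h1 (Submodule.smul_mem _ (D b x) h2))
    (Submodule.smul_mem _ (ψ b a) (sub_D_smul_mem b x))
  convert h3 using 1
  simp only [mul_sub, mul_smul_comm, smul_sub, smul_smul, mul_comm (ψ b a) (D b x)]
  abel

noncomputable def χ [Module.Finite R B] [Module.Projective R B] : SymTen.TS R B d →ₐ[R] R :=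
  AlgHom.ofLinearMap ((ψ b).comp (SymTen.TS R B d).val.toLinearMap)
    (by simp [ψ_apply, D_e₀])
    (fun s t => by
      simp only [LinearMap.comp_apply, AlgHom.toLinearMap_apply, Subalgebra.coe_val, MulMemClass.coe_mul]
      rw [ψ_apply, mul_assoc]
      have h := D_eq_zero_of_mem b (mul_sub_smul_mem b s.1 s.2 (t.1 * e₀ b))
      rw [map_sub, map_smul, sub_eq_zero] at h
      rw [h, smul_eq_mul, ψ_apply b t.1])

theorem χ_apply [Module.Finite R B] [Module.Projective R B] (t : SymTen.TS R B d) : χ b t = ψ b t.1 := rfl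

theorem ψ_tprod (a : Fin d → B) : ψ b (tprod R a) = b.det (fun k => a k * b k) := by
  rw [ψ_apply, e₀, PiTensorProduct.tprod_mul_tprod, D_tprod]
  rfl

theorem χ_tpow [Module.Finite R B] [Module.Projective R B] (r : B) :
    χ b (SymTen.tpow R B d r) = Algebra.norm R r := by
  rw [χ_apply]
  show ψ b (tprod R fun _ => r) = _
  rw [ψ_tprod, Algebra.norm_eq_matrix_det b, Module.Basis.det_apply]
  congr 1
  ext i j
  rw [Module.Basis.toMatrix_apply, Algebra.leftMulMatrix_eq_repr_mul]

theorem singles_prod {ι : Type} [Fintype ι] [DecidableEq ι] (a : ι → B) :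
    ∏ j, PiTensorProduct.singleAlgHom (R := R) (A := fun _ : ι => B) j (a j) = tprod R a := by
  simp only [PiTensorProduct.singleAlgHom_apply, MonoidHom.mulSingle_apply]
  rw [← PiTensorProduct.tprod_prod]
  exact congrArg _ (Finset.univ_prod_mulSingle a)

theorem perm_singleAlgHom (σ : Equiv.Perm (Fin d)) (j : Fin d) (x : B) :
    SymTen.perm R B d σ (PiTensorProduct.singleAlgHom (R := R) (A := fun _ : Fin d => B) j x) =
      PiTensorProduct.singleAlgHom (R := R) (A := fun _ : Fin d => B) (σ j) x := by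
  simp only [PiTensorProduct.singleAlgHom_apply, SymTen.perm_tprod]
  congr 1
  funext i
  rcases eq_or_ne i (σ j) with rfl | hi
  · simp
  · have : σ.symm i ≠ j := fun e => hi (by rw [← e, Equiv.apply_symm_apply])
    simp [hi, this]

theorem postcomp_perm (σ : Equiv.Perm (Fin d)) :
    PolLaw.MulLaw.postcomp (SymTen.perm R B d σ) (SymTen.tpowLaw R B d) = SymTen.tpowLaw R B d := by
  apply PolLaw.MulLaw.ext
  ext S _ _ x
  show (SymTen.perm R B d σ).toLinearMap.lTensor S ((SymTen.tpowLaw R B d).law.toFun' S x) = _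
  rw [PolLaw.lTensor_algHom_apply]
  unfold SymTen.tpowLaw
  simp only [PolLaw.MulLaw.prodMap_toFun', map_prod]
  refine Fintype.prod_equiv σ _ _ fun j => ?_
  have : ∀ (g : B →ₐ[R] ⨂[R] _ : Fin d, B), Algebra.TensorProduct.map (AlgHom.id S S) (SymTen.perm R B d σ)
      (Algebra.TensorProduct.map (AlgHom.id S S) g x) =
      Algebra.TensorProduct.map (AlgHom.id S S) ((SymTen.perm R B d σ).comp g) x := fun g => by
    induction x using TensorProduct.induction_on with
    | zero => simp
    | tmul s a => simp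
    | add a c ha hc => simp only [map_add, ha, hc]
  rw [this]
  congr 2
  exact AlgHom.ext fun x => perm_singleAlgHom σ j x

theorem lTensor_ψ_prod (S : Type u) [CommRing S] [Algebra R S] [Module.Free R B] [Module.Finite R B]
    (x : S ⊗[R] B) :
    (ψ b).lTensor S ((SymTen.tpowLaw R B d).law.toFun' S x) = (Algebra.norm S x) ⊗ₜ[R] (1 : R) := by
  classical
  obtain ⟨s, rfl⟩ : ∃ s : Fin d → S, x = ∑ k, s k ⊗ₜ[R] b k := by
    refine ⟨fun k => (Algebra.TensorProduct.basis S b).repr x k, ?_⟩
    conv_lhs => rw [← (Algebra.TensorProduct.basis S b).sum_repr x]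
    simp [TensorProduct.smul_tmul', Algebra.TensorProduct.basis_apply]
  have htp : ∀ g : Fin d → Fin d, ∏ j, ((s (g j)) ⊗ₜ[R] PiTensorProduct.singleAlgHom (R := R)
      (A := fun _ : Fin d => B) j (b (g j))) = (∏ j, s (g j)) ⊗ₜ[R] tprod R (fun j => b (g j)) := by
    intro g
    rw [← singles_prod (fun j => b (g j))]
    induction (Finset.univ : Finset (Fin d)) using Finset.induction_on with
    | empty => simp [Algebra.TensorProduct.one_def]
    | insert j t hj ih =>
      rw [Finset.prod_insert hj, Finset.prod_insert hj, Finset.prod_insert hj, ih,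
        Algebra.TensorProduct.tmul_mul_tmul]
  unfold SymTen.tpowLaw
  simp only [PolLaw.MulLaw.prodMap_toFun', map_sum, Algebra.TensorProduct.map_tmul, AlgHom.id_apply]
  rw [Fintype.prod_sum]
  simp only [htp, map_sum, LinearMap.lTensor_tmul, ψ_tprod]
  rw [Algebra.norm_eq_matrix_det (Algebra.TensorProduct.basis S b)]
  set M : Fin d → Fin d → Fin d → S := fun k j i => algebraMap R S (b.repr (b k * b j) i) with hM
  have hmat : Algebra.leftMulMatrix (Algebra.TensorProduct.basis S b) (∑ k, s k ⊗ₜ[R] b k) =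
      Matrix.transpose (Matrix.of fun j => ∑ k, s k • M k j) := by
    ext i j
    rw [Algebra.leftMulMatrix_eq_repr_mul, Algebra.TensorProduct.basis_apply, Finset.sum_mul, map_sum]
    simp only [Matrix.transpose_apply, Matrix.of_apply, Finset.sum_apply, Pi.smul_apply, Finsupp.coe_finsetSum,
      Algebra.TensorProduct.tmul_mul_tmul, mul_one, Algebra.TensorProduct.basis_repr_tmul, Finsupp.coe_smul,
      Finsupp.mapRange_apply, smul_eq_mul, hM]
  rw [hmat, Matrix.det_transpose]
  have hd : Matrix.det (Matrix.of fun j => ∑ k, s k • M k j) =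
      ∑ g : Fin d → Fin d, (∏ j, s (g j)) • Matrix.det (Matrix.of fun j => M (g j) j) := by
    show Matrix.detRowAlternating.toMultilinearMap (fun j => ∑ k, s k • M k j) = _
    rw [MultilinearMap.map_sum]
    refine Finset.sum_congr rfl fun g _ => ?_
    rw [MultilinearMap.map_smul_univ]
    rfl
  rw [hd, TensorProduct.sum_tmul]
  refine Finset.sum_congr rfl fun g _ => ?_
  have he : Matrix.det (Matrix.of fun j => M (g j) j) = algebraMap R S (b.det fun j => b (g j) * b j) := by
    rw [← Matrix.det_transpose, Module.Basis.det_apply, RingHom.map_det]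
    congr 1
  rw [he, smul_eq_mul, mul_comm, ← Algebra.smul_def, TensorProduct.smul_tmul]
  rw [smul_eq_mul, mul_one]

theorem postcomp_eq_normLaw [Module.Free R B] [Module.Finite R B] (hd : Module.finrank R B = d)
    (S : Type u) [CommSemiring S] [Algebra R S] (x : S ⊗[R] B) :
    (ψ b).lTensor S ((SymTen.tpowLaw R B d).law.toFun' S x) = (PolLaw.normLaw R B d hd).law.toFun' S x := by
  classical
  obtain ⟨n, s, a, rfl⟩ : ∃ (n : ℕ) (s : Fin n → S) (a : Fin n → B), x = ∑ k, s k ⊗ₜ[R] a k := by
    obtain ⟨t, rfl⟩ := TensorProduct.exists_finset x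
    exact ⟨t.card, fun k => ((t.equivFin.symm k : S × B)).1, fun k => ((t.equivFin.symm k : S × B)).2,
      by rw [← Finset.sum_coe_sort t, ← t.equivFin.symm.sum_comp]⟩
  let S₀ : Type u := MvPolynomial (ULift.{u} (Fin n)) R
  let φ₀ : S₀ →ₐ[R] S := MvPolynomial.aeval fun k => s k.down
  let x₀ : S₀ ⊗[R] B := ∑ k, MvPolynomial.X ⟨k⟩ ⊗ₜ[R] a k
  have hx : (∑ k, s k ⊗ₜ[R] a k) = φ₀.toLinearMap.rTensor B x₀ := by
    simp only [x₀, φ₀, map_sum, LinearMap.rTensor_tmul, AlgHom.toLinearMap_apply]
    refine Finset.sum_congr rfl fun k _ => ?_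
    exact congrArg (fun y => y ⊗ₜ[R] a k) (MvPolynomial.aeval_X (fun k => s k.down) (⟨k⟩ : ULift.{u} (Fin n))).symm
  rw [hx]
  have hc1 := congrFun ((SymTen.tpowLaw R B d).law.isCompat' φ₀) x₀
  have hc2 := congrFun ((PolLaw.normLaw R B d hd).law.isCompat' φ₀) x₀
  simp only [Function.comp_apply] at hc1 hc2
  rw [← hc1, ← hc2, ← LinearMap.comp_apply, LinearMap.lTensor_comp_rTensor, ← LinearMap.rTensor_comp_lTensor,
    LinearMap.comp_apply]
  congr 1
  rw [lTensor_ψ_prod, PolLaw.normLaw_apply]

end Algebra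

end Groth.Misc8.TopWedge
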