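import Mathlib.RingTheory.MvPolynomial.Homogeneous
import Mathlib.RingTheory.Finiteness.Basic
import Mathlib.RingTheory.AdjoinRoot
import Mathlib.Algebra.MvPolynomial.Equiv
import Mathlib.Tactic

/-! Leading coefficients after a twisted translation. -/

namespace Groth.Misc8.Translate

open Finset MvPolynomial

universe u v

theorem coeff_prod_top {ι : Type*} {A : Type*} [CommRing A] (s : Finset ι) (f : ι → Polynomial A) (d : ι → ℕ)
    (h : ∀ i ∈ s, (f i).natDegree ≤ d i) :
    (∏ i ∈ s, f i).natDegree ≤ ∑ i ∈ s, d i ∧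
      (∏ i ∈ s, f i).coeff (∑ i ∈ s, d i) = ∏ i ∈ s, (f i).coeff (d i) := by
  classical
  induction s using Finset.induction with
  | empty => simp
  | insert a s ha ih =>
    obtain ⟨h1, h2⟩ := ih fun i hi => h i (Finset.mem_insert_of_mem hi)
    have h3 := h a (Finset.mem_insert_self _ _)
    rw [Finset.prod_insert ha, Finset.sum_insert ha, Finset.prod_insert ha]
    exact ⟨Polynomial.natDegree_mul_le.trans (add_le_add h3 h1),
      by rw [Polynomial.coeff_mul_add_eq_of_natDegree_le h3 h1, h2]⟩

variable {k : Type u} [Field k] {K : Type v} [Field K] [Algebra k K] {r : ℕ}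

noncomputable def sub (g : Fin r → K) (N : ℕ) : MvPolynomial (Fin r) k →ₐ[k] Polynomial (MvPolynomial (Fin r) K) :=
  aeval fun i => Polynomial.C (X i) + Polynomial.C (C (g i)) * Polynomial.X ^ N

theorem sub_top (g : Fin r → K) {N : ℕ} (hN : 0 < N) (p : MvPolynomial (Fin r) k) (e : ℕ) (hp : p.totalDegree ≤ e) :
    (sub g N p).natDegree ≤ e * N ∧
      (sub g N p).coeff (e * N) = C (aeval g (homogeneousComponent e p)) := by
  classical
  have hcoef : ∀ i : Fin r, (Polynomial.C (X i) + Polynomial.C (C (g i)) * Polynomial.X ^ N).natDegree ≤ N ∧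
      (Polynomial.C (X i) + Polynomial.C (C (g i)) * Polynomial.X ^ N : Polynomial (MvPolynomial (Fin r) K)).coeff N = C (g i) := by
    intro i
    refine ⟨?_, ?_⟩
    · exact (Polynomial.natDegree_add_le _ _).trans (max_le (by simp) (Polynomial.natDegree_C_mul_X_pow_le _ _))
    · simp [Polynomial.coeff_C, hN.ne']
  have hmono : ∀ (m : Fin r →₀ ℕ) (c : k), m.degree ≤ e →
      (sub g N (monomial m c)).natDegree ≤ e * N ∧
        (sub g N (monomial m c)).coeff (e * N) = if m.degree = e then C (aeval g (monomial m c)) else 0 := by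
    intro m c hm
    have he : sub g N (monomial m c) = Polynomial.C (C (algebraMap k K c)) *
        ∏ i, (Polynomial.C (X i) + Polynomial.C (C (g i)) * Polynomial.X ^ N) ^ (m i) := by
      rw [sub, aeval_monomial, Finsupp.prod_fintype _ _ (fun i => pow_zero _)]
      congr 1
    obtain ⟨h1, h2⟩ := coeff_prod_top univ
      (fun i => (Polynomial.C (X i) + Polynomial.C (C (g i)) * Polynomial.X ^ N : Polynomial (MvPolynomial (Fin r) K)) ^ (m i))
      (fun i => m i * N) (fun i _ => Polynomial.natDegree_pow_le.trans (Nat.mul_le_mul_left _ (hcoef i).1))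
    have hsum : ∑ i, m i * N = m.degree * N := by
      rw [← Finset.sum_mul, Finsupp.degree_eq_sum]
    rw [hsum] at h1 h2
    have hle : (sub g N (monomial m c)).natDegree ≤ m.degree * N := by
      rw [he]; exact (Polynomial.natDegree_C_mul_le _ _).trans h1
    refine ⟨hle.trans (Nat.mul_le_mul_right _ hm), ?_⟩
    split_ifs with h
    · rw [← h, he, Polynomial.coeff_C_mul, h2, aeval_monomial, map_mul,
        Finsupp.prod_fintype _ _ (fun i => pow_zero _), map_prod]
      congr 1
      refine Finset.prod_congr rfl fun i _ => ?_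
      rw [Polynomial.coeff_pow_of_natDegree_le (hcoef i).1, (hcoef i).2, map_pow]
    · exact Polynomial.coeff_eq_zero_of_natDegree_lt
        (hle.trans_lt (Nat.mul_lt_mul_of_pos_right (lt_of_le_of_ne hm h) hN))
  have hsup : ∀ m ∈ p.support, m.degree ≤ e := fun m hm =>
    le_trans (by simpa [Finsupp.degree_apply, Finsupp.sum] using MvPolynomial.le_totalDegree hm) hp
  refine ⟨?_, ?_⟩
  · conv_lhs => rw [p.as_sum, map_sum]
    exact Polynomial.natDegree_sum_le_of_forall_le _ _ fun m hm => (hmono m _ (hsup m hm)).1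
  · conv_lhs => rw [p.as_sum, map_sum, Polynomial.finsetSum_coeff]
    rw [Finset.sum_congr rfl fun m hm => (hmono m _ (hsup m hm)).2, homogeneousComponent_apply,
      map_sum, map_sum, Finset.sum_filter]

theorem exists_top (f : Polynomial (MvPolynomial (Fin r) k)) (hf : f ≠ 0) :
    ∃ (h : MvPolynomial (Fin r) k) (e j₀ : ℕ), h ≠ 0 ∧
      (e = 0 → j₀ = 0 → f.natDegree = 0 ∧ (f.coeff 0).totalDegree = 0) ∧
      ∀ (K : Type v) [Field K] [Algebra k K] (g : Fin r → K) (N : ℕ), f.natDegree < N →
        (Polynomial.eval₂ (sub g N).toRingHom Polynomial.X f).natDegree ≤ e * N + j₀ ∧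
        (Polynomial.eval₂ (sub g N).toRingHom Polynomial.X f).coeff (e * N + j₀) = C (aeval g h) := by
  classical
  set e := f.support.sup fun j => (f.coeff j).totalDegree
  have hne : (f.support.filter fun j => (f.coeff j).totalDegree = e).Nonempty := by
    obtain ⟨j, hj, hje⟩ := Finset.exists_mem_eq_sup _ (Polynomial.nonempty_support_iff.mpr hf)
      (fun j => (f.coeff j).totalDegree)
    exact ⟨j, Finset.mem_filter.mpr ⟨hj, hje.symm⟩⟩
  set j₀ := (f.support.filter fun j => (f.coeff j).totalDegree = e).max' hne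
  have hj₀ := Finset.mem_filter.mp (Finset.max'_mem _ hne)
  refine ⟨homogeneousComponent e (f.coeff j₀), e, j₀, ?_, ?_, ?_⟩
  · have hne0 : f.coeff j₀ ≠ 0 := Polynomial.mem_support_iff.mp hj₀.1
    obtain ⟨m, hm, hdeg⟩ := Finset.exists_mem_eq_sup _ (MvPolynomial.support_nonempty.mpr hne0)
      (fun m : Fin r →₀ ℕ => m.sum fun _ n => n)
    have hme : m.degree = e := by
      rw [← hj₀.2, MvPolynomial.totalDegree, hdeg]; rfl
    intro h0
    have := congrArg (coeff m) h0
    rw [coeff_homogeneousComponent, if_pos hme, coeff_zero] at this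
    exact MvPolynomial.mem_support_iff.mp hm this
  · intro he hj
    have hle : ∀ j ∈ f.support, j = 0 := by
      intro j hjs
      have h1 : (f.coeff j).totalDegree = e :=
        le_antisymm (Finset.le_sup (f := fun j => (f.coeff j).totalDegree) hjs) (he ▸ Nat.zero_le _)
      have := Finset.le_max' (f.support.filter fun j => (f.coeff j).totalDegree = e) j (Finset.mem_filter.mpr ⟨hjs, h1⟩)
      omega
    refine ⟨?_, ?_⟩
    · exact Nat.le_zero.mp (Polynomial.natDegree_le_iff_coeff_eq_zero.mpr fun j hj' => by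
        by_contra hc
        have := hle j (Polynomial.mem_support_iff.mpr hc)
        omega)
    · have := hj₀.2
      rw [show (f.support.filter fun j => (f.coeff j).totalDegree = e).max' hne = 0 from hj, he] at this
      exact this
  · intro K _ _ g N hN
    have hNpos : 0 < N := by omega
    have hterm : ∀ j ∈ f.support,
        ((sub g N (f.coeff j)) * Polynomial.X ^ j).natDegree ≤ e * N + j₀ ∧
        (j ≠ j₀ → ((sub g N (f.coeff j)) * Polynomial.X ^ j).natDegree < e * N + j₀) := by
      intro j hj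
      have hdeg : (sub g N (f.coeff j)).natDegree ≤ (f.coeff j).totalDegree * N :=
        (sub_top g hNpos _ _ le_rfl).1
      have hde : (f.coeff j).totalDegree ≤ e := Finset.le_sup (f := fun j => (f.coeff j).totalDegree) hj
      have hjN : j < N := lt_of_le_of_lt (Polynomial.le_natDegree_of_mem_supp _ hj) hN
      have hd : ((sub g N (f.coeff j)) * Polynomial.X ^ j).natDegree ≤ (f.coeff j).totalDegree * N + j :=
        Polynomial.natDegree_mul_le.trans (add_le_add hdeg (Polynomial.natDegree_X_pow_le _))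
      rcases hde.lt_or_eq with h | h
      · have h' : (f.coeff j).totalDegree * N + j < e * N + j₀ := by
          have := Nat.mul_le_mul_right N (Nat.succ_le_of_lt h)
          rw [Nat.succ_mul] at this
          omega
        exact ⟨by omega, fun _ => by omega⟩
      · have := Finset.le_max' (f.support.filter fun j => (f.coeff j).totalDegree = e) j (Finset.mem_filter.mpr ⟨hj, h⟩)
        rw [h] at hd
        exact ⟨hd.trans (by omega), fun hne' => lt_of_le_of_lt hd (by omega)⟩
    rw [Polynomial.eval₂_eq_sum, Polynomial.sum_def]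
    refine ⟨Polynomial.natDegree_sum_le_of_forall_le _ _ fun j hj => (hterm j hj).1, ?_⟩
    rw [Polynomial.finsetSum_coeff, Finset.sum_eq_single j₀]
    · change ((sub g N (f.coeff j₀)) * Polynomial.X ^ j₀).coeff (e * N + j₀) = _
      rw [Polynomial.coeff_mul_X_pow, (sub_top g hNpos _ e (le_of_eq hj₀.2)).2]
    · intro j hj hne'
      exact Polynomial.coeff_eq_zero_of_natDegree_lt ((hterm j hj).2 hne')
    · exact fun h => absurd hj₀.1 h

theorem leading (f : Polynomial (MvPolynomial (Fin r) k)) (hf : f ≠ 0) (m : ℕ) :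
    ∃ h : MvPolynomial (Fin r) k, h ≠ 0 ∧ ∃ s₀ : ℕ, ∀ s : ℕ, s₀ ≤ s →
      ∀ (K : Type v) [Field K] [Algebra k K] (g : Fin r → K), aeval g h ≠ 0 →
        ∃ c : K, c ≠ 0 ∧
          (Polynomial.eval₂ (sub g (s * (m + 1))).toRingHom Polynomial.X f).leadingCoeff = C c := by
  obtain ⟨h, e, j₀, hh, -, key⟩ := exists_top.{u, v} f hf
  refine ⟨h, hh, f.natDegree + 1, fun s hs K _ _ g hg => ⟨aeval g h, hg, ?_⟩⟩
  have hN : f.natDegree < s * (m + 1) := lt_of_lt_of_le (by omega) (Nat.le_mul_of_pos_right s (Nat.succ_pos m))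
  obtain ⟨h1, h2⟩ := key K g _ hN
  rw [Polynomial.leadingCoeff, Polynomial.natDegree_eq_of_le_of_coeff_ne_zero h1 (by rw [h2]; exact fun hc => hg (C_injective _ _ (hc.trans (map_zero C).symm))), h2]

theorem finite_injective (f : Polynomial (MvPolynomial (Fin r) k)) (hirr : Irreducible f) (h0 : IsUnit (f.coeff 0))
    (m : ℕ) :
    ∃ h : MvPolynomial (Fin r) k, h ≠ 0 ∧ ∃ s₀ : ℕ, ∀ s : ℕ, s₀ ≤ s →
      ∀ (K : Type v) [Field K] [Algebra k K] (g : Fin r → K), aeval g h ≠ 0 →
        ∀ F : Polynomial (MvPolynomial (Fin r) K),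
          F = Polynomial.eval₂ (sub g (s * (m + 1))).toRingHom Polynomial.X f →
          Module.Finite (MvPolynomial (Fin r) K) (Polynomial (MvPolynomial (Fin r) K) ⧸ Ideal.span {F}) ∧
          Function.Injective ((Ideal.Quotient.mk (Ideal.span {F})).comp (algebraMap (MvPolynomial (Fin r) K) (Polynomial (MvPolynomial (Fin r) K)))) := by
  obtain ⟨h, e, j₀, hh, hconst, key⟩ := exists_top.{u, v} f hirr.ne_zero
  refine ⟨h, hh, f.natDegree + 1, fun s hs K _ _ g hg F hF => ?_⟩
  have hN : f.natDegree < s * (m + 1) := lt_of_lt_of_le (by omega) (Nat.le_mul_of_pos_right s (Nat.succ_pos m))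
  obtain ⟨h1, h2⟩ := key K g _ hN
  rw [← hF] at h1 h2
  have hdeg : F.natDegree = e * (s * (m + 1)) + j₀ :=
    Polynomial.natDegree_eq_of_le_of_coeff_ne_zero h1 (by rw [h2]; exact fun hc => hg (C_injective _ _ (hc.trans (map_zero C).symm)))
  have hu : IsUnit F.leadingCoeff := by
    rw [Polynomial.leadingCoeff, hdeg, h2]
    exact (isUnit_iff_ne_zero.mpr hg).map C
  have hpos : 0 < F.natDegree := by
    rw [hdeg]
    by_contra hc
    simp only [not_lt, Nat.le_zero, Nat.add_eq_zero_iff, Nat.mul_eq_zero] at hc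
    obtain ⟨hf0, -⟩ := hconst (hc.1.resolve_right (by omega)) hc.2
    apply hirr.not_isUnit
    rw [Polynomial.eq_C_of_natDegree_eq_zero hf0]
    exact h0.map Polynomial.C
  set c : MvPolynomial (Fin r) K := ↑hu.unit⁻¹
  have hcu : IsUnit c := Units.isUnit _
  have hmon : (Polynomial.C c * F).Monic :=
    Polynomial.monic_C_mul_of_mul_leadingCoeff_eq_one (hu.val_inv_mul)
  have hspan : Ideal.span {F} = Ideal.span {Polynomial.C c * F} :=
    (Ideal.span_singleton_mul_left_unit (hcu.map Polynomial.C) F).symm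
  refine ⟨?_, ?_⟩
  · rw [hspan]
    exact hmon.finite_adjoinRoot
  · rw [injective_iff_map_eq_zero]
    intro x hx
    rw [RingHom.comp_apply, Ideal.Quotient.eq_zero_iff_mem, hspan, Ideal.mem_span_singleton,
      Polynomial.algebraMap_apply, Algebra.algebraMap_self, RingHom.id_apply,
      ← Polynomial.modByMonic_eq_zero_iff_dvd hmon] at hx
    rw [(Polynomial.modByMonic_eq_self_iff hmon).mpr ?_, Polynomial.C_eq_zero] at hx
    · exact hx
    · refine lt_of_le_of_lt Polynomial.degree_C_le ?_
      rw [Polynomial.degree_eq_natDegree hmon.ne_zero]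
      exact_mod_cast (show 0 < (Polynomial.C c * F).natDegree by
        rw [Polynomial.natDegree_C_mul_of_mul_ne_zero (by rw [hu.val_inv_mul]; exact one_ne_zero)]; exact hpos)

end Groth.Misc8.Translate
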